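import Cfsg.Agent.H765.EPS.Basic_m3
import Cfsg.Agent.H889.QForm
import Cfsg.Agent.ClassicalGeometry.GenReflections
import Cfsg.Agent.H181.StdBasis
import Cfsg.Agent.H893.EP.GeoL_m3
import Cfsg.Agent.H907.FieldSub
import Cfsg.Agent.H578.RC.Lin_m3
import Cfsg.Agent.H571.EP.OmC3Q_m3
import Cfsg.Agent.H926.Deg
import Cfsg.Agent.H919.AschWreathForm4
import Cfsg.Agent.H419.EP.Targets_m3
import Cfsg.Agent.H883.Bridge
import Cfsg.Agent.H926.Sub1
import Cfsg.Agent.H926.Split
import Cfsg.Agent.H925.OrthBasic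
import Cfsg.Agent.ClassicalGeometry.HermOrtho
import Cfsg.Agent.ClassicalGeometry.UnitTransv
import Cfsg.Agent.ClassicalGeometry.GUBasic
import Cfsg.Agent.H251.GeoCardC
import Cfsg.Agent.H262.ElTransv
import Cfsg.Agent.H918.UBase
import Cfsg.Agent.Lib.Cores
import Cfsg.Agent.H881.Wrap
import Cfsg.Agent.H912.TensForm3
import Cfsg.Agent.H921.UnitWreath
import Mathlib
import Cfsg.Agent.H881.Wrap2
import Cfsg.Agent.H919.AschWreathForm
import Cfsg.Agent.H59.EP.UBGen
import Cfsg.Agent.SigZeroU5.Lin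
import Cfsg.Agent.LieClassical.OmegaFive
import Cfsg.Agent.LieClassical.SympCenter
import Cfsg.Agent.S0270
import Cfsg.Agent.S5914
import Cfsg.Agent.LieClassical.SympCount
import Cfsg.Agent.KFacts.RgdFiltClass
import Cfsg.Agent.H243.EP.OwnNum_m3
import Cfsg.Agent.DS.Cl.Grp
import Cfsg.Agent.H528.EP.UB3_m3
import Cfsg.Agent.S0814
import Cfsg.Agent.FastGrp
import Cfsg.Agent.Prune
set_option linter.all false

section
prune_inst 0x7f00000000000000000000000000000000000000000000000000000000000000000000000000000000000000000000000000000000000000000000000000000000000000000000000000000000000000003fffffffffffffffffffffffffffaeffbdffffffff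

section
prune_inst 0xfca9f8abb8a5dfdfff7e77a690cdfc39911fffa4dff94b7fe061cf0bdf03000dc523a589e010fe1e82421410a87803f9ffebbfe26bd87ffffd1df41ffbee0fe5f6b508519488340f380ff703f0778e7f000000000000000000000000000000000200000000

-- part: H681/EP/OmC3Asm_mg
section
prune_inst 0x20003004102200000000000060001c4282000000000808000001000004802c0000000020a01000015000080400300060014400000000000000200000011c00800000000000400000000000000000000000000000000000000000000000010000000000000
set_option linter.all false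
open scoped Cfsg.Agent.FastGrp

-- part: H681/EP/OmUK
section
/-!
# S3499, class C3 of the orthogonal groups, unitary type: tools (helper681)

* `mem_of_sq`, `conj_mem_of_sq` : the two kill criteria with squares;
* `UK q K θ b N` : `K = F ⊕ F θ` a quadratic field of matrices, `θ* = b - θ`, `θ θ* = N`; `exists_uk`; `UK.conj`,
  `UK.sq_comm` : the normaliser of `K`;
* `Fm q θ b N` : `q (θ x) = N q x`, `(x, θ x) = b q x` (`UK.form_odd`, `UK.form_even`);
* `Pr q θ u v`, `Pp q θ u v w` : pairs of singular vectors, the orthogonal space.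
-/

set_option autoImplicit false
set_option linter.unusedSectionVars false

open Cfsg Cfsg.Geo Matrix QuadraticMap

namespace Cfsg.Agent.H681.EP

open Cfsg.Agent.H284 Cfsg.Agent.ClassicalGeometry.Reflection

section crit
open Subgroup
variable {Q : Type*} [Group Q] {A : Subgroup Q} {Γ : Subgroup (MulAut Q)}

/-- **Kill criterion (T2), squares.** -/
theorem mem_of_sq (h : EPT A Γ) {z : Q} (hz : z ∈ A) (hz1 : z ≠ 1) (hzc : ∀ g ∈ A, g ^ 2 * z = z * g ^ 2)
    {y t : Q} (hy : y ∈ A) (hy1 : y ^ 2 ≠ 1) (ht : t * y ^ 2 = y ^ 2 * t) : t ∈ A := by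
  set! X : Subgroup Q := _root_.Subgroup.closure {g | ∃ a ∈ A, g = a ^ 2} with hXdef
  have hXA : X ≤ A := (closure_le A).2 (by rintro g ⟨a, ha, rfl⟩; exact A.pow_mem ha 2)
  have hX : ∀ σ ∈ Γ, ∀ k ∈ X, σ k ∈ X := by
    intro σ hσ
    have h1 : X ≤ X.comap σ.toMonoidHom := by
      rw [hXdef, closure_le]
      rintro g ⟨a, ha, rfl⟩
      exact _root_.Subgroup.subset_closure ⟨σ a, (h.inv σ hσ a).2 ha, map_pow σ a 2⟩
    exact fun k hk => h1 hk
  have hzX : z ∈ centralizer (X : Set Q) := by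
    have h1 : X ≤ centralizer ({z} : Set Q) := by
      rw [hXdef, closure_le]
      rintro g ⟨a, ha, rfl⟩
      exact mem_centralizer_singleton_iff.2 (hzc a ha)
    rw [mem_centralizer_iff]
    intro x hx
    exact mem_centralizer_singleton_iff.1 (h1 hx)
  refine mem_of_comm' h hXA (inf_le_left : A ⊓ centralizer (X : Set Q) ≤ A) hX (centralizer_inv h hX) ?_ ?_
    (subset_closure ⟨y, hy, rfl⟩) hy1 ht
  · intro h1
    apply hz1
    rw [← mem_bot, ← h1]
    exact mem_inf.2 ⟨hz, hzX⟩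
  · intro a ha b hb
    exact mem_centralizer_iff.1 (mem_inf.1 hb).2 a ha

/-- **Kill criterion (KX).** -/
theorem conj_mem_of_sq (h : EPT A Γ) {x : Q} (hx : x ∉ A) {s : Q} (hs : s ∈ A) (hsx : x⁻¹ * s * x ∈ A)
    (hs1 : s ^ 2 ≠ 1) {y : Q} (hy : y ∈ A) (hyc : ∀ g ∈ A, x⁻¹ * g * x ∈ A → g ^ 2 * y = y * g ^ 2) :
    x⁻¹ * y * x ∈ A := by
  rw [← mem_cj]
  set! X : Subgroup Q := _root_.Subgroup.closure {g | ∃ a ∈ A ⊓ cj x A, g = a ^ 2} with hXdef
  refine h.norm_aut hx (K := X) ?_ ?_ ?_ hy ?_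
  · rw [hXdef, closure_le]
    rintro g ⟨a, ha, rfl⟩
    exact (A ⊓ cj x A).pow_mem ha 2
  · intro σ hσ
    have h1 : X ≤ X.comap σ.toMonoidHom := by
      rw [hXdef, closure_le]
      rintro g ⟨a, ha, rfl⟩
      exact _root_.Subgroup.subset_closure ⟨σ a, hσ a ha, map_pow σ a 2⟩
    exact fun k hk => h1 hk
  · intro h1
    apply hs1
    rw [← mem_bot, ← h1]
    exact subset_closure ⟨s, mem_inf.2 ⟨hs, mem_cj.2 hsx⟩, rfl⟩
  · have h1 : X ≤ centralizer ({y} : Set Q) := by
      rw [hXdef, closure_le]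
      rintro g ⟨a, ha, rfl⟩
      exact mem_centralizer_singleton_iff.2 (hyc a (mem_inf.1 ha).1 (mem_cj.1 (mem_inf.1 ha).2))
    intro k hk
    rw [← mem_centralizer_singleton_iff.1 (h1 hk), mul_inv_cancel_right]
    exact hk

end crit

section basic
variable {F : Type*} [Field F] {ι : Type} [Fintype ι] [DecidableEq ι]

theorem mat_ext {A B : Matrix ι ι F} (h : ∀ x, A *ᵥ x = B *ᵥ x) : A = B :=
  Matrix.mulVec_injective (funext h)

/-- `K = F ⊕ F θ`, `θ* = b - θ`, `θ θ* = N` -/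
structure UK (q : QuadraticForm F (ι → F)) (K : Subalgebra F (Matrix ι ι F)) (θ : Matrix ι ι F) (b N : F) : Prop where
  field : IsFieldSubalgebra 2 K
  mem : θ ∈ K
  adj : ∀ u v, polar q (θ *ᵥ u) v = b * polar q u v - polar q u (θ *ᵥ v)
  sq : θ * θ = b • θ - N • 1
  gen : ∀ x ∈ K, ∃ α β : F, x = α • 1 + β • θ
  ns : ∀ c : F, θ ≠ c • 1
  nb : θ + θ ≠ b • 1

variable {K : Subalgebra F (Matrix ι ι F)} {q : QuadraticForm F (ι → F)}

theorem one_smul_mem (c : F) : c • (1 : Matrix ι ι F) ∈ K := K.smul_mem K.one_mem c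

/-- `1`, `θ` span `K` -/
theorem gen_of_ns (hK : IsFieldSubalgebra 2 K) {θ : Matrix ι ι F} (hmem : θ ∈ K) (hns : ∀ c : F, θ ≠ c • 1) :
    ∀ x ∈ K, ∃ α β : F, x = α • 1 + β • θ := by
  classical
  have h10 : (1 : Matrix ι ι F) ≠ 0 := by
    intro h
    apply hns 0
    rw [zero_smul, ← mul_one θ, h, mul_zero]
  have hind : LinearIndependent F ![(⟨1, K.one_mem⟩ : K), ⟨θ, hmem⟩] := by
    rw [LinearIndependent.pair_iff]
    intro s t hst
    have h1 : s • (1 : Matrix ι ι F) + t • θ = 0 := congrArg Subtype.val hst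
    by_cases ht : t = 0
    · subst ht
      rw [zero_smul, add_zero] at h1
      exact ⟨(smul_eq_zero.1 h1).resolve_right h10, rfl⟩
    · exfalso
      apply hns (-(t⁻¹ * s))
      have h3 : t • θ = -(s • (1 : Matrix ι ι F)) := eq_neg_of_add_eq_zero_right h1
      have h4 : θ = t⁻¹ • (t • θ) := by rw [smul_smul, inv_mul_cancel₀ ht, one_smul]
      rw [h4, h3, smul_neg, smul_smul, neg_smul]
  have hspan := hind.span_eq_top_of_card_eq_finrank (by rw [Fintype.card_fin, hK.finrank_eq])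
  intro x hx
  have h1 : (⟨x, hx⟩ : K) ∈ Submodule.span F (Set.range ![(⟨1, K.one_mem⟩ : K), ⟨θ, hmem⟩]) := by
    rw [hspan]; exact Submodule.mem_top
  rw [Matrix.range_cons, Matrix.range_cons, Matrix.range_empty, Set.union_empty, Set.singleton_union,
    Submodule.mem_span_pair] at h1
  obtain ⟨α, β, h2⟩ := h1
  exact ⟨α, β, (congrArg Subtype.val h2).symm⟩

theorem exists_uk (hK : IsFieldSubalgebra 2 K) (hadj : IsAdjointClosedFor (polar q) K)
    (hn : ¬ IsSelfAdjointFor (polar q) K) : ∃ θ b N, UK q K θ b N := by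
  classical
  unfold IsSelfAdjointFor at hn
  push Not at hn
  obtain ⟨θ, hθ, u0, v0, hne⟩ := hn
  obtain ⟨θ1, hθ1, had⟩ := hadj θ hθ
  have had1 : ∀ u v, polar q (θ1 *ᵥ u) v = polar q u (θ *ᵥ v) := by
    intro u v
    rw [polar_comm, ← had, polar_comm]
  -- self-adjoint elements are scalars
  have hsa : ∀ c ∈ K, (∀ u v, polar q (c *ᵥ u) v = polar q u (c *ᵥ v)) → ∃ α : F, c = α • 1 := by
    intro c hc hcs
    by_contra hcon
    push Not at hcon
    obtain ⟨α, β, e⟩ := gen_of_ns hK hc hcon θ hθ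
    apply hne
    simp only [e, Matrix.add_mulVec, Matrix.add_mulVec, Matrix.smul_mulVec, Matrix.smul_mulVec, Matrix.smul_mulVec,
      Matrix.smul_mulVec, Matrix.one_mulVec, Matrix.one_mulVec, polar_add_left, polar_add_right, polar_smul_left,
      polar_smul_left, polar_smul_right, polar_smul_right, hcs]
  have hns : ∀ c : F, θ ≠ c • 1 := by
    rintro c rfl
    apply hne
    rw [Matrix.smul_mulVec, Matrix.smul_mulVec, Matrix.one_mulVec, Matrix.one_mulVec, polar_smul_left,
      polar_smul_right]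
  obtain ⟨b, hb⟩ := hsa (θ + θ1) (K.add_mem hθ hθ1) (by
    intro u v
    rw [Matrix.add_mulVec, Matrix.add_mulVec, polar_add_left, polar_add_right, had, had1, add_comm])
  obtain ⟨N, hN⟩ := hsa (θ * θ1) (K.mul_mem hθ hθ1) (by
    intro u v
    rw [hK.comm θ hθ θ1 hθ1, ← Matrix.mulVec_mulVec, had1, had, Matrix.mulVec_mulVec])
  have e1 : θ1 = b • 1 - θ := by rw [← hb, add_sub_cancel_left]
  refine ⟨θ, b, N, hK, hθ, ?_, ?_, gen_of_ns hK hθ hns, hns, ?_⟩
  · intro u v
    rw [had, e1, Matrix.sub_mulVec, Matrix.smul_mulVec, Matrix.one_mulVec, sub_eq_add_neg, polar_add_right,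
      polar_smul_right, polar_neg_right, smul_eq_mul, ← sub_eq_add_neg]
  · rw [← hN, e1, mul_sub, mul_smul_comm, mul_one, sub_sub_cancel]
  · intro e
    apply hne
    rw [had]
    congr 1
    have : θ1 = θ := by rw [e1, ← e, add_sub_cancel_right]
    rw [this]

namespace UK

variable {θ : Matrix ι ι F} {b N : F} (h : UK q K θ b N)

include h

theorem ne : θ ≠ 0 := by
  have := h.ns 0
  rwa [zero_smul] at this

theorem one_ne : (1 : Matrix ι ι F) ≠ 0 := by
  intro e
  apply h.ne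
  rw [← mul_one θ, e, mul_zero]

theorem two (v : ι → F) : θ *ᵥ (θ *ᵥ v) = b • (θ *ᵥ v) - N • v := by
  rw [Matrix.mulVec_mulVec, h.sq, Matrix.sub_mulVec, Matrix.smul_mulVec, Matrix.smul_mulVec, Matrix.one_mulVec]

theorem inj {x : Matrix ι ι F} (hx : x ∈ K) (hx0 : x ≠ 0) {v : ι → F} (hv : x *ᵥ v = 0) : v = 0 := by
  obtain ⟨y, hy, hy1⟩ := h.field.inv _ hx hx0
  rw [h.field.comm _ hx y hy] at hy1
  rw [← Matrix.one_mulVec v, ← hy1, ← Matrix.mulVec_mulVec, hv, Matrix.mulVec_zero]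

/-- `1`, `θ` are independent on every nonzero vector -/
theorem lin {v : ι → F} (hv : v ≠ 0) {α β : F} (e : α • v + β • (θ *ᵥ v) = 0) : α = 0 ∧ β = 0 := by
  by_contra hcon
  have h0 : α • (1 : Matrix ι ι F) + β • θ ≠ 0 := by
    intro h0
    apply hcon
    by_cases hb : β = 0
    · subst hb
      rw [zero_smul, add_zero] at h0
      exact ⟨(smul_eq_zero.1 h0).resolve_right h.one_ne, rfl⟩
    · exfalso
      apply h.ns (-(β⁻¹ * α))
      have h3 : β • θ = -(α • (1 : Matrix ι ι F)) := eq_neg_of_add_eq_zero_right h0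
      have h4 : θ = β⁻¹ • (β • θ) := by rw [smul_smul, inv_mul_cancel₀ hb, one_smul]
      rw [h4, h3, smul_neg, smul_smul, neg_smul]
  apply hv
  apply h.inj (K.add_mem (one_smul_mem α) (K.smul_mem h.mem β)) h0
  rw [Matrix.add_mulVec, Matrix.smul_mulVec, Matrix.smul_mulVec, Matrix.one_mulVec, e]

theorem mulVec_ne {v : ι → F} (hv : v ≠ 0) : θ *ᵥ v ≠ 0 := by
  intro e
  have := (h.lin hv (α := 0) (β := 1) (by rw [zero_smul, e, smul_zero, add_zero])).2
  exact one_ne_zero this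

theorem mul_eq_zero {x y : Matrix ι ι F} (hx : x ∈ K) (hy : y ∈ K) (e : x * y = 0) : x = 0 ∨ y = 0 := by
  by_cases hx0 : x = 0
  · exact Or.inl hx0
  · right
    obtain ⟨z, hz, hz1⟩ := h.field.inv _ hx hx0
    rw [h.field.comm _ hx z hz] at hz1
    calc y = (z * x) * y := by rw [hz1, one_mul]
      _ = 0 := by rw [mul_assoc, e, mul_zero]

theorem N_ne : N ≠ 0 := by
  intro hN
  have e := h.sq
  rw [hN, zero_smul, sub_zero] at e
  have e1 : θ * (θ - b • 1) = 0 := by
    rw [mul_sub, mul_smul_comm, mul_one, e, sub_self]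
  rcases h.mul_eq_zero h.mem (K.sub_mem h.mem (one_smul_mem b)) e1 with h1 | h1
  · exact h.ne h1
  · exact h.ns b (sub_eq_zero.1 h1)

/-- normalising `K` -/
theorem conj {g : GL ι F} (hg : g ∈ subalgebraNormalizer K) :
    (g : Matrix ι ι F) * θ = θ * g ∨ (g : Matrix ι ι F) * θ = b • (g : Matrix ι ι F) - θ * g := by
  obtain ⟨g', hg'⟩ : ∃ g' : Matrix ι ι F, g' = ((g⁻¹ : GL ι F) : Matrix ι ι F) := ⟨_, rfl⟩
  have hgg' : g' * (g : Matrix ι ι F) = 1 := by
    rw [hg', ← Units.val_mul, inv_mul_cancel, Units.val_one]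
  have hgg : (g : Matrix ι ι F) * g' = 1 := by
    rw [hg', ← Units.val_mul, mul_inv_cancel, Units.val_one]
  have hφ : (g : Matrix ι ι F) * θ * g' ∈ K := by rw [hg']; exact (hg θ).1 h.mem
  obtain ⟨φ, e⟩ : ∃ φ, φ = (g : Matrix ι ι F) * θ * g' := ⟨_, rfl⟩
  have hφg : φ * (g : Matrix ι ι F) = (g : Matrix ι ι F) * θ := by rw [e, mul_assoc, hgg', mul_one]
  have hφ2 : φ * φ = b • φ - N • 1 := by
    have : φ * φ = (g : Matrix ι ι F) * (θ * θ) * g' := by
      rw [e]
      simp only [mul_assoc]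
      rw [← mul_assoc g' (g : Matrix ι ι F), hgg', one_mul]
    rw [this, h.sq, mul_sub, sub_mul, mul_smul_comm, mul_smul_comm, smul_mul_assoc, smul_mul_assoc, ← e, mul_one, hgg]
  rw [← e] at hφ
  have e1 : (φ - θ) * (φ - (b • 1 - θ)) = 0 := by
    rw [sub_mul, mul_sub, mul_sub, mul_sub, mul_sub, hφ2, h.sq, mul_smul_comm, mul_smul_comm, mul_one, mul_one,
      h.field.comm _ hφ _ h.mem]
    abel
  rcases h.mul_eq_zero (K.sub_mem hφ h.mem) (K.sub_mem hφ (K.sub_mem (one_smul_mem b) h.mem)) e1 with h1 | h1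
  · left
    rw [← hφg, sub_eq_zero.1 h1]
  · right
    rw [← hφg, sub_eq_zero.1 h1, sub_mul, smul_mul_assoc, one_mul]

theorem sq_comm {g : GL ι F} (hg : g ∈ subalgebraNormalizer K) :
    (g : Matrix ι ι F) * g * θ = θ * (g * g) := by
  rcases h.conj hg with h1 | h1
  · rw [mul_assoc, h1, ← mul_assoc, h1, mul_assoc]
  · rw [mul_assoc, h1, mul_sub, ← mul_assoc (g : Matrix ι ι F) θ, h1, sub_mul, mul_smul_comm, smul_mul_assoc,
      mul_assoc]
    abel

/-- matrices commuting with `θ` normalise `K` -/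
theorem mem_norm {g : GL ι F} (hg : (g : Matrix ι ι F) * θ = θ * g) : g ∈ subalgebraNormalizer K := by
  obtain ⟨g', hg'⟩ : ∃ g' : Matrix ι ι F, g' = ((g⁻¹ : GL ι F) : Matrix ι ι F) := ⟨_, rfl⟩
  have hgg' : g' * (g : Matrix ι ι F) = 1 := by
    rw [hg', ← Units.val_mul, inv_mul_cancel, Units.val_one]
  have hgg : (g : Matrix ι ι F) * g' = 1 := by
    rw [hg', ← Units.val_mul, mul_inv_cancel, Units.val_one]
  have key : ∀ x ∈ K, (g : Matrix ι ι F) * x = x * g := by
    intro x hx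
    obtain ⟨α, β, rfl⟩ := h.gen x hx
    rw [mul_add, add_mul, mul_smul_comm, mul_smul_comm, smul_mul_assoc, smul_mul_assoc, hg, mul_one, one_mul]
  intro x
  rw [← hg']
  constructor
  · intro hx
    rw [key x hx, mul_assoc, hgg, mul_one]
    exact hx
  · intro hx
    have h1 := key _ hx
    have h2 : x = (g : Matrix ι ι F) * x * g' := by
      have h3 : g' * ((g : Matrix ι ι F) * ((g : Matrix ι ι F) * x * g')) =
          g' * ((g : Matrix ι ι F) * x * g' * (g : Matrix ι ι F)) := by rw [h1]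
      rw [← mul_assoc g' (g : Matrix ι ι F), hgg', one_mul, mul_assoc ((g : Matrix ι ι F) * x), hgg', mul_one,
        ← mul_assoc, hgg', one_mul] at h3
      exact h3.symm
    rw [h2]
    exact hx

end UK

end basic

section basic
variable {F : Type*} [Field F] {ι : Type} [Fintype ι] [DecidableEq ι]
variable {K : Subalgebra F (Matrix ι ι F)} {q : QuadraticForm F (ι → F)}

/-- the values of the form on the `K`-lines -/
def Fm (q : QuadraticForm F (ι → F)) (θ : Matrix ι ι F) (b N : F) : Prop :=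
  ∀ x, q (θ *ᵥ x) = N * q x ∧ polar q x (θ *ᵥ x) = b * q x

theorem q_sub (x y : ι → F) : q (x - y) = q x + q y - polar q x y := by
  rw [sub_eq_add_neg, map_add', QuadraticMap.map_neg, polar_neg_right, sub_eq_add_neg]

namespace UK

variable {θ : Matrix ι ι F} {b N : F} (h : UK q K θ b N)

include h

theorem adj' (u v : ι → F) : polar q u (θ *ᵥ v) = b * polar q u v - polar q (θ *ᵥ u) v := by
  rw [h.adj]; ring

theorem form_odd (h2 : (2 : F) ≠ 0) : Fm q θ b N := by
  have e2 : ∀ x, polar q x (θ *ᵥ x) = b * q x := by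
    intro x
    have e := h.adj x x
    rw [polar_comm, polar_self'] at e
    have : 2 * (polar q x (θ *ᵥ x) - b * q x) = 0 := by linear_combination e
    exact sub_eq_zero.1 ((_root_.mul_eq_zero.1 this).resolve_left h2)
  intro x
  refine ⟨?_, e2 x⟩
  have e := h.adj x (θ *ᵥ x)
  rw [polar_self', h.two, sub_eq_add_neg (b • (θ *ᵥ x)), polar_add_right, polar_neg_right, polar_smul_right,
    polar_smul_right, e2, polar_self', smul_eq_mul, smul_eq_mul] at e
  have : 2 * (q (θ *ᵥ x) - N * q x) = 0 := by linear_combination e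
  exact sub_eq_zero.1 ((_root_.mul_eq_zero.1 this).resolve_left h2)

end UK

theorem exists_lin [Finite F] [CharP F 2] (D : (ι → F) → F) (hadd : ∀ x y, D (x + y) = D x + D y)
    (hsmul : ∀ (c : F) x, D (c • x) = c ^ 2 * D x) : ∃ l : (ι → F) →ₗ[F] F, ∀ x, l x ^ 2 = D x := by
  haveI : Fact (Nat.Prime 2) := ⟨Nat.prime_two⟩
  haveI : PerfectRing F 2 := inferInstance
  refine ⟨{ toFun := fun x => (frobeniusEquiv F 2).symm (D x)
            map_add' := fun x y => by rw [hadd, map_add]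
            map_smul' := fun c x => ?_ }, fun x => ?_⟩
  · rw [hsmul, map_mul, RingHom.id_apply, smul_eq_mul]
    congr 1
    exact frobeniusEquiv_symm_pow F 2 c
  · exact frobeniusEquiv_symm_pow_p F 2 (D x)

namespace UK

variable {θ : Matrix ι ι F} {b N : F} (h : UK q K θ b N)

include h

theorem form_even [Finite F] (h2 : (2 : F) = 0) (hn : 3 ≤ Fintype.card ι) {H : Subgroup (GL ι F)}
    (hirr : ActsIrreducibly (matrixSet H)) (hHK : H ≤ subalgebraNormalizer K)
    (hHq : ∀ g ∈ H, ∀ x, q ((g : Matrix ι ι F) *ᵥ x) = q x) : Fm q θ b N := by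
  haveI : CharP F 2 := CharTwo.of_one_ne_zero_of_two_eq_zero one_ne_zero h2
  have hpol : ∀ g ∈ H, ∀ x y, polar q ((g : Matrix ι ι F) *ᵥ x) ((g : Matrix ι ι F) *ᵥ y) = polar q x y :=
    fun g hg x y => polar_mulVec_of_isometry q _ (hHq g hg) x y
  obtain ⟨l1, hl1⟩ := exists_lin (fun x => q (θ *ᵥ x) - N * q x) (by
    intro x y
    change q (θ *ᵥ (x + y)) - N * q (x + y) = _
    rw [Matrix.mulVec_add, map_add', map_add', h.adj, h.two, sub_eq_add_neg (b • (θ *ᵥ y)), polar_add_right,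
      polar_neg_right, polar_smul_right, polar_smul_right, smul_eq_mul, smul_eq_mul]
    ring) (by
    intro c x
    change q (θ *ᵥ (c • x)) - N * q (c • x) = _
    rw [Matrix.mulVec_smul, QuadraticMap.map_smul, QuadraticMap.map_smul, smul_eq_mul, smul_eq_mul]
    ring)
  obtain ⟨l2, hl2⟩ := exists_lin (fun x => polar q x (θ *ᵥ x) - b * q x) (by
    intro x y
    change polar q (x + y) (θ *ᵥ (x + y)) - b * q (x + y) = _
    rw [Matrix.mulVec_add, map_add', polar_add_left, polar_add_right, polar_add_right, h.adj' y x, polar_comm q (θ *ᵥ y) x,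
      polar_comm q y x]
    ring) (by
    intro c x
    change polar q (c • x) (θ *ᵥ (c • x)) - b * q (c • x) = _
    rw [Matrix.mulVec_smul, QuadraticMap.map_smul, polar_smul_left, polar_smul_right, smul_eq_mul, smul_eq_mul,
      smul_eq_mul]
    ring)
  have hk : ∀ x, x ∈ LinearMap.ker (l1.prod l2) ↔ l1 x = 0 ∧ l2 x = 0 := fun x => by
    rw [LinearMap.mem_ker]
    exact Prod.mk_eq_zero
  have hW := hirr (LinearMap.ker (l1.prod l2)) (by
    rintro _ ⟨g, hg, rfl⟩
    rintro _ ⟨x, hx, rfl⟩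
    rw [SetLike.mem_coe, hk] at hx
    rw [hk]
    have e1 := hl1 x
    have e2 := hl2 x
    rw [hx.1, zero_pow two_ne_zero] at e1
    rw [hx.2, zero_pow two_ne_zero] at e2
    change 0 = q (θ *ᵥ x) - N * q x at e1
    change 0 = polar q x (θ *ᵥ x) - b * q x at e2
    have e3 := hl1 (Matrix.toLin' (g : Matrix ι ι F) x)
    have e4 := hl2 (Matrix.toLin' (g : Matrix ι ι F) x)
    change _ = q (θ *ᵥ ((g : Matrix ι ι F) *ᵥ x)) - N * q ((g : Matrix ι ι F) *ᵥ x) at e3
    change _ = polar q ((g : Matrix ι ι F) *ᵥ x) (θ *ᵥ ((g : Matrix ι ι F) *ᵥ x)) - b * q ((g : Matrix ι ι F) *ᵥ x) at e4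
    rw [hHq g hg] at e3 e4
    have key : q (θ *ᵥ ((g : Matrix ι ι F) *ᵥ x)) = N * q x ∧
        polar q ((g : Matrix ι ι F) *ᵥ x) (θ *ᵥ ((g : Matrix ι ι F) *ᵥ x)) = b * q x := by
      rcases h.conj (hHK hg) with hc | hc
      · rw [Matrix.mulVec_mulVec, ← hc, ← Matrix.mulVec_mulVec, hHq g hg, hpol g hg]
        exact ⟨by linear_combination -e1, by linear_combination -e2⟩
      · have hc' : θ *ᵥ ((g : Matrix ι ι F) *ᵥ x) = (g : Matrix ι ι F) *ᵥ (b • x - θ *ᵥ x) := by
          rw [Matrix.mulVec_mulVec, Matrix.mulVec_sub, Matrix.mulVec_smul, Matrix.mulVec_mulVec, hc,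
            Matrix.sub_mulVec, Matrix.smul_mulVec, sub_sub_cancel]
        rw [hc', hHq g hg, hpol g hg, q_sub, sub_eq_add_neg (b • x), polar_add_right, polar_neg_right,
          polar_smul_right, polar_smul_left, QuadraticMap.map_smul, polar_self', smul_eq_mul, smul_eq_mul,
          smul_eq_mul]
        exact ⟨by linear_combination -e1 + b * e2, by linear_combination e2⟩
    refine ⟨?_, ?_⟩
    · rw [key.1, sub_self] at e3
      exact pow_eq_zero_iff two_ne_zero |>.1 e3
    · rw [key.2, sub_self] at e4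
      exact pow_eq_zero_iff two_ne_zero |>.1 e4)
  have htop : LinearMap.ker (l1.prod l2) = ⊤ := by
    rcases hW with hW | hW
    · exfalso
      have h1 := (l1.prod l2).finrank_range_add_finrank_ker
      rw [hW, finrank_bot, add_zero, Module.finrank_fintype_fun_eq_card] at h1
      have h3 := Submodule.finrank_le (LinearMap.range (l1.prod l2))
      rw [Module.finrank_prod, Module.finrank_self] at h3
      omega
    · exact hW
  intro x
  have hx : x ∈ LinearMap.ker (l1.prod l2) := by rw [htop]; exact Submodule.mem_top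
  rw [hk] at hx
  have e1 := hl1 x
  have e2 := hl2 x
  rw [hx.1, zero_pow two_ne_zero] at e1
  rw [hx.2, zero_pow two_ne_zero] at e2
  change 0 = q (θ *ᵥ x) - N * q x at e1
  change 0 = polar q x (θ *ᵥ x) - b * q x at e2
  exact ⟨by linear_combination -e1, by linear_combination -e2⟩

end UK

end basic

section pair
variable {F : Type*} [Field F] {ι : Type} [Fintype ι] [DecidableEq ι]
variable {K : Subalgebra F (Matrix ι ι F)} {q : QuadraticForm F (ι → F)} {θ : Matrix ι ι F} {b N : F}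

/-- a pair of singular vectors with `⟨u, θ v⟩` hyperbolic, `u ⊥ v` -/
structure Pr (q : QuadraticForm F (ι → F)) (θ : Matrix ι ι F) (u v : ι → F) : Prop where
  qu : q u = 0
  qv : q v = 0
  uv : polar q u v = 0
  tuv : polar q (θ *ᵥ u) v = 1

/-- orthogonal to `u`, `θ u`, `v`, `θ v` -/
structure Pp (q : QuadraticForm F (ι → F)) (θ : Matrix ι ι F) (u v w : ι → F) : Prop where
  pu : polar q u w = 0
  ptu : polar q (θ *ᵥ u) w = 0
  pv : polar q v w = 0
  ptv : polar q (θ *ᵥ v) w = 0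

theorem exists_perp_sing [Finite F] (f : Fin 4 → (ι → F)) (hn : 7 ≤ Fintype.card ι) :
    ∃ w, w ≠ 0 ∧ q w = 0 ∧ ∀ i, polar q (f i) w = 0 := by
  let L : (ι → F) →ₗ[F] (Fin 4 → F) := LinearMap.pi fun i => polarBilin q (f i)
  have h1 := L.finrank_range_add_finrank_ker
  rw [Module.finrank_fintype_fun_eq_card] at h1
  have h3 := Submodule.finrank_le (LinearMap.range L)
  rw [Module.finrank_fintype_fun_eq_card, Fintype.card_fin] at h3
  obtain ⟨w, hw, hw0⟩ := H181.StdBasis.exists_singular (q.comp (LinearMap.ker L).subtype) (by omega)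
  refine ⟨w, fun e => hw (Subtype.ext e), hw0, fun i => ?_⟩
  have h2 : L w = 0 := w.2
  exact congrFun h2 i

theorem UK.exists_pair [Finite F] (h : UK q K θ b N) (hF : Fm q θ b N)
    (hnd : ∀ x, (∀ y, polar q x y = 0) → x = 0) (hn : 3 ≤ Fintype.card ι) : ∃ u v, Pr q θ u v := by
  obtain ⟨u, hu, hu0⟩ := H181.StdBasis.exists_singular q (by rw [Module.finrank_fintype_fun_eq_card]; exact hn)
  obtain ⟨x, hx, hx1⟩ : ∃ x, polar q u x = 0 ∧ polar q (θ *ᵥ u) x ≠ 0 := by
    by_contra hcon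
    push Not at hcon
    obtain ⟨y, hy⟩ : ∃ y, polar q u y ≠ 0 := by
      by_contra hc
      push Not at hc
      exact hu (hnd u hc)
    have key : ∀ z, polar q (θ *ᵥ u) z = polar q ((polar q (θ *ᵥ u) y / polar q u y) • u) z := by
      intro z
      have h1 := hcon (z - (polar q u z / polar q u y) • y) (by
        rw [sub_eq_add_neg, polar_add_right, polar_neg_right, polar_smul_right, smul_eq_mul]
        field_simp
        ring)
      rw [sub_eq_add_neg, polar_add_right, polar_neg_right, polar_smul_right, smul_eq_mul] at h1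
      rw [polar_smul_left, smul_eq_mul]
      field_simp at h1 ⊢
      linear_combination h1
    have h1 := hnd (θ *ᵥ u - (polar q (θ *ᵥ u) y / polar q u y) • u) (by
      intro z
      rw [sub_eq_add_neg, polar_add_left, polar_neg_left, key, add_neg_cancel])
    have h2 := (h.lin hu (α := -(polar q (θ *ᵥ u) y / polar q u y)) (β := 1) (by
      rw [one_smul, neg_smul, neg_add_eq_sub, h1])).2
    exact one_ne_zero h2
  obtain ⟨c, hc⟩ : ∃ c, c = polar q (θ *ᵥ u) x := ⟨_, rfl⟩
  rw [← hc] at hx1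
  have e1 : q (θ *ᵥ u) = 0 := by rw [(hF u).1, hu0, mul_zero]
  have e2 : polar q u (θ *ᵥ u) = 0 := by rw [(hF u).2, hu0, mul_zero]
  refine ⟨u, c⁻¹ • x + (-(c⁻¹ * c⁻¹ * q x)) • (θ *ᵥ u), hu0, ?_, ?_, ?_⟩
  · rw [map_add', QuadraticMap.map_smul, QuadraticMap.map_smul, polar_smul_left, polar_smul_right, e1, polar_comm, ← hc]
    simp only [smul_eq_mul]
    field_simp
    ring
  · rw [polar_add_right, polar_smul_right, polar_smul_right, hx, e2, smul_zero, smul_zero, add_zero]
  · rw [polar_add_right, polar_smul_right, polar_smul_right, ← hc, polar_self', e1, mul_zero, smul_zero, add_zero,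
      smul_eq_mul, inv_mul_cancel₀ hx1]

namespace Pr

variable {u v : ι → F} (P : Pr q θ u v) (h : UK q K θ b N) (hF : Fm q θ b N)
include P h hF

theorem tab : polar q u u = 0 ∧ polar q v v = 0 ∧ polar q v u = 0 ∧ polar q u (θ *ᵥ u) = 0 ∧ polar q v (θ *ᵥ v) = 0 ∧
    polar q u (θ *ᵥ v) = -1 ∧ polar q v (θ *ᵥ u) = 1 ∧ q (θ *ᵥ u) = 0 ∧ q (θ *ᵥ v) = 0 ∧
    polar q (θ *ᵥ u) (θ *ᵥ v) = 0 := by
  have e1 : polar q u (θ *ᵥ v) = -1 := by rw [h.adj', P.uv, P.tuv]; ring
  refine ⟨?_, ?_, ?_, ?_, ?_, e1, ?_, ?_, ?_, ?_⟩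
  · rw [polar_self', P.qu, mul_zero]
  · rw [polar_self', P.qv, mul_zero]
  · rw [polar_comm, P.uv]
  · rw [(hF u).2, P.qu, mul_zero]
  · rw [(hF v).2, P.qv, mul_zero]
  · rw [polar_comm, P.tuv]
  · rw [(hF u).1, P.qu, mul_zero]
  · rw [(hF v).1, P.qv, mul_zero]
  · rw [h.adj, h.two, sub_eq_add_neg (b • (θ *ᵥ v)), polar_add_right, polar_neg_right, polar_smul_right,
      polar_smul_right, e1, P.uv, smul_eq_mul, smul_eq_mul]
    ring

theorem exists_nonsing (hnd : ∀ x, (∀ y, polar q x y = 0) → x = 0) [Finite F] (hn : 7 ≤ Fintype.card ι) :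
    ∃ w, q w ≠ 0 ∧ Pp q θ u v w := by
  obtain ⟨t1, t2, t3, t4, t5, t6, t7, t8, t9, t10⟩ := P.tab h hF
  obtain ⟨w, hw, hw0, hwp⟩ := exists_perp_sing (q := q) ![u, θ *ᵥ u, v, θ *ᵥ v] hn
  have hp : Pp q θ u v w := ⟨hwp 0, hwp 1, hwp 2, hwp 3⟩
  obtain ⟨y, hy⟩ : ∃ y, polar q w y ≠ 0 := by
    by_contra hc
    push Not at hc
    exact hw (hnd w hc)
  -- the projection
  obtain ⟨y', hy'⟩ : ∃ y', y' = y + (polar q y (θ *ᵥ v)) • u + (-(polar q y v)) • (θ *ᵥ u) +
    (-(polar q y (θ *ᵥ u))) • v + (polar q y u) • (θ *ᵥ v) := ⟨_, rfl⟩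
  have hpy : Pp q θ u v y' := by
    constructor <;>
    · rw [hy']
      simp only [polar_add_right, polar_smul_right, smul_eq_mul, t1, t2, t3, P.uv, P.tuv, t4, t5, t6, t7, t10,
        polar_self', t8, t9, polar_comm q (θ *ᵥ v) (θ *ᵥ u), polar_comm q (θ *ᵥ u) u, polar_comm q (θ *ᵥ v) u,
        polar_comm q (θ *ᵥ v) v, polar_comm q y]
      ring
  have hwy : polar q w y' = polar q w y := by
    rw [hy']
    simp only [polar_add_right, polar_smul_right, smul_eq_mul, polar_comm q w u, polar_comm q w v,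
      polar_comm q w (θ *ᵥ u), polar_comm q w (θ *ᵥ v), hp.pu, hp.pv, hp.ptu, hp.ptv]
    ring
  by_cases h1 : q y' = 0
  · refine ⟨w + y', ?_, ?_, ?_, ?_, ?_⟩
    · rw [map_add', hw0, h1, hwy, zero_add, zero_add]
      exact hy
    · rw [polar_add_right, hp.pu, hpy.pu, add_zero]
    · rw [polar_add_right, hp.ptu, hpy.ptu, add_zero]
    · rw [polar_add_right, hp.pv, hpy.pv, add_zero]
    · rw [polar_add_right, hp.ptv, hpy.ptv, add_zero]
  · exact ⟨y', h1, hpy⟩

omit P hF in
/-- the orthogonal space is invariant under `θ` -/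
theorem _root_.Cfsg.Agent.H681.EP.Pp.th {w : ι → F} (hp : Pp q θ u v w) : Pp q θ u v (θ *ᵥ w) := by
  refine ⟨?_, ?_, ?_, ?_⟩
  · rw [h.adj', hp.pu, hp.ptu]; ring
  · rw [h.adj', hp.ptu, h.two, sub_eq_add_neg (b • (θ *ᵥ u)), polar_add_left, polar_neg_left, polar_smul_left,
      polar_smul_left, hp.ptu, hp.pu, smul_zero, smul_zero]; ring
  · rw [h.adj', hp.pv, hp.ptv]; ring
  · rw [h.adj', hp.ptv, h.two, sub_eq_add_neg (b • (θ *ᵥ v)), polar_add_left, polar_neg_left, polar_smul_left,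
      polar_smul_left, hp.ptv, hp.pv, smul_zero, smul_zero]; ring

end Pr

end pair

end Cfsg.Agent.H681.EP
end

-- part: H681/EP/OmC3U
section
/-!
# S3499, class C3 of the orthogonal groups, unitary type (helper681)

`omC3U` : `K` of degree two, adjoint closed, not self-adjoint. `q` even: the squares of the elements of `A` commute with
`U_1(K)`, and the square of a rotation of a `K`-line commutes with a Siegel element outside `A`. `q` odd: (KX) with a
Siegel element `x` and an element `y` of `U_1(K)` acting on a hyperbolic `K`-plane.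
-/

set_option autoImplicit false
set_option linter.unusedSectionVars false

open Cfsg Cfsg.Geo Matrix QuadraticMap

namespace Cfsg.Agent.H681.EP

open Cfsg.Agent.H284 Cfsg.Agent.ClassicalGeometry.Reflection Cfsg.Agent.H419.EP

section pair
variable {F : Type*} [Field F] {ι : Type} [Fintype ι] [DecidableEq ι]
variable {K : Subalgebra F (Matrix ι ι F)} {q : QuadraticForm F (ι → F)} {θ : Matrix ι ι F} {b N : F}

/-- squares of isometries lie in `Ω` -/
theorem sq_mem_omega {Qf : (ι → F) → F} (hQ : IsNondegenerateQuadraticForm Qf) (hn : 7 ≤ Fintype.card ι) {y : GL ι F}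
    (hy : ∀ x, Qf ((y : Matrix ι ι F) *ᵥ x) = Qf x) : y ^ 2 ∈ omegaGL Qf := by
  have hy' : y ∈ isometryGroup F Qf := (mem_isometryGroup_iff _ _).2 hy
  have hcl := ClassicalGeometry.GenReflections.closure_refls_eq_top (H889.bundleQ Qf hQ)
    (H889.bundleQ_nondegenerate Qf hQ) (Or.inr (by omega))
  have key : ∀ g : isometryGroup F (⇑(H889.bundleQ Qf hQ)), g ^ 2 ∈ commutator (isometryGroup F (⇑(H889.bundleQ Qf hQ))) := by
    intro g
    rw [← Abelianization.ker_of, MonoidHom.mem_ker, map_pow]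
    have hg : g ∈ Subgroup.closure (ClassicalGeometry.GenReflections.refls (H889.bundleQ Qf hQ)) := by
      rw [hcl]; exact Subgroup.mem_top _
    induction hg using Subgroup.closure_induction with
    | mem x hx =>
      obtain ⟨v, hv, hs⟩ := hx
      have : x = reflIso (H889.bundleQ Qf hQ) v hv := Subtype.ext (Units.ext hs)
      rw [← map_pow, this, pow_two, reflIso_mul_self, map_one]
    | one => rw [map_one, one_pow]
    | mul x y _ _ hx hy => rw [map_mul, mul_pow, hx, hy, one_mul]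
    | inv x _ hx => rw [map_inv, inv_pow, hx, inv_one]
  exact ⟨@HPow.hPow _ _ _ instHPow ⟨y, hy'⟩ (2 : ℕ), (by exact key ⟨y, hy'⟩), rfl⟩

namespace Pr

variable {u v : ι → F} (P : Pr q θ u v) (h : UK q K θ b N) (hF : Fm q θ b N)
include P h hF

/-- the Siegel element of the pair does not normalise `K` -/
theorem not_norm {g : GL ι F}
    (hg : ∀ x, (g : Matrix ι ι F) *ᵥ x = x + (polar q u x • v - polar q v x • u)) {w : ι → F} (hw : w ≠ 0)
    (hp : Pp q θ u v w) : g ∉ subalgebraNormalizer K := by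
  intro hgK
  obtain ⟨t1, t2, t3, t4, t5, t6, t7, t8, t9, t10⟩ := P.tab h hF
  have hu0 : u ≠ 0 := by
    rintro rfl
    have := P.tuv
    rw [Matrix.mulVec_zero, polar_zero_left] at this
    exact zero_ne_one this
  rcases h.conj hgK with hc | hc
  · have e := congrArg (fun M => M *ᵥ (θ *ᵥ u)) hc
    simp only [← Matrix.mulVec_mulVec] at e
    have e1 : (g : Matrix ι ι F) *ᵥ u = u := by
      rw [hg, t1, t3, zero_smul, zero_smul, sub_zero, add_zero]
    have e2 : (g : Matrix ι ι F) *ᵥ (θ *ᵥ u) = θ *ᵥ u - u := by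
      rw [hg, t4, t7, zero_smul, one_smul, zero_sub, sub_eq_add_neg]
    rw [h.two, e2, Matrix.mulVec_sub, Matrix.mulVec_smul, Matrix.mulVec_smul, e1, e2, Matrix.mulVec_sub, h.two] at e
    have e3 := (h.lin hu0 (α := -b) (β := 1) (by
      rw [smul_sub] at e
      have e4 : (-b) • u + (1 : F) • (θ *ᵥ u) =
        (b • (θ *ᵥ u) - b • u - N • u) - (b • (θ *ᵥ u) - N • u - θ *ᵥ u) := by module
      rw [e4, e, sub_self])).2
    exact one_ne_zero e3
  · have e := congrArg (fun M => M *ᵥ w) hc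
    simp only [Matrix.sub_mulVec, Matrix.smul_mulVec, ← Matrix.mulVec_mulVec] at e
    have hp' := hp.th h
    have e1 : (g : Matrix ι ι F) *ᵥ w = w := by
      rw [hg, hp.pu, hp.pv, zero_smul, zero_smul, sub_zero, add_zero]
    have e2 : (g : Matrix ι ι F) *ᵥ (θ *ᵥ w) = θ *ᵥ w := by
      rw [hg, hp'.pu, hp'.pv, zero_smul, zero_smul, sub_zero, add_zero]
    rw [e1, e2] at e
    have e3 := h.lin hw (α := -b) (β := 2) (by
      have e4 : (-b) • w + (2 : F) • (θ *ᵥ w) = θ *ᵥ w - (b • w - θ *ᵥ w) := by module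
      rw [e4, ← e, sub_self])
    apply h.nb
    rw [← two_smul F θ, e3.2, neg_eq_zero.1 e3.1, zero_smul, zero_smul]

end Pr

/-- the rotation of a `K`-line -/
theorem UK.exists_rot (h : UK q K θ b N) (hF : Fm q θ b N) {w : ι → F} (hw : q w ≠ 0) :
    ∃ g : GL ι F, (∀ x, q ((g : Matrix ι ι F) *ᵥ x) = q x) ∧ (∀ x, (g : Matrix ι ι F) *ᵥ x =
      x - ((q w)⁻¹ * polar q w x) • w - ((N * q w)⁻¹ * (polar q (θ *ᵥ w) x - b * polar q w x)) • (θ *ᵥ w)) := by
  have hN := h.N_ne
  have hθw : q (θ *ᵥ w) ≠ 0 := by rw [(hF w).1]; exact mul_ne_zero hN hw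
  refine ⟨reflGL q (θ *ᵥ w) hθw * reflGL q w hw, ?_, ?_⟩
  · intro x
    rw [Units.val_mul, ← Matrix.mulVec_mulVec, coe_reflGL, coe_reflGL, reflectionMatrix_isometry q _ hθw,
      reflectionMatrix_isometry q _ hw]
  · intro x
    rw [Units.val_mul, ← Matrix.mulVec_mulVec, coe_reflGL, coe_reflGL, reflectionMatrix_mulVec, reflectionMatrix_mulVec,
      (hF w).1, sub_eq_add_neg x, polar_add_right, polar_neg_right, polar_smul_right, polar_comm q (θ *ᵥ w) w,
      (hF w).2, smul_eq_mul]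
    congr 2
    field_simp
    ring

/-- the rotation commutes with `θ` -/
theorem UK.rot_comm (h : UK q K θ b N) {w : ι → F} (hw : q w ≠ 0) {g : GL ι F}
    (hg : ∀ x, (g : Matrix ι ι F) *ᵥ x =
      x - ((q w)⁻¹ * polar q w x) • w - ((N * q w)⁻¹ * (polar q (θ *ᵥ w) x - b * polar q w x)) • (θ *ᵥ w)) :
    (g : Matrix ι ι F) * θ = θ * g := by
  have hN := h.N_ne
  apply mat_ext
  intro x
  have e1 : polar q w (θ *ᵥ x) = b * polar q w x - polar q (θ *ᵥ w) x := h.adj' w x
  have e2 : polar q (θ *ᵥ w) (θ *ᵥ x) = N * polar q w x := by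
    rw [h.adj, h.two, sub_eq_add_neg (b • (θ *ᵥ x)), polar_add_right, polar_neg_right, polar_smul_right,
      polar_smul_right, smul_eq_mul, smul_eq_mul]
    ring
  rw [← Matrix.mulVec_mulVec, ← Matrix.mulVec_mulVec, hg, hg, e1, e2, Matrix.mulVec_sub, Matrix.mulVec_sub,
    Matrix.mulVec_smul, Matrix.mulVec_smul, h.two]
  match_scalars <;> field_simp <;> ring

end pair

/-- **The even case.** -/
theorem omC3U_even {Q : Type*} [Group Q] {A : Subgroup Q} {Γ : Subgroup (MulAut Q)} (hE : EPT A Γ)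
    {F : Type*} [Field F] [Finite F] {ι : Type} [Fintype ι] [DecidableEq ι] {Qf : (ι → F) → F}
    (hQ : IsNondegenerateQuadraticForm Qf) (m : Model Q (omegaGL Qf)) (hn : 7 ≤ Fintype.card ι) (h2 : (2 : F) = 0)
    {K : Subalgebra F (Matrix ι ι F)} {θ : Matrix ι ι F} {b N : F} (h : UK (H889.bundleQ Qf hQ) K θ b N)
    (hF : Fm (H889.bundleQ Qf hQ) θ b N) (hA : m.hat A ≤ subalgebraNormalizer K) : False := by
  classical
  obtain ⟨q, hq⟩ : ∃ q, q = H889.bundleQ Qf hQ := ⟨_, rfl⟩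
  have hqf : ∀ x, q x = Qf x := fun x => by rw [hq]; rfl
  have hnd : ∀ x, (∀ y, polar q x y = 0) → x = 0 := fun x hx =>
    (H889.bundleQ_nondegenerate Qf hQ).1 x (fun y => by rw [← hq]; exact hx y)
  rw [← hq] at h hF
  have hN := h.N_ne
  have hadd : ∀ M : Matrix ι ι F, M + M = 0 := fun M => by rw [← two_smul F M, h2, zero_smul]
  have hb : b ≠ 0 := by
    intro hb
    apply h.nb
    rw [hadd, hb, zero_smul]
  obtain ⟨u, v, P⟩ := h.exists_pair hF hnd (by omega)
  obtain ⟨w, hw, hp⟩ := P.exists_nonsing h hF hnd hn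
  have hw0 : w ≠ 0 := by rintro rfl; exact hw (QuadraticMap.map_zero q)
  have hu0 : u ≠ 0 := by
    rintro rfl
    have := P.tuv
    rw [Matrix.mulVec_zero, polar_zero_left] at this
    exact zero_ne_one this
  obtain ⟨t, htO, ht⟩ := H889.exists_siegel_omegaGL Qf hQ (by omega) u v (by rw [← hqf]; exact P.qu)
    (by rw [← hqf]; exact P.qv) (by have := P.uv; rw [hq] at this; exact this)
  have ht' : ∀ x, (t : Matrix ι ι F) *ᵥ x = x + (polar q u x • v - polar q v x • u) := by rw [hq]; exact ht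
  have htK := P.not_norm h hF ht' hw0 hp
  have hM : m.hat A = subalgebraNormalizer K ⊓ omegaGL Qf := by
    rcases (m.isMaximalIn hE.max).2 _ (le_inf hA (m.hat_le A)) inf_le_right with e | e
    · exact e.symm
    · exfalso
      apply htK
      exact (show t ∈ subalgebraNormalizer K ⊓ omegaGL Qf by rw [e]; exact htO).1
  -- `z0`
  have hθb : (b • (1 : Matrix ι ι F) - θ) * θ = N • 1 := by
    rw [sub_mul, h.sq, smul_mul_assoc, one_mul, sub_sub_cancel]
  have hθb' : θ * (b • (1 : Matrix ι ι F) - θ) = N • 1 := by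
    rw [mul_sub, h.sq, mul_smul_comm, mul_one, sub_sub_cancel]
  obtain ⟨z0, hz0⟩ : ∃ z0 : GL ι F, (z0 : Matrix ι ι F) = N⁻¹ • ((b • (1 : Matrix ι ι F) - θ) * (b • 1 - θ)) := by
    refine ⟨⟨N⁻¹ • ((b • (1 : Matrix ι ι F) - θ) * (b • 1 - θ)), N⁻¹ • (θ * θ), ?_, ?_⟩, rfl⟩
    · have e1 : (b • (1 : Matrix ι ι F) - θ) * (b • 1 - θ) * (θ * θ) = (N * N) • 1 := by
        rw [mul_assoc, ← mul_assoc (b • (1 : Matrix ι ι F) - θ) θ θ, hθb, smul_mul_assoc, one_mul, mul_smul_comm, hθb,
          smul_smul]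
      rw [smul_mul_smul_comm, e1, smul_smul]
      have : N⁻¹ * N⁻¹ * (N * N) = 1 := by field_simp
      rw [this, one_smul]
    · have e1 : (θ * θ) * ((b • (1 : Matrix ι ι F) - θ) * (b • 1 - θ)) = (N * N) • 1 := by
        rw [mul_assoc, ← mul_assoc θ (b • (1 : Matrix ι ι F) - θ), hθb', smul_mul_assoc, one_mul, mul_smul_comm, hθb',
          smul_smul]
      rw [smul_mul_smul_comm, e1, smul_smul]
      have : N⁻¹ * N⁻¹ * (N * N) = 1 := by field_simp
      rw [this, one_smul]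
  have hz0q : ∀ x, Qf ((z0 : Matrix ι ι F) *ᵥ x) = Qf x := by
    have e1 : ∀ x, q ((b • (1 : Matrix ι ι F) - θ) *ᵥ x) = N * q x := by
      intro x
      rw [Matrix.sub_mulVec, Matrix.smul_mulVec, Matrix.one_mulVec, q_sub, QuadraticMap.map_smul, polar_smul_left,
        (hF x).1, (hF x).2, smul_eq_mul, smul_eq_mul]
      ring
    intro x
    rw [← hqf, ← hqf, hz0, Matrix.smul_mulVec, QuadraticMap.map_smul, ← Matrix.mulVec_mulVec, e1, e1, smul_eq_mul]
    field_simp
  have hz0c : ∀ G : Matrix ι ι F, G * θ = θ * G → G * z0 = z0 * G := by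
    intro G hG
    have e1 : G * (b • (1 : Matrix ι ι F) - θ) = (b • (1 : Matrix ι ι F) - θ) * G := by
      rw [mul_sub, sub_mul, hG, mul_smul_comm, smul_mul_assoc, mul_one, one_mul]
    rw [hz0, mul_smul_comm, smul_mul_assoc, ← mul_assoc, e1, mul_assoc, e1, ← mul_assoc]
  have hzO := sq_mem_omega hQ hn hz0q
  have hzs : z0 ^ 2 ∉ scalars ι F := by
    rw [mem_scalars_iff]
    rintro ⟨c, hc⟩
    have e1 : (b • (1 : Matrix ι ι F) - θ) * (b • 1 - θ) = (b * b - N) • 1 - b • θ := by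
      rw [sub_mul, hθb', smul_mul_assoc, one_mul, smul_sub, smul_smul]
      module
    have e2 : ((z0 ^ 2 : GL ι F) : Matrix ι ι F) = (N⁻¹ * N⁻¹) • (((b * b - N) • (1 : Matrix ι ι F) - b • θ) *
        ((b * b - N) • 1 - b • θ)) := by
      rw [pow_two, Units.val_mul, hz0, smul_mul_smul_comm, e1]
    have e3 : ((b * b - N) • (1 : Matrix ι ι F) - b • θ) * ((b * b - N) • 1 - b • θ) =
        ((b * b - N) * (b * b - N) - b * b * N) • 1 + (b * b * b - 2 * b * (b * b - N)) • θ := by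
      simp only [sub_mul, mul_sub, smul_mul_smul_comm, one_mul, mul_one, h.sq, smul_sub, smul_smul]
      module
    rw [e2, e3] at hc
    have e4 := congrArg (fun M => M *ᵥ w) hc
    simp only [Matrix.smul_mulVec, Matrix.add_mulVec, Matrix.one_mulVec] at e4
    have e5 := (h.lin hw0 (α := N⁻¹ * N⁻¹ * ((b * b - N) * (b * b - N) - b * b * N) - c)
      (β := N⁻¹ * N⁻¹ * (b * b * b - 2 * b * (b * b - N))) (by
      rw [sub_smul, ← e4]
      module)).2
    rw [h2, zero_mul, zero_mul, sub_zero] at e5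
    have := mul_ne_zero (mul_ne_zero (inv_ne_zero hN) (inv_ne_zero hN)) (mul_ne_zero (mul_ne_zero hb hb) hb)
    exact this e5
  -- `y0`
  obtain ⟨y0, hy0q, hy0⟩ := h.exists_rot hF hw
  have hy0θ := h.rot_comm hw hy0
  have hyO := sq_mem_omega hQ hn (y := y0) (fun x => by rw [← hqf, ← hqf]; exact hy0q x)
  have hy0t : (t : Matrix ι ι F) * y0 = y0 * t := by
    have e1 : (t : Matrix ι ι F) *ᵥ w = w := by
      rw [ht', hp.pu, hp.pv, zero_smul, zero_smul, sub_zero, add_zero]
    have hp' := hp.th h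
    have e2 : (t : Matrix ι ι F) *ᵥ (θ *ᵥ w) = θ *ᵥ w := by
      rw [ht', hp'.pu, hp'.pv, zero_smul, zero_smul, sub_zero, add_zero]
    have hpt : ∀ x y, polar q ((t : Matrix ι ι F) *ᵥ x) ((t : Matrix ι ι F) *ᵥ y) = polar q x y := by
      apply polar_mulVec_of_isometry q
      intro x
      obtain ⟨t', ht1, ht2⟩ := htO
      rw [hqf, hqf, ← ht2]
      exact (mem_isometryGroup_iff _ _).1 t'.2 x
    apply mat_ext
    intro x
    rw [← Matrix.mulVec_mulVec, ← Matrix.mulVec_mulVec, hy0, hy0, Matrix.mulVec_sub, Matrix.mulVec_sub,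
      Matrix.mulVec_smul, Matrix.mulVec_smul, e1, e2]
    have e3 := hpt w x
    have e4 := hpt (θ *ᵥ w) x
    rw [e1] at e3
    rw [e2] at e4
    rw [e3, e4]
  have hys : (y0 ^ 2) ^ 2 ∉ scalars ι F := by
    rw [mem_scalars_iff]
    rintro ⟨c, hc⟩
    have hcu : (c : F) = 1 := by
      have e1 : (y0 : Matrix ι ι F) *ᵥ u = u := by
        rw [hy0, polar_comm q w u, polar_comm q (θ *ᵥ w) u, hp.pu, (hp.th h).pu, mul_zero, mul_zero, sub_zero, mul_zero,
          zero_smul, zero_smul, sub_zero, sub_zero]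
      have e2 := congrArg (fun M => M *ᵥ u) hc
      simp only [pow_two, Units.val_mul, ← Matrix.mulVec_mulVec, e1, Matrix.smul_mulVec, Matrix.one_mulVec] at e2
      have e3 : (1 - (c : F)) • u = 0 := by rw [sub_smul, one_smul, ← e2, sub_self]
      exact (sub_eq_zero.1 ((smul_eq_zero.1 e3).resolve_right hu0)).symm
    obtain ⟨M, hMd⟩ : ∃ M : Matrix ι ι F, M = 1 + (N⁻¹ * b) • θ := ⟨_, rfl⟩
    have hyw : (y0 : Matrix ι ι F) *ᵥ w = M *ᵥ w := by
      rw [hy0, hMd, Matrix.add_mulVec, Matrix.one_mulVec, Matrix.smul_mulVec, polar_self', polar_comm q (θ *ᵥ w) w,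
        (hF w).2, h2]
      match_scalars
      · ring
      · field_simp
        linear_combination (-1 : F) * h2
    have hyM : (y0 : Matrix ι ι F) * M = M * y0 := by
      rw [hMd, mul_add, add_mul, mul_one, one_mul, mul_smul_comm, smul_mul_assoc, hy0θ]
    have e4 : (M * M * (M * M)) *ᵥ w = w := by
      have e2 := congrArg (fun M => M *ᵥ w) hc
      rw [hcu, one_smul] at e2
      have e5 : (((y0 ^ 2) ^ 2 : GL ι F) : Matrix ι ι F) *ᵥ w = (M * M * (M * M)) *ᵥ w := by
        have f1 : ∀ x, (y0 : Matrix ι ι F) *ᵥ (M *ᵥ x) = M *ᵥ ((y0 : Matrix ι ι F) *ᵥ x) := by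
          intro x
          rw [Matrix.mulVec_mulVec, hyM, Matrix.mulVec_mulVec]
        simp only [pow_two, Units.val_mul, ← Matrix.mulVec_mulVec, hyw, f1]
      rw [← e5]
      simpa using e2
    have e6 : M * M = 1 + (N⁻¹ * b * (N⁻¹ * b)) • (θ * θ) := by
      have := hadd ((N⁻¹ * b) • θ)
      rw [hMd, mul_add, mul_one, add_mul, one_mul, smul_mul_smul_comm, add_assoc, ← add_assoc ((N⁻¹ * b) • θ), this,
        zero_add]
    obtain ⟨S, hS⟩ : ∃ S : Matrix ι ι F, S = (N⁻¹ * b * (N⁻¹ * b)) • (θ * θ) := ⟨_, rfl⟩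
    have hμ : N⁻¹ * b ≠ 0 := mul_ne_zero (inv_ne_zero hN) hb
    have hSK : S ∈ K := by rw [hS]; exact K.smul_mem (K.mul_mem h.mem h.mem) _
    have hS0 : S ≠ 0 := by
      rw [hS]
      intro e
      rcases smul_eq_zero.1 e with e | e
      · exact mul_ne_zero hμ hμ e
      · rcases h.mul_eq_zero h.mem h.mem e with e | e
        · exact h.ne e
        · exact h.ne e
    rw [← hS] at e6
    have e7 : (1 + S) * (1 + S) = 1 + S * S := by
      rw [mul_add, mul_one, add_mul, one_mul, add_assoc, ← add_assoc S, hadd, zero_add]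
    rw [e6, e7, Matrix.add_mulVec, Matrix.one_mulVec, add_eq_left] at e4
    have e8 : S * S ≠ 0 := by
      intro e
      rcases h.mul_eq_zero hSK hSK e with e | e
      · exact hS0 e
      · exact hS0 e
    exact hw0 (h.inj (K.mul_mem hSK hSK) e8 e4)
  -- end
  have hpw : ∀ G : Matrix ι ι F, ∀ g : GL ι F, G * g = g * G → G * ((g ^ 2 : GL ι F) : Matrix ι ι F) =
      ((g ^ 2 : GL ι F) : Matrix ι ι F) * G := by
    intro G g hg
    rw [pow_two, Units.val_mul, ← mul_assoc, hg, mul_assoc, hg, ← mul_assoc]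
  have hzA : m.π ⟨z0 ^ 2, hzO⟩ ∈ A := by
    rw [← m.mem_hat_iff, hM]
    exact ⟨h.mem_norm (hpw θ z0 (hz0c θ rfl)).symm, hzO⟩
  have hyA : m.π ⟨y0 ^ 2, hyO⟩ ∈ A := by
    rw [← m.mem_hat_iff, hM]
    exact ⟨h.mem_norm (hpw θ y0 hy0θ.symm).symm, hyO⟩
  have hTA := mem_of_sq hE hzA ?_ ?_ hyA ?_ (t := m.π ⟨t, htO⟩) ?_
  · apply htK
    have h3 := (m.mem_hat_iff ⟨t, htO⟩).2 hTA
    rw [hM] at h3
    exact h3.1
  · rw [Ne, m.ker]
    exact hzs
  · intro g hg
    obtain ⟨g, rfl⟩ := m.surj g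
    have hg' := (m.mem_hat_iff g).2 hg
    have hg2 := h.sq_comm (hA hg')
    rw [← map_pow, ← map_mul, ← map_mul]
    (with_reducible congr 1)
    apply Subtype.ext
    apply Units.ext
    change ((((g : GL ι F) ^ 2 : GL ι F)) : Matrix ι ι F) * ((z0 ^ 2 : GL ι F) : Matrix ι ι F) =
      ((z0 ^ 2 : GL ι F) : Matrix ι ι F) * ((((g : GL ι F) ^ 2 : GL ι F)) : Matrix ι ι F)
    apply hpw
    apply hz0c
    rw [pow_two, Units.val_mul]
    exact hg2
  · rw [← map_pow, Ne, m.ker]
    exact hys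
  · rw [← map_pow, ← map_mul, ← map_mul]
    congr 1
    apply Subtype.ext
    apply Units.ext
    exact hpw _ _ (hpw _ _ hy0t)

/-- a skew generator of `K` -/
theorem UK.skew {F : Type*} [Field F] {ι : Type} [Fintype ι] [DecidableEq ι] {K : Subalgebra F (Matrix ι ι F)}
    {q : QuadraticForm F (ι → F)} {θ : Matrix ι ι F} {b N : F} (h : UK q K θ b N) (h2 : (2 : F) ≠ 0) :
    UK q K (θ - (b / 2) • 1) 0 (N - b / 2 * (b / 2)) := by
  have hns : ∀ c : F, θ - (b / 2) • 1 ≠ c • 1 := by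
    intro c hc
    apply h.ns (c + b / 2)
    rw [add_smul, ← hc, sub_add_cancel]
  have hmem : θ - (b / 2) • 1 ∈ K := K.sub_mem h.mem (one_smul_mem _)
  refine ⟨h.field, hmem, ?_, ?_, gen_of_ns h.field hmem hns, hns, ?_⟩
  · intro u v
    rw [Matrix.sub_mulVec, Matrix.sub_mulVec, Matrix.smul_mulVec, Matrix.smul_mulVec, Matrix.one_mulVec,
      Matrix.one_mulVec, sub_eq_add_neg, polar_add_left, polar_neg_left, polar_smul_left, sub_eq_add_neg (θ *ᵥ v),
      polar_add_right, polar_neg_right, polar_smul_right, h.adj, smul_eq_mul]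
    field_simp
    ring
  · rw [sub_mul, mul_sub, mul_sub, h.sq, mul_smul_comm, mul_one, smul_mul_smul_comm, one_mul, smul_mul_assoc, one_mul]
    match_scalars
    · field_simp
      ring
    · field_simp
      ring
  · intro e
    rw [zero_smul] at e
    apply hns 0
    rw [zero_smul]
    have e1 : (2 : F) • (θ - (b / 2) • (1 : Matrix ι ι F)) = 0 := by rw [two_smul, e]
    exact (smul_eq_zero.1 e1).resolve_left h2

/-- **The odd case.** -/
theorem omC3U_odd {Q : Type*} [Group Q] {A : Subgroup Q} {Γ : Subgroup (MulAut Q)} (hE : EPT A Γ)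
    {F : Type*} [Field F] [Finite F] {ι : Type} [Fintype ι] [DecidableEq ι] {Qf : (ι → F) → F}
    (hQ : IsNondegenerateQuadraticForm Qf) (m : Model Q (omegaGL Qf)) (hn : 7 ≤ Fintype.card ι) (h2 : (2 : F) ≠ 0)
    {K : Subalgebra F (Matrix ι ι F)} {θ : Matrix ι ι F} {N : F} (h : UK (H889.bundleQ Qf hQ) K θ 0 N)
    (hF : Fm (H889.bundleQ Qf hQ) θ 0 N) (hA : m.hat A ≤ subalgebraNormalizer K) : False := by
  classical
  obtain ⟨q, hq⟩ : ∃ q, q = H889.bundleQ Qf hQ := ⟨_, rfl⟩
  have hqf : ∀ x, q x = Qf x := fun x => by rw [hq]; rfl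
  have hqfp : ∀ x y, polar q x y = polar Qf x y := fun x y => by rw [hq]; rfl
  have hnd : ∀ x, (∀ y, polar q x y = 0) → x = 0 := fun x hx =>
    (H889.bundleQ_nondegenerate Qf hQ).1 x (fun y => by rw [← hq]; exact hx y)
  rw [← hq] at h hF
  have hN := h.N_ne
  obtain ⟨u, v, P⟩ := h.exists_pair hF hnd (by omega)
  obtain ⟨w, hw0, hqw, hwp⟩ := exists_perp_sing (q := q) ![u, θ *ᵥ u, v, θ *ᵥ v] hn
  have hp : Pp q θ u v w := ⟨hwp 0, hwp 1, hwp 2, hwp 3⟩
  have hp' := hp.th h
  obtain ⟨t1, t2, t3, t4, t5, t6, t7, t8, t9, t10⟩ := P.tab h hF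
  have t0 := P.uv
  have s1 : polar q (θ *ᵥ u) u = 0 := by rw [polar_comm, t4]
  have s2 : polar q (θ *ᵥ v) v = 0 := by rw [polar_comm, t5]
  have s3 : polar q (θ *ᵥ v) u = -1 := by rw [polar_comm, t6]
  have s4 : polar q (θ *ᵥ u) v = 1 := P.tuv
  have s5 : polar q (θ *ᵥ v) (θ *ᵥ u) = 0 := by rw [polar_comm, t10]
  have s6 : polar q (θ *ᵥ u) (θ *ᵥ u) = 0 := by rw [polar_self', t8, mul_zero]
  have s7 : polar q (θ *ᵥ v) (θ *ᵥ v) = 0 := by rw [polar_self', t9, mul_zero]
  have hu0 : u ≠ 0 := by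
    rintro rfl
    have := P.tuv
    rw [Matrix.mulVec_zero, polar_zero_left] at this
    exact zero_ne_one this
  have htwo : ∀ y, θ *ᵥ (θ *ᵥ y) = (-N) • y := by
    intro y
    rw [h.two, zero_smul, zero_sub, neg_smul]
  have hadj : ∀ x y, polar q x (θ *ᵥ y) = -polar q (θ *ᵥ x) y := by
    intro x y
    rw [h.adj']; ring
  have htt : ∀ x y, polar q (θ *ᵥ x) (θ *ᵥ y) = N * polar q x y := by
    intro x y
    rw [hadj, htwo, polar_smul_left, smul_eq_mul]; ring
  -- `x`
  obtain ⟨x, hxO, hx⟩ := H889.exists_siegel_omegaGL Qf hQ (by omega) u v (by rw [← hqf]; exact P.qu)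
    (by rw [← hqf]; exact P.qv) (by rw [← hqfp]; exact P.uv)
  simp only [← hqfp] at hx
  have hxK := P.not_norm h hF hx hw0 hp
  have hM : m.hat A = subalgebraNormalizer K ⊓ omegaGL Qf := by
    rcases (m.isMaximalIn hE.max).2 _ (le_inf hA (m.hat_le A)) inf_le_right with e | e
    · exact e.symm
    · exfalso
      apply hxK
      exact (show x ∈ subalgebraNormalizer K ⊓ omegaGL Qf by rw [e]; exact hxO).1
  obtain ⟨x', hx'⟩ : ∃ x' : Matrix ι ι F, x' = ((x⁻¹ : GL ι F) : Matrix ι ι F) := ⟨_, rfl⟩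
  have hxx' : (x : Matrix ι ι F) * x' = 1 := by rw [hx', ← Units.val_mul, mul_inv_cancel, Units.val_one]
  have hx'x : x' * (x : Matrix ι ι F) = 1 := by rw [hx', ← Units.val_mul, inv_mul_cancel, Units.val_one]
  have hxi : ∀ y, x' *ᵥ y = y - (polar q u y • v - polar q v y • u) := by
    intro y
    have e1 : (x : Matrix ι ι F) *ᵥ (y - (polar q u y • v - polar q v y • u)) = y := by
      rw [Matrix.mulVec_sub, Matrix.mulVec_sub, Matrix.mulVec_smul, Matrix.mulVec_smul, hx, hx u, hx v, t0, t1, t2, t3]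
      module
    calc x' *ᵥ y = x' *ᵥ ((x : Matrix ι ι F) *ᵥ (y - (polar q u y • v - polar q v y • u))) := by rw [e1]
      _ = _ := by rw [Matrix.mulVec_mulVec, hx'x, Matrix.one_mulVec]
  -- `D`
  obtain ⟨D, hDd⟩ : ∃ D : Matrix ι ι F, D = (x : Matrix ι ι F) * θ * x' - θ := ⟨_, rfl⟩
  have hD : ∀ y, D *ᵥ y = (-polar q (θ *ᵥ u) y) • v + (polar q (θ *ᵥ v) y) • u - (polar q u y) • (θ *ᵥ v - v) +
      (polar q v y) • (θ *ᵥ u - u) := by
    intro y
    rw [hDd, Matrix.sub_mulVec, ← Matrix.mulVec_mulVec, ← Matrix.mulVec_mulVec, hxi, Matrix.mulVec_sub,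
      Matrix.mulVec_sub, Matrix.mulVec_sub, Matrix.mulVec_sub, Matrix.mulVec_smul, Matrix.mulVec_smul,
      Matrix.mulVec_smul, Matrix.mulVec_smul, hx (θ *ᵥ y), hx (θ *ᵥ u), hx (θ *ᵥ v), t4, t5, t6, t7, hadj u y,
      hadj v y]
    module
  have hDD : ∀ y, D *ᵥ (D *ᵥ y) = (-polar q (θ *ᵥ v) y) • u + (polar q v y) • (θ *ᵥ u) + (polar q (θ *ᵥ u) y) • v -
      (polar q u y) • (θ *ᵥ v) := by
    intro y
    rw [hD y, Matrix.mulVec_add, Matrix.mulVec_sub, Matrix.mulVec_add, Matrix.mulVec_smul, Matrix.mulVec_smul,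
      Matrix.mulVec_smul, Matrix.mulVec_smul, Matrix.mulVec_sub, Matrix.mulVec_sub, hD u, hD v, hD (θ *ᵥ u),
      hD (θ *ᵥ v), t0, t1, t2, t3, t4, t5, t6, t7, t10, s1, s2, s3, s4, s5, s6, s7]
    module
  have hθDD : ∀ y, θ *ᵥ (D *ᵥ (D *ᵥ y)) = (-polar q (θ *ᵥ v) y) • (θ *ᵥ u) - (N * polar q v y) • u +
      (polar q (θ *ᵥ u) y) • (θ *ᵥ v) + (N * polar q u y) • v := by
    intro y
    rw [hDD, Matrix.mulVec_sub, Matrix.mulVec_add, Matrix.mulVec_add, Matrix.mulVec_smul, Matrix.mulVec_smul,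
      Matrix.mulVec_smul, Matrix.mulVec_smul, htwo, htwo]
    module
  -- the scalars
  have h1N : 1 + N ≠ 0 := by
    intro e
    have e1 : (θ - 1) * (θ + 1) = 0 := by
      rw [sub_mul, mul_add, mul_one, one_mul, h.sq, zero_smul, zero_sub, ← neg_smul, eq_neg_of_add_eq_zero_right e,
        neg_neg, one_smul]
      abel
    rcases h.mul_eq_zero (K.sub_mem h.mem K.one_mem) (K.add_mem h.mem K.one_mem) e1 with h1 | h1
    · apply h.ns 1
      rw [one_smul]
      exact sub_eq_zero.1 h1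
    · apply h.ns (-1)
      rw [neg_smul, one_smul]
      exact eq_neg_of_add_eq_zero_left h1
  obtain ⟨s, hs⟩ : ∃ s : F, s = (1 - N) / (1 + N) := ⟨_, rfl⟩
  obtain ⟨t, ht⟩ : ∃ t : F, t = 2 / (1 + N) := ⟨_, rfl⟩
  have ht0 : t ≠ 0 := by rw [ht]; exact div_ne_zero h2 h1N
  have hst : s * s + N * (t * t) = 1 := by
    rw [hs, ht]
    field_simp
    ring
  obtain ⟨r, hr⟩ : ∃ r : F, r = (s - 1) / t := ⟨_, rfl⟩
  have hrt : r * t = s - 1 := by rw [hr, div_mul_cancel₀ _ ht0]
  have hrr : 2 * r + r * (r * t) = -(N * t) := by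
    have : t * (2 * r + r * (r * t) + N * t) = 0 := by
      rw [hrt]
      linear_combination (s + 1) * hrt + hst
    linear_combination (_root_.mul_eq_zero.1 this).resolve_left ht0
  -- `y`
  obtain ⟨e1, he1O, he1⟩ := H889.exists_siegel_omegaGL Qf hQ (by omega) v (r • u) (by rw [← hqf]; exact P.qv)
    (by rw [← hqf, QuadraticMap.map_smul, P.qu, smul_zero]) (by rw [← hqfp, polar_smul_right, t3, smul_zero])
  obtain ⟨e2, he2O, he2⟩ := H889.exists_siegel_omegaGL Qf hQ (by omega) (θ *ᵥ u) (t • (θ *ᵥ v)) (by rw [← hqf]; exact t8)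
    (by rw [← hqf, QuadraticMap.map_smul, t9, smul_zero]) (by rw [← hqfp, polar_smul_right, t10, smul_zero])
  simp only [← hqfp, polar_smul_left, smul_eq_mul] at he1 he2
  obtain ⟨y, hy⟩ : ∃ y : GL ι F, y = e1 * e2 * e1 := ⟨_, rfl⟩
  have hyO : y ∈ omegaGL Qf := by
    rw [hy]
    exact (omegaGL Qf).mul_mem ((omegaGL Qf).mul_mem he1O he2O) he1O
  have hyv : ∀ a, (y : Matrix ι ι F) *ᵥ a = a + (s - 1) • (D *ᵥ (D *ᵥ a)) + t • (θ *ᵥ (D *ᵥ (D *ᵥ a))) := by
    intro a
    rw [hθDD, hDD, hy, Units.val_mul, Units.val_mul, ← Matrix.mulVec_mulVec, ← Matrix.mulVec_mulVec]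
    obtain ⟨z1, hz1⟩ : ∃ z1, z1 = (e1 : Matrix ι ι F) *ᵥ a := ⟨_, rfl⟩
    obtain ⟨z2, hz2⟩ : ∃ z2, z2 = (e2 : Matrix ι ι F) *ᵥ z1 := ⟨_, rfl⟩
    rw [← hz1, ← hz2]
    rw [he1] at hz1
    rw [he2] at hz2
    have p1 : polar q (θ *ᵥ u) z1 = polar q (θ *ᵥ u) a - r * polar q u a := by
      rw [hz1]
      simp only [polar_add_right, polar_neg_right, sub_eq_add_neg, polar_smul_right, smul_eq_mul, s1, s4]
      ring
    have p2 : polar q (θ *ᵥ v) z1 = polar q (θ *ᵥ v) a - r * polar q v a := by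
      rw [hz1]
      simp only [polar_add_right, polar_neg_right, sub_eq_add_neg, polar_smul_right, smul_eq_mul, s2, s3]
      ring
    have p3 : polar q v z1 = polar q v a := by
      rw [hz1]
      simp only [polar_add_right, polar_neg_right, sub_eq_add_neg, polar_smul_right, smul_eq_mul, t3, t2]
      ring
    have p4 : polar q u z1 = polar q u a := by
      rw [hz1]
      simp only [polar_add_right, polar_neg_right, sub_eq_add_neg, polar_smul_right, smul_eq_mul, t1, t0]
      ring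
    have p5 : polar q v z2 = polar q v a - t * (polar q (θ *ᵥ v) a - r * polar q v a) := by
      rw [hz2]
      simp only [polar_add_right, polar_neg_right, sub_eq_add_neg, polar_smul_right, smul_eq_mul, t5, t7, p1, p2, p3]
      ring
    have p6 : polar q u z2 = polar q u a - t * (polar q (θ *ᵥ u) a - r * polar q u a) := by
      rw [hz2]
      simp only [polar_add_right, polar_neg_right, sub_eq_add_neg, polar_smul_right, smul_eq_mul, t4, t6, p1, p2, p4]
      ring
    rw [he1 z2, p5, p6, hz2, p1, p2, hz1]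
    generalize polar q u a = α
    generalize polar q v a = β
    generalize polar q (θ *ᵥ u) a = γ
    generalize polar q (θ *ᵥ v) a = δ
    generalize θ *ᵥ u = u'
    generalize θ *ᵥ v = v'
    match_scalars
    · ring
    · linear_combination β * hrr - δ * hrt
    · linear_combination (-α) * hrr + γ * hrt
    · linear_combination (-α) * hrt
    · linear_combination β * hrt
  have hyM : (y : Matrix ι ι F) = 1 + (s - 1) • (D * D) + t • (θ * (D * D)) := by
    apply mat_ext
    intro a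
    rw [hyv, Matrix.add_mulVec, Matrix.add_mulVec, Matrix.one_mulVec, Matrix.smul_mulVec, Matrix.smul_mulVec,
      ← Matrix.mulVec_mulVec, ← Matrix.mulVec_mulVec, ← Matrix.mulVec_mulVec]
  have hyc : ∀ G : Matrix ι ι F, G * θ = θ * G → G * D = D * G → G * y = y * G := by
    intro G hGθ hGD
    have c1 : G * (D * D) = D * D * G := by rw [← mul_assoc, hGD, mul_assoc, hGD, mul_assoc]
    have c2 : G * (θ * (D * D)) = θ * (D * D) * G := by rw [← mul_assoc, hGθ, mul_assoc, c1, ← mul_assoc]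
    rw [hyM, mul_add, mul_add, add_mul, add_mul, mul_smul_comm, mul_smul_comm, smul_mul_assoc, smul_mul_assoc, c1, c2,
      mul_one, one_mul]
  have hyθ : (y : Matrix ι ι F) * θ = θ * y := by
    have c1 : (D * D) * θ = θ * (D * D) := by
      apply mat_ext
      intro a
      rw [← Matrix.mulVec_mulVec, ← Matrix.mulVec_mulVec, ← Matrix.mulVec_mulVec, ← Matrix.mulVec_mulVec, hθDD, hDD,
        htt, htt, hadj u a, hadj v a]
      module
    rw [hyM, add_mul, add_mul, mul_add, mul_add, smul_mul_assoc, smul_mul_assoc, mul_smul_comm, mul_smul_comm, c1,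
      mul_assoc θ, c1, mul_one, one_mul]
  -- the element of `M0`
  obtain ⟨g, hgO, hg⟩ := H889.exists_siegel_omegaGL Qf hQ (by omega) w (θ *ᵥ w) (by rw [← hqf]; exact hqw)
    (by rw [← hqf, (hF w).1, hqw, mul_zero]) (by rw [← hqfp, (hF w).2, hqw, mul_zero])
  simp only [← hqfp] at hg
  have hww : polar q w w = 0 := by rw [polar_self', hqw, mul_zero]
  have hwθw : polar q w (θ *ᵥ w) = 0 := by rw [(hF w).2, hqw, mul_zero]
  have hgθ : (g : Matrix ι ι F) * θ = θ * g := by
    apply mat_ext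
    intro a
    rw [← Matrix.mulVec_mulVec, ← Matrix.mulVec_mulVec, hg, hg, Matrix.mulVec_add, Matrix.mulVec_sub,
      Matrix.mulVec_smul, Matrix.mulVec_smul, htwo, htt, hadj w a]
    module
  have hwu : polar q w u = 0 := by rw [polar_comm, hp.pu]
  have hwv : polar q w v = 0 := by rw [polar_comm, hp.pv]
  have hwu' : polar q (θ *ᵥ w) u = 0 := by rw [polar_comm, hp'.pu]
  have hwv' : polar q (θ *ᵥ w) v = 0 := by rw [polar_comm, hp'.pv]
  have hgx : (g : Matrix ι ι F) * x = x * g := by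
    apply mat_ext
    intro a
    rw [← Matrix.mulVec_mulVec, ← Matrix.mulVec_mulVec, hg a, hx a, Matrix.mulVec_add, Matrix.mulVec_sub,
      Matrix.mulVec_smul, Matrix.mulVec_smul, Matrix.mulVec_add, Matrix.mulVec_sub, Matrix.mulVec_smul,
      Matrix.mulVec_smul, hg a, hg u, hg v, hx a, hx w, hx (θ *ᵥ w), hwu, hwv, hwu', hwv', hp.pu, hp.pv, hp'.pu,
      hp'.pv]
    module
  have hg2 : g ^ 2 ∉ scalars ι F := by
    rw [mem_scalars_iff]
    rintro ⟨c, hc⟩
    have f1 : ∀ a, ((g ^ 2 : GL ι F) : Matrix ι ι F) *ᵥ a = a + (2 : F) • (polar q w a • (θ *ᵥ w) - polar q (θ *ᵥ w) a • w) := by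
      intro a
      have f2 : (g : Matrix ι ι F) *ᵥ w = w := by
        rw [hg, hww, polar_comm q (θ *ᵥ w) w, hwθw]
        module
      have f3 : (g : Matrix ι ι F) *ᵥ (θ *ᵥ w) = θ *ᵥ w := by
        rw [Matrix.mulVec_mulVec, hgθ, ← Matrix.mulVec_mulVec, f2]
      rw [pow_two, Units.val_mul, ← Matrix.mulVec_mulVec, hg a, Matrix.mulVec_add, Matrix.mulVec_sub,
        Matrix.mulVec_smul, Matrix.mulVec_smul, f2, f3, hg a]
      module
    have hc1 : (c : F) = 1 := by
      have f2 := f1 u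
      rw [hc, hwu, hwu', Matrix.smul_mulVec, Matrix.one_mulVec] at f2
      have f3 : ((c : F) - 1) • u = 0 := by
        rw [sub_smul, one_smul, f2]
        module
      exact sub_eq_zero.1 ((smul_eq_zero.1 f3).resolve_right hu0)
    obtain ⟨a, ha⟩ : ∃ a, polar q w a ≠ 0 := by
      by_contra hcon
      push Not at hcon
      exact hw0 (hnd w hcon)
    have f2 := f1 a
    rw [hc, hc1, one_smul, Matrix.one_mulVec, left_eq_add] at f2
    have f3 := (h.lin hw0 (α := -(2 * polar q (θ *ᵥ w) a)) (β := 2 * polar q w a) (by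
      rw [← f2]; module)).2
    exact mul_ne_zero h2 ha f3
  -- end
  have hyA : m.π ⟨y, hyO⟩ ∈ A := by
    rw [← m.mem_hat_iff, hM]
    exact ⟨h.mem_norm hyθ, hyO⟩
  have hgA : m.π ⟨g, hgO⟩ ∈ A := by
    rw [← m.mem_hat_iff, hM]
    exact ⟨h.mem_norm hgθ, hgO⟩
  have hxA : m.π ⟨x, hxO⟩ ∉ A := by
    rw [← m.mem_hat_iff, hM]
    exact fun e => hxK e.1
  have hgx' : (m.π ⟨x, hxO⟩)⁻¹ * m.π ⟨g, hgO⟩ * m.π ⟨x, hxO⟩ = m.π ⟨g, hgO⟩ := by
    rw [← map_inv, ← map_mul, ← map_mul]
    congr 1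
    apply Subtype.ext
    change x⁻¹ * g * x = g
    have : g * x = x * g := Units.ext hgx
    rw [mul_assoc, this, inv_mul_cancel_left]
  have hfin := conj_mem_of_sq hE hxA hgA (by rw [hgx']; exact hgA) (by
    rw [← map_pow, Ne, m.ker]
    exact hg2) hyA ?_
  · rw [← map_inv, ← map_mul, ← map_mul, ← m.mem_hat_iff] at hfin
    have hfK : x⁻¹ * y * x ∈ subalgebraNormalizer K := hA hfin
    have hval : ((x⁻¹ * y * x : GL ι F) : Matrix ι ι F) = x' * (y : Matrix ι ι F) * (x : Matrix ι ι F) := by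
      rw [Units.val_mul, Units.val_mul, ← hx']
    have hxu : (x : Matrix ι ι F) *ᵥ u = u := by
      rw [hx, t1, t3]; module
    have hyw : ∀ a, Pp q θ u v a → (x' * (y : Matrix ι ι F) * (x : Matrix ι ι F)) *ᵥ a = a := by
      intro a ha
      have f1 : (x : Matrix ι ι F) *ᵥ a = a := by rw [hx, ha.pu, ha.pv]; module
      have f2 : (y : Matrix ι ι F) *ᵥ a = a := by
        rw [hyv, hθDD, hDD, ha.pu, ha.pv, ha.ptu, ha.ptv]; module
      rw [← Matrix.mulVec_mulVec, ← Matrix.mulVec_mulVec, f1, f2, hxi, ha.pu, ha.pv]; module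
    rcases h.conj hfK with hc | hc
    · rw [hval] at hc
      have f0 := congrArg (fun M => M *ᵥ u) hc
      simp only [← Matrix.mulVec_mulVec] at f0
      have f1 : (y : Matrix ι ι F) *ᵥ u = s • u + t • (θ *ᵥ u) := by
        rw [hyv, hθDD, hDD, t1, t3, s1, s3]; module
      have f2 : (y : Matrix ι ι F) *ᵥ (θ *ᵥ u) = s • (θ *ᵥ u) - (t * N) • u := by
        rw [Matrix.mulVec_mulVec, hyθ, ← Matrix.mulVec_mulVec, f1, Matrix.mulVec_add, Matrix.mulVec_smul,
          Matrix.mulVec_smul, htwo]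
        module
      have f3 : (x : Matrix ι ι F) *ᵥ (θ *ᵥ u) = θ *ᵥ u - u := by
        rw [hx, t4, t7]; module
      have f4 : x' *ᵥ u = u := by rw [hxi, t1, t3]; module
      have f5 : x' *ᵥ (θ *ᵥ u) = θ *ᵥ u + u := by rw [hxi, t4, t7]; module
      rw [f3, hxu, Matrix.mulVec_sub, f1, f2, Matrix.mulVec_sub, Matrix.mulVec_sub, Matrix.mulVec_add,
        Matrix.mulVec_smul, Matrix.mulVec_smul, Matrix.mulVec_smul, Matrix.mulVec_smul, f4, f5, Matrix.mulVec_add,
        Matrix.mulVec_smul, Matrix.mulVec_smul, Matrix.mulVec_add, htwo] at f0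
      have f6 := (h.lin hu0 (α := -t) (β := -(2 * t)) (by
        rw [← sub_eq_zero] at f0
        rw [← f0]
        module)).1
      exact ht0 (neg_eq_zero.1 f6)
    · rw [hval, zero_smul, zero_sub] at hc
      have f0 := congrArg (fun M => M *ᵥ w) hc
      simp only [Matrix.neg_mulVec] at f0
      rw [← Matrix.mulVec_mulVec w (x' * (y : Matrix ι ι F) * (x : Matrix ι ι F)) θ,
        ← Matrix.mulVec_mulVec w θ (x' * (y : Matrix ι ι F) * (x : Matrix ι ι F)), hyw _ hp', hyw _ hp] at f0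
      have f1 : (2 : F) • (θ *ᵥ w) = 0 := by
        rw [two_smul]
        nth_rewrite 1 [f0]
        rw [neg_add_cancel]
      exact h.mulVec_ne hw0 ((smul_eq_zero.1 f1).resolve_left h2)
  · intro k hk hkx
    obtain ⟨k, rfl⟩ := m.surj k
    have hk1 := hA ((m.mem_hat_iff k).2 hk)
    rw [← map_inv, ← map_mul, ← map_mul, ← m.mem_hat_iff] at hkx
    have hk2 : x⁻¹ * (k : GL ι F) * x ∈ subalgebraNormalizer K := hA hkx
    have f1 := h.sq_comm hk1
    have f2 := h.sq_comm hk2
    have hval : ((x⁻¹ * (k : GL ι F) * x : GL ι F) : Matrix ι ι F) = x' * ((k : GL ι F) : Matrix ι ι F) * x := by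
      rw [Units.val_mul, Units.val_mul, ← hx']
    obtain ⟨G, hG⟩ : ∃ G : Matrix ι ι F, G = ((k : GL ι F) : Matrix ι ι F) * ((k : GL ι F) : Matrix ι ι F) := ⟨_, rfl⟩
    have f3 : x' * ((k : GL ι F) : Matrix ι ι F) * x * (x' * ((k : GL ι F) : Matrix ι ι F) * x) = x' * G * x := by
      rw [hG]
      simp only [mul_assoc]
      rw [← mul_assoc (x : Matrix ι ι F) x', hxx', one_mul]
    rw [← hG] at f1
    rw [hval, f3] at f2
    have f4 : G * ((x : Matrix ι ι F) * θ * x') = ((x : Matrix ι ι F) * θ * x') * G := by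
      have f5 := congrArg (fun M => (x : Matrix ι ι F) * M * x') f2
      simp only [mul_assoc] at f5
      rw [← mul_assoc (x : Matrix ι ι F) x', hxx', one_mul, mul_one] at f5
      simpa only [mul_assoc] using f5
    have f6 : G * D = D * G := by
      rw [hDd, mul_sub, sub_mul, f4, f1]
    have f7 := hyc G f1 f6
    rw [← map_pow, ← map_mul, ← map_mul]
    congr 1
    apply Subtype.ext
    apply Units.ext
    change ((((k : GL ι F) ^ 2 : GL ι F)) : Matrix ι ι F) * (y : Matrix ι ι F) =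
      (y : Matrix ι ι F) * ((((k : GL ι F) ^ 2 : GL ι F)) : Matrix ι ι F)
    rw [pow_two, Units.val_mul, ← hG]
    exact f7

/-- **Unitary type, all `q`.** -/
theorem omC3U_all {Q : Type*} [Group Q] {A : Subgroup Q} {Γ : Subgroup (MulAut Q)} (hE : EPT A Γ)
    {F : Type*} [Field F] [Finite F] {ι : Type} [Fintype ι] [DecidableEq ι] {Qf : (ι → F) → F}
    (m : Model Q (omegaGL Qf)) (hn : 7 ≤ Fintype.card ι) (hQ : IsNondegenerateQuadraticForm Qf)
    (hirr : ActsIrreducibly (matrixSet (m.hat A))) {K : Subalgebra F (Matrix ι ι F)} (hK : IsFieldSubalgebra 2 K)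
    (hadj : IsAdjointClosedFor (polar Qf) K) (hns : ¬ IsSelfAdjointFor (polar Qf) K)
    (hHK : m.hat A ≤ subalgebraNormalizer K) : False := by
  obtain ⟨θ, b, N, h⟩ := exists_uk (q := H889.bundleQ Qf hQ) hK hadj hns
  by_cases h2 : (2 : F) = 0
  · refine omC3U_even hE hQ m hn h2 h (h.form_even h2 (by omega) hirr hHK ?_) hHK
    intro g hg x
    obtain ⟨t, -, ht⟩ := m.hat_le A hg
    rw [← ht]
    exact (mem_isometryGroup_iff _ _).1 t.2 x
  · exact omC3U_odd hE hQ m hn h2 (h.skew h2) ((h.skew h2).form_odd h2) hHK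

/-- **[Om-C3], unitary type.** -/
theorem omC3U : Cfsg.Agent.H778.EP.OmRow fun F _ _ ι _ _ Qf H => Geo.ActsIrreducibly (Geo.matrixSet H) ∧
    ∃ K : Subalgebra F (Matrix ι ι F), Geo.IsFieldSubalgebra 2 K ∧ Geo.IsAdjointClosedFor (QuadraticMap.polar Qf) K ∧
      ¬ Geo.IsSelfAdjointFor (QuadraticMap.polar Qf) K ∧ H ≤ Geo.subalgebraNormalizer K := by
  rintro Q _ _ - A Γ hE F _ _ ι _ _ Qf m hn hQ ⟨hirr, K, hK, hadj, hns, hHK⟩
  exact omC3U_all hE m hn hQ hirr hK hadj hns hHK

end Cfsg.Agent.H681.EP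
end

-- part: H893/EP/MainL
section
/-!
# S3499, row Om-C3, extension fields of prime degree at least five: the main argument (helper893)
-/

set_option autoImplicit false
set_option linter.unusedSectionVars false

namespace Cfsg.Agent.H893.EP

open QuadraticMap Module
open Cfsg.Agent.LieClassical.OrthCore Cfsg.Agent.LieClassical.OrthTrans Cfsg.Agent.LieClassical.OrthFinite

variable {F L V : Type*} [Field F] [Finite F] [Field L] [Algebra F L] [FiniteDimensional F L]
  [AddCommGroup V] [Module F V] [Module L V] [IsScalarTower F L V] [FiniteDimensional F V]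
  {Q : QuadraticForm F V}

/-- the element `x` -/
theorem exists_x (hQ : Nondeg Q) (hr : (finrank F L).Prime) (h5 : 5 ≤ finrank F L)
    (hn : finrank F V = finrank F L ∨ finrank F V = 2 * finrank F L) (h7 : 7 ≤ finrank F V)
    (hsa : ∀ (k : L) (v w : V), polar Q (k • v) w = polar Q v (k • w)) :
    ∃ x ∈ E Q, (∀ τ : L ≃ₐ[F] L, ¬ SL x τ) ∧ ∀ (a : V ≃ₗ[F] V) (τ τ' : L ≃ₐ[F] L), a ∈ E Q → SL a τ →
      SL (x⁻¹ * a * x) τ' → ∃ c : F, ∀ v, a v = c • v := by
  have hG : Good Q := good_of_finite hQ (by omega)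
  -- a nonsingular vector
  obtain ⟨e, he⟩ : ∃ e, Q e ≠ 0 := by
    by_contra hcon
    push Not at hcon
    obtain ⟨x, y, hxy⟩ := hG.exists_hyp
    have h1 := hxy.pair
    rw [polar, hcon, hcon, hcon, sub_zero, sub_zero] at h1
    exact zero_ne_one h1
  have he0 : e ≠ 0 := by
    rintro rfl
    exact he (QuadraticMap.map_zero Q)
  set! q := qe L Q e with hq
  have hqa : ∀ k : L, q k = Q (k • e) := fun k => rfl
  have hφ := qe_polar (L := L) hsa e
  have hq1 : q 1 ≠ 0 := by rw [hqa, one_smul]; exact he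
  obtain ⟨w1, w2, hw1, hw2, hind, hbad⟩ := exists_w hφ hr h5 hq1
  have hinj := mvv_inj (F := F) (L := L) he0
  set! u1 := w1 • e with hu1
  set! u2 := w2 • e with hu2
  have hQ1 : Q u1 ≠ 0 := hw1
  have hQ2 : Q u2 ≠ 0 := by
    have : Q u2 = Q u1 := hw2
    rw [this]; exact hQ1
  have hQ21 : Q u2 = Q u1 := hw2
  have hu12 : ∀ c : F, u2 ≠ c • u1 := by
    intro c hc
    apply hind c
    apply hinj
    rw [mvv_apply, mvv_apply, smul_assoc]
    exact hc
  have hu10 : u1 ≠ 0 := by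
    intro h
    rw [h] at hQ1
    exact hQ1 (QuadraticMap.map_zero Q)
  have hu20 : u2 ≠ 0 := by
    intro h
    rw [h] at hQ2
    exact hQ2 (QuadraticMap.map_zero Q)
  set! x : V ≃ₗ[F] V := refl Q u1 hQ1 * refl Q u2 hQ2 with hx
  have hxE : x ∈ E Q := hG.refl_mul_refl_mem hQ2 hQ1 hQ21
  set! W : Submodule F V := Submodule.span F {u1, u2} with hW
  have hu1W : u1 ∈ W := Submodule.subset_span (by simp)
  have hu2W : u2 ∈ W := Submodule.subset_span (by simp)
  have hxap : ∀ v, x v = refl Q u1 hQ1 (refl Q u2 hQ2 v) := fun v => rfl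
  have hxW : ∀ v, x v - v ∈ W := by
    intro v
    rw [hxap, refl_apply, refl_apply]
    have e1 : v - ((Q u2)⁻¹ * polar Q u2 v) • u2 -
        ((Q u1)⁻¹ * polar Q u1 (v - ((Q u2)⁻¹ * polar Q u2 v) • u2)) • u1 - v =
        - (((Q u2)⁻¹ * polar Q u2 v) • u2) -
        ((Q u1)⁻¹ * polar Q u1 (v - ((Q u2)⁻¹ * polar Q u2 v) • u2)) • u1 := by abel
    rw [e1]
    exact W.sub_mem (W.neg_mem (W.smul_mem _ hu2W)) (W.smul_mem _ hu1W)
  have hWdim : finrank F W ≤ 2 := by
    classical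
    have h := finrank_span_finset_le_card (R := F) ({u1, u2} : Finset V)
    rw [Finset.coe_pair] at h
    exact h.trans Finset.card_le_two
  -- preimages
  obtain ⟨v1, hv1, hv1'⟩ : ∃ v1, polar Q u2 v1 = 0 ∧ polar Q u1 v1 = - Q u1 := by
    obtain ⟨y, hy1, hy2⟩ : ∃ y, polar Q u2 y = 0 ∧ polar Q u1 y ≠ 0 := by
      by_contra hcon
      push Not at hcon
      -- `u1` is a multiple of `u2`
      obtain ⟨z, hz⟩ := hQ.exists_polar_eq hu20 1
      have h1 : u1 - polar Q u1 z • u2 = 0 := by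
        apply hQ
        intro y
        have h2 := hcon (y - polar Q u2 y • z) (by
          rw [polar_sub_right, polar_smul_right, hz, smul_eq_mul, mul_one, sub_self])
        rw [polar_sub_right, polar_smul_right, smul_eq_mul, sub_eq_zero] at h2
        rw [polar_sub_left, polar_smul_left, h2, smul_eq_mul, mul_comm, sub_self]
      rw [sub_eq_zero] at h1
      obtain ⟨t, ht⟩ : ∃ t : F, u1 = t • u2 := ⟨_, h1⟩
      by_cases h0 : t = 0
      · rw [h0, zero_smul] at ht
        exact hu10 ht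
      · apply hu12 t⁻¹
        rw [ht, smul_smul, inv_mul_cancel₀ h0, one_smul]
    refine ⟨(- Q u1 * (polar Q u1 y)⁻¹) • y, ?_, ?_⟩
    · rw [polar_smul_right, hy1, smul_zero]
    · rw [polar_smul_right, smul_eq_mul, mul_assoc, inv_mul_cancel₀ hy2, mul_one]
  have hx1 : x v1 - v1 = u1 := by
    rw [hxap, refl_apply hQ2, hv1, mul_zero, zero_smul, sub_zero, refl_apply hQ1, hv1', mul_neg, inv_mul_cancel₀ hQ1,
      neg_smul, one_smul]
    abel
  obtain ⟨v2, hv2⟩ := hQ.exists_polar_eq hu20 (- Q u2)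
  obtain ⟨s, hx2⟩ : ∃ s : F, x v2 - v2 = u2 - s • u1 := by
    refine ⟨(Q u1)⁻¹ * polar Q u1 (v2 + u2), ?_⟩
    have h1 : refl Q u2 hQ2 v2 = v2 + u2 := by
      rw [refl_apply, hv2, mul_neg, inv_mul_cancel₀ hQ2, neg_smul, one_smul]
      abel
    rw [hxap, h1, refl_apply hQ1]
    abel
  refine ⟨x, hxE, ?_, ?_⟩
  · intro τ hτ
    have h1 := eq_one_of_rank hr h5 hn h7 hτ (D := W) (by omega) hxW v1
    rw [← hx1, h1, sub_self] at hu10
    exact hu10 rfl
  intro a τ τ' haE ha hb
  -- `a` commutes with `x`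
  have hcomm : ∀ v, a (x v) = x (a v) := by
    let g : V ≃ₗ[F] V := a⁻¹ * (x⁻¹ * a * x)
    have hainv : SL a⁻¹ τ⁻¹ := by
      intro k v
      apply a.injective
      rw [ha]
      change a (a.symm (k • v)) = τ (τ.symm k) • a (a.symm v)
      rw [LinearEquiv.apply_symm_apply, LinearEquiv.apply_symm_apply, AlgEquiv.apply_symm_apply]
    have hg : SL g (τ⁻¹ * τ') := by
      intro k v
      change a⁻¹ ((x⁻¹ * a * x) (k • v)) = _
      rw [hb, hainv]
      rfl
    have hgD : ∀ v, g v - v ∈ W ⊔ W.map (a⁻¹ : V ≃ₗ[F] V).toLinearMap := by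
      intro v
      set! y := a (x v) with hy
      have e1 : g v = a⁻¹ (x⁻¹ y) := rfl
      have e2 : a⁻¹ y = x v := by
        change a.symm (a (x v)) = _
        rw [LinearEquiv.symm_apply_apply]
      have e3 : g v - v = a⁻¹ (x⁻¹ y - y) + (x v - v) := by
        rw [map_sub, e1, e2]
        abel
      rw [e3]
      refine Submodule.add_mem _ (Submodule.mem_sup_right ⟨x⁻¹ y - y, ?_, rfl⟩) (Submodule.mem_sup_left (hxW v))
      have h1 := hxW (x⁻¹ y)
      have h2 : x (x⁻¹ y) = y := x.apply_symm_apply y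
      rw [h2] at h1
      have h3 := W.neg_mem h1
      rwa [neg_sub] at h3
    have h1 := Submodule.finrank_add_le_finrank_add_finrank W (W.map (a⁻¹ : V ≃ₗ[F] V).toLinearMap)
    have h2 := Submodule.finrank_map_le (a⁻¹ : V ≃ₗ[F] V).toLinearMap W
    have h3 := eq_one_of_rank hr h5 hn h7 hg (by omega) hgD
    intro v
    have h4 := h3 v
    change a.symm (x.symm (a (x v))) = v at h4
    rw [LinearEquiv.symm_apply_eq, LinearEquiv.symm_apply_eq] at h4
    exact h4
  have hau1 : a u1 ∈ W := by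
    rw [← hx1, map_sub, hcomm]
    exact hxW _
  have hau2 : a u2 ∈ W := by
    have h1 : a (u2 - s • u1) ∈ W := by
      rw [← hx2, map_sub, hcomm]
      exact hxW _
    rw [map_sub, LinearEquiv.map_smul a s u1] at h1
    have := W.add_mem h1 (W.smul_mem s hau1)
    rwa [sub_add_cancel] at this
  -- elements of `W`
  have hWe : ∀ v ∈ W, ∃ k ∈ Submodule.span F {w1, w2}, v = k • e := by
    intro v hv
    obtain ⟨c, d, rfl⟩ := Submodule.mem_span_pair.1 hv
    refine ⟨c • w1 + d • w2, Submodule.mem_span_pair.2 ⟨c, d, rfl⟩, ?_⟩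
    rw [add_smul, smul_assoc, smul_assoc]
  have hw10 : w1 ≠ 0 := by
    rintro rfl
    exact hw1 (QuadraticMap.map_zero _)
  have hτw1 : τ w1 ≠ 0 := fun h => hw10 (by
    have := congrArg τ.symm h
    rwa [AlgEquiv.symm_apply_apply, map_zero] at this)
  obtain ⟨ρ, hρ⟩ : ∃ ρ : L, a e = ρ • e := by
    obtain ⟨k, -, hk⟩ := hWe _ hau1
    rw [hu1, ha] at hk
    refine ⟨(τ w1)⁻¹ * k, ?_⟩
    rw [mul_smul, ← hk, smul_smul, inv_mul_cancel₀ hτw1, one_smul]
  let T : L →ₗ[F] L :=
    { toFun := fun k => τ k * ρ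
      map_add' := fun k l => by rw [map_add, add_mul]
      map_smul' := fun c k => by rw [map_smul, smul_mul_assoc]; rfl }
  have hT : ∀ k, T k = τ k * ρ := fun _ => rfl
  have haT : ∀ k : L, a (k • e) = T k • e := by
    intro k
    rw [ha, hρ, smul_smul, hT]
  have hqT : ∀ k, q (T k) = q k := by
    intro k
    rw [hqa, hqa, ← haT]
    exact E_le_O haE _
  have hTin : ∀ k : L, a (k • e) ∈ W → T k ∈ Submodule.span F {w1, w2} := by
    intro k hk
    obtain ⟨l, hl, hl'⟩ := hWe _ hk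
    rw [haT] at hl'
    have : T k = l := hinj hl'
    rw [this]
    exact hl
  have hτ1 : τ = 1 := by
    by_contra hτ
    exact hbad T τ ρ hτ hT hqT ⟨hTin w1 hau1, hTin w2 hau2⟩
  subst hτ1
  have hρ1 : ρ = 1 ∨ ρ = -1 := pm_one hφ hq1 fun l => hqT l
  obtain ⟨c, hc, hce⟩ : ∃ c : F, (c = 1 ∨ c = -1) ∧ a e = c • e := by
    rcases hρ1 with h | h
    · exact ⟨1, Or.inl rfl, by rw [hρ, h, one_smul, one_smul]⟩
    · exact ⟨-1, Or.inr rfl, by rw [hρ, h, neg_smul, neg_smul, one_smul, one_smul]⟩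
  refine ⟨c, ?_⟩
  rcases hn with hn | hn
  · have hs : Function.Surjective (mvv F e : L →ₗ[F] V) :=
      (LinearMap.injective_iff_surjective_of_finrank_eq_finrank hn.symm).1 hinj
    intro v
    obtain ⟨k, rfl⟩ := hs v
    rw [mvv_apply, ha, hce, smul_algebra_smul_comm]
    rfl
  · exact parity hG hr h5 hn hsa he haE (fun k v => ha k v) hc hce

end Cfsg.Agent.H893.EP
end

-- part: H893/EP/OmC3S
section
/-!
# S3499, row Om-C3, degree at least five, dimension one or two over the extension field (helper893)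
-/

set_option autoImplicit false
set_option linter.unusedSectionVars false

namespace Cfsg.Agent.H893.EP

open QuadraticMap Module Matrix
open Cfsg.Agent.H284 Cfsg.Agent.H419.EP Cfsg.Agent.H925 Cfsg.Agent.H907
open Cfsg.Agent.LieClassical.OrthCore Cfsg.Agent.LieClassical.OrthTrans Cfsg.Agent.LieClassical.OrthFinite
open scoped MatrixGroups

section conj

variable {F : Type} [Field F] {ι : Type} [Fintype ι] [DecidableEq ι] {K : Subalgebra F (Matrix ι ι F)}

/-- the automorphism of `K` induced by an element of the normaliser -/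
def conjK {g : GL ι F} (hg : g ∈ Geo.subalgebraNormalizer K) : K ≃ₐ[F] K where
  toFun k := ⟨(g : Matrix ι ι F) * k * ((g⁻¹ : GL ι F) : Matrix ι ι F), (hg k).1 k.2⟩
  invFun k := ⟨((g⁻¹ : GL ι F) : Matrix ι ι F) * k * (g : Matrix ι ι F), by
    have h1 := ((Geo.subalgebraNormalizer K).inv_mem hg (k : Matrix ι ι F)).1 k.2
    rwa [inv_inv] at h1⟩
  left_inv k := Subtype.ext (by
    show ((g⁻¹ : GL ι F) : Matrix ι ι F) * ((g : Matrix ι ι F) * k * ((g⁻¹ : GL ι F) : Matrix ι ι F)) * (g : Matrix ι ι F) = k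
    calc _ = (((g⁻¹ : GL ι F) : Matrix ι ι F) * (g : Matrix ι ι F)) * k *
          (((g⁻¹ : GL ι F) : Matrix ι ι F) * (g : Matrix ι ι F)) := by simp only [mul_assoc]
      _ = _ := by rw [Units.inv_mul, one_mul, mul_one])
  right_inv k := Subtype.ext (by
    show (g : Matrix ι ι F) * (((g⁻¹ : GL ι F) : Matrix ι ι F) * k * (g : Matrix ι ι F)) * ((g⁻¹ : GL ι F) : Matrix ι ι F) = k
    calc _ = ((g : Matrix ι ι F) * ((g⁻¹ : GL ι F) : Matrix ι ι F)) * k *
          ((g : Matrix ι ι F) * ((g⁻¹ : GL ι F) : Matrix ι ι F)) := by simp only [mul_assoc]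
      _ = _ := by rw [Units.mul_inv, one_mul, mul_one])
  map_mul' a b := Subtype.ext (by
    show (g : Matrix ι ι F) * ((a : Matrix ι ι F) * b) * ((g⁻¹ : GL ι F) : Matrix ι ι F) =
      (g : Matrix ι ι F) * a * ((g⁻¹ : GL ι F) : Matrix ι ι F) * ((g : Matrix ι ι F) * b * ((g⁻¹ : GL ι F) : Matrix ι ι F))
    calc _ = (g : Matrix ι ι F) * a * 1 * b * ((g⁻¹ : GL ι F) : Matrix ι ι F) := by simp only [mul_assoc, mul_one]
      _ = (g : Matrix ι ι F) * a * (((g⁻¹ : GL ι F) : Matrix ι ι F) * (g : Matrix ι ι F)) * b *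
          ((g⁻¹ : GL ι F) : Matrix ι ι F) := by rw [Units.inv_mul]
      _ = _ := by simp only [mul_assoc])
  map_add' a b := Subtype.ext (by
    show (g : Matrix ι ι F) * ((a : Matrix ι ι F) + b) * ((g⁻¹ : GL ι F) : Matrix ι ι F) = _
    rw [mul_add, add_mul]
    rfl)
  commutes' c := Subtype.ext (by
    show (g : Matrix ι ι F) * (algebraMap F (Matrix ι ι F) c) * ((g⁻¹ : GL ι F) : Matrix ι ι F) =
      algebraMap F (Matrix ι ι F) c
    rw [← Algebra.commutes, mul_assoc, Units.mul_inv, mul_one])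

theorem conjK_apply {g : GL ι F} (hg : g ∈ Geo.subalgebraNormalizer K) (k : K) :
    ((conjK hg k : K) : Matrix ι ι F) = (g : Matrix ι ι F) * k * ((g⁻¹ : GL ι F) : Matrix ι ι F) := rfl

/-- the `K`-module `F^ι` -/
@[reducible]
def modK (K : Subalgebra F (Matrix ι ι F)) : Module K (ι → F) where
  smul k v := (k : Matrix ι ι F) *ᵥ v
  one_smul v := Matrix.one_mulVec v
  mul_smul a b v := (Matrix.mulVec_mulVec v (a : Matrix ι ι F) b).symm
  smul_zero _ := Matrix.mulVec_zero _
  smul_add _ v w := Matrix.mulVec_add _ v w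
  add_smul _ _ v := Matrix.add_mulVec _ _ v
  zero_smul v := Matrix.zero_mulVec v

end conj

/-- **S3499, Om-C3**, `[K : F] = r ≥ 5` prime, `n = r` or `n = 2 r` -/
theorem omC3S : Cfsg.Agent.H778.EP.OmRow fun F _ _ ι _ _ Qf H => ∃ (r : ℕ) (K : Subalgebra F (Matrix ι ι F)),
    r.Prime ∧ 5 ≤ r ∧ (Fintype.card ι = r ∨ Fintype.card ι = 2 * r) ∧ Geo.IsFieldSubalgebra r K ∧
      Geo.IsSelfAdjointFor (QuadraticMap.polar Qf) K ∧ H ≤ Geo.subalgebraNormalizer K := by
  intro Q _ _ hs A Γ h F _ _ ι _ _ Qf m h7 hQ ⟨r, K, hr, h5, hn, hK, hsa, hle⟩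
  have hne : Nonempty ι := Fintype.card_pos_iff.1 (by omega)
  let fK : Field K := (isField_of hK).toField
  let mK : Module K (ι → F) := modK K
  have hsm : ∀ (k : K) (v : ι → F), k • v = (k : Matrix ι ι F) *ᵥ v := fun _ _ => rfl
  have hst : IsScalarTower F K (ι → F) := ⟨fun c k v => by
    rw [hsm, hsm]
    exact Matrix.smul_mulVec c (k : Matrix ι ι F) v⟩
  have hfr : finrank F K = r := hK.finrank_eq
  have hfV : finrank F (ι → F) = Fintype.card ι := Module.finrank_fintype_fun_eq_card F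
  obtain ⟨x, hxE, hx1, hx2⟩ := exists_x (F := F) (L := K) (V := ι → F) (Q := qf hQ) (nondeg_qf hQ) (by rw [hfr]; exact hr)
    (by rw [hfr]; exact h5) (by rw [hfr, hfV]; exact hn) (by rw [hfV]; exact h7) (fun k v w => hsa k k.2 v w)
  obtain ⟨x', hx'S, hx'v⟩ := exists_omegaGL hQ (by omega) hxE
  -- elements of the normaliser are semilinear
  have hSL : ∀ (g : GL ι F) (hg : g ∈ Geo.subalgebraNormalizer K), SL (L := K) (glEquiv ι F g) (conjK hg) := by
    intro g hg k v
    simp only [glEquiv_apply, glEquiv_apply, hsm, hsm, conjK_apply, Matrix.mulVec_mulVec, Matrix.mulVec_mulVec, mul_assoc,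
      Units.inv_mul, mul_one]
  have hxx : glEquiv ι F x' = x := LinearEquiv.ext hx'v
  have hx'A : x' ∉ m.hat A := by
    intro hc
    have h1 := hSL x' (hle hc)
    rw [hxx] at h1
    exact hx1 _ h1
  obtain ⟨s, hs1, hs2⟩ := exists_nonscalar h m hx'S hx'A
  obtain ⟨hs3, hs4⟩ := Subgroup.mem_inf.1 hs1
  rw [mem_cj] at hs4
  have hsE : glEquiv ι F s ∈ E (qf hQ) := (mem_omegaGL_iff hQ (by omega)).1 (m.hat_le A hs3)
  have h4 := hSL _ (hle hs4)
  simp only [map_mul, map_mul, map_inv, hxx] at h4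
  obtain ⟨c, hc⟩ := hx2 (glEquiv ι F s) _ _ hsE (hSL s (hle hs3)) h4
  apply hs2
  have hmat : (s : Matrix ι ι F) = c • (1 : Matrix ι ι F) := by
    apply Matrix.ext_of_mulVec_single
    intro i
    have := hc (Pi.single i 1)
    rw [glEquiv_apply] at this
    rw [this, Matrix.smul_mulVec, Matrix.one_mulVec]
  have hc0 : c ≠ 0 := by
    rintro rfl
    rw [zero_smul] at hmat
    exact s.ne_zero hmat
  exact (Geo.mem_scalars_iff s).2 ⟨Units.mk0 c hc0, hmat⟩

end Cfsg.Agent.H893.EP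
end

-- part: H893/EP/TwoR
section
/-!
# S3499, row Om-C3, degree two, self-adjoint: isometries over `L` (helper893)

`comm_sq`, `comm_all`: elements of the commutator group of `O(R)`, `R` a quadratic form over `L`, multiplying a singular
vector by a given scalar.
-/

set_option autoImplicit false
set_option linter.unusedSectionVars false

namespace Cfsg.Agent.H893.EP

open QuadraticMap Module
open Cfsg.Agent.LieClassical.OrthCore Cfsg.Agent.LieClassical.OrthTrans Cfsg.Agent.LieClassical.OrthFinite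
open scoped commutatorElement

section ovL

variable {L V : Type*} [Field L] [AddCommGroup V] [Module L V] {R : QuadraticForm L V}

theorem comm_sq {s s' : V} (h : Hyp R s s') {μ : L} (hμ : μ ≠ 0) : ∃ g ∈ ⁅O R, O R⁆, g s = (μ * μ) • s := by
  have hs : polar R s s = 0 := h.polar_left
  have hs' : polar R s' s' = 0 := h.polar_right
  have hss' := h.pair
  have hs's := h.pair'
  have e3 : R (s + s') ≠ 0 := by
    rw [Q_add, h.left, h.right, h.pair, zero_add, zero_add]
    exact one_ne_zero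
  have e4' : R (s + μ • s') = μ := by
    rw [Q_add, QuadraticMap.map_smul, h.left, h.right, polar_smul_right, h.pair]
    simp
  have e4 : R (s + μ • s') ≠ 0 := by rw [e4']; exact hμ
  have ew' : R (s' - s) = -1 := by
    rw [sub_eq_add_neg, Q_add, QuadraticMap.map_neg, h.left, h.right, polar_neg_right, hs's]
    simp
  have ew : R (s' - s) ≠ 0 := by rw [ew']; exact neg_ne_zero.2 one_ne_zero
  have e3' : R (s + s') = 1 := by rw [Q_add, h.left, h.right, h.pair, zero_add, zero_add]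
  set! h0 : V ≃ₗ[L] V := refl R (s + s') e3 * refl R (s + μ • s') e4 with hh0
  set! w : V ≃ₗ[L] V := refl R (s' - s) ew with hw
  have hO : h0 ∈ O R := (O R).mul_mem (refl_mem_O e3) (refl_mem_O e4)
  have wO : w ∈ O R := refl_mem_O ew
  have ws' : w s' = s := refl_sub_apply (by rw [h.left, h.right]) ew
  have ws : w s = s' := by
    have h1 : w * w = 1 := refl_mul_self ew
    have h2 := DFunLike.congr_fun h1 s'
    change w (w s') = s' at h2
    rwa [ws'] at h2
  have f1 : h0 s = μ • s := by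
    show refl R (s + s') e3 (refl R (s + μ • s') e4 s) = _
    have g1 : refl R (s + μ • s') e4 s = -(μ • s') := by
      rw [refl_apply e4, e4', polar_add_left, polar_smul_left, hs, hs's, smul_eq_mul, mul_one, zero_add,
        inv_mul_cancel₀ hμ]
      module
    rw [g1, refl_apply e3, e3', polar_neg_right, polar_smul_right, polar_add_left, hss', hs']
    simp only [inv_one, smul_eq_mul]
    module
  have f2 : h0 s' = μ⁻¹ • s' := by
    show refl R (s + s') e3 (refl R (s + μ • s') e4 s') = _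
    have g1 : refl R (s + μ • s') e4 s' = -(μ⁻¹ • s) := by
      rw [refl_apply e4, e4', polar_add_left, polar_smul_left, hs', hss', smul_zero, add_zero, mul_one, smul_add,
        smul_smul, inv_mul_cancel₀ hμ]
      module
    rw [g1, refl_apply e3, e3', polar_neg_right, polar_smul_right, polar_add_left, hs, hs's]
    simp only [inv_one, smul_eq_mul]
    module
  refine ⟨⁅h0, w⁆, Subgroup.commutator_mem_commutator hO wO, ?_⟩
  have h0i : h0⁻¹ s' = μ • s' := by
    apply h0.injective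
    have h1 : h0 (h0⁻¹ s') = s' := h0.apply_symm_apply s'
    rw [h1, map_smul, f2, smul_smul, mul_inv_cancel₀ hμ, one_smul]
  have wi : w⁻¹ s = s' := by
    apply w.injective
    have h1 : w (w⁻¹ s) = s := w.apply_symm_apply s
    rw [h1, ws']
  rw [commutatorElement_def]
  show h0 (w (h0⁻¹ (w⁻¹ s))) = _
  rw [wi, h0i, map_smul, ws', map_smul, f1, smul_smul]

/-- two orthogonal nonsingular vectors represent everything -/
theorem exists_val [Finite L] (h2 : (2 : L) ≠ 0) {e e' : V} (he : R e ≠ 0) (he' : R e' ≠ 0) (hee : polar R e e' = 0)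
    (c : L) : ∃ a b : L, R (a • e + b • e') = c := by
  classical
  have hft : Fintype L := Fintype.ofFinite L
  have hodd : Fintype.card L % 2 = 1 := by
    rcases Nat.mod_two_eq_zero_or_one (Fintype.card L) with h | h
    · exfalso
      apply h2
      have h3 : ringChar L = 2 := by
        by_contra hne
        have := FiniteField.odd_card_of_char_ne_two (F := L) hne
        omega
      have : CharP L 2 := ringChar.of_eq h3
      exact CharTwo.two_eq_zero
    · exact h
  obtain ⟨a, b, hab⟩ := FiniteField.exists_root_sum_quadratic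
    (f := Polynomial.C (R e) * Polynomial.X ^ 2 - Polynomial.C c) (g := Polynomial.C (R e') * Polynomial.X ^ 2)
    (by
      rw [Polynomial.degree_sub_eq_left_of_degree_lt]
      · exact Polynomial.degree_C_mul_X_pow 2 he
      · rw [Polynomial.degree_C_mul_X_pow 2 he]
        exact lt_of_le_of_lt Polynomial.degree_C_le (by decide))
    (Polynomial.degree_C_mul_X_pow 2 he') hodd
  refine ⟨a, b, ?_⟩
  rw [Q_add, QuadraticMap.map_smul, QuadraticMap.map_smul, polar_smul_left, polar_smul_right, hee]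
  simp only [Polynomial.eval_sub, Polynomial.eval_mul, Polynomial.eval_C, Polynomial.eval_pow, Polynomial.eval_X] at hab
  simp only [smul_eq_mul]
  linear_combination hab

/-- orthogonal nonsingular vectors in `⟨s, s'⟩^⊥` -/
theorem exists_two (hR : Nondeg R) (h4 : 4 ≤ finrank L V) (h2 : (2 : L) ≠ 0) {s s' : V} (h : Hyp R s s') :
    ∃ e e' : V, R e ≠ 0 ∧ R e' ≠ 0 ∧ polar R e e' = 0 ∧ polar R s e = 0 ∧ polar R s' e = 0 ∧ polar R s e' = 0 ∧
      polar R s' e' = 0 := by
  obtain ⟨a, c, h1, h2', h3, h4', h5⟩ := exists_perp2 hR (by omega) h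
  obtain ⟨e, hse, hs'e, he⟩ : ∃ e, polar R s e = 0 ∧ polar R s' e = 0 ∧ R e ≠ 0 := by
    rcases exists_nonsing h5 with h | h | h
    · exact ⟨a, h1, h2', h⟩
    · exact ⟨c, h3, h4', h⟩
    · exact ⟨a + c, by rw [polar_add_right, h1, h3, add_zero], by rw [polar_add_right, h2', h4', add_zero], h⟩
  have hes : polar R e s = 0 := polar_zero_of_comm hse
  have hes' : polar R e s' = 0 := polar_zero_of_comm hs'e
  have hee : polar R e e ≠ 0 := by
    rw [polar_self']
    exact mul_ne_zero h2 he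
  obtain ⟨z, hz0, hz⟩ := exists_perp_ne (Q := R) ![s, s', e] (by omega)
  have z1 : polar R s z = 0 := hz 0
  have z2 : polar R s' z = 0 := hz 1
  have z3 : polar R e z = 0 := hz 2
  obtain ⟨w, hw⟩ := hR.exists_polar_eq hz0 1
  set! z' := w - polar R s' w • s - polar R s w • s' - (polar R e w / polar R e e) • e with hz'
  have y1 : polar R s z' = 0 := by
    rw [hz', polar_sub_right, polar_sub_right, polar_sub_right, polar_smul_right, polar_smul_right, polar_smul_right,
      h.polar_left, h.pair, hse]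
    simp
  have y2 : polar R s' z' = 0 := by
    rw [hz', polar_sub_right, polar_sub_right, polar_sub_right, polar_smul_right, polar_smul_right, polar_smul_right,
      h.polar_right, h.pair', hs'e]
    simp
  have y3 : polar R e z' = 0 := by
    rw [hz', polar_sub_right, polar_sub_right, polar_sub_right, polar_smul_right, polar_smul_right, polar_smul_right,
      hes, hes', smul_eq_mul, smul_eq_mul, smul_eq_mul, div_mul_cancel₀ _ hee]
    ring
  have y4 : polar R z z' = 1 := by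
    rw [hz', polar_sub_right, polar_sub_right, polar_sub_right, polar_smul_right, polar_smul_right, polar_smul_right,
      hw, polar_zero_of_comm z1, polar_zero_of_comm z2, polar_zero_of_comm z3]
    simp
  rcases exists_nonsing y4 with h6 | h6 | h6
  · exact ⟨e, z, he, h6, z3, hse, hs'e, z1, z2⟩
  · exact ⟨e, z', he, h6, y3, hse, hs'e, y1, y2⟩
  · exact ⟨e, z + z', he, h6, by rw [polar_add_right, z3, y3, add_zero], hse, hs'e,
      by rw [polar_add_right, z1, y1, add_zero], by rw [polar_add_right, z2, y2, add_zero]⟩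

theorem refl_pair_comm {x y : V} (hx : R x ≠ 0) (hy : R y ≠ 0) (h : R x = R y) (hv : R (y - x) ≠ 0) :
    refl R x hx * refl R y hy ∈ ⁅O R, O R⁆ := by
  set! T := refl R (y - x) hv with hT
  have h1 : T y = x := refl_sub_apply h hv
  have h2 : T x = y := by
    have e1 : T * T = 1 := refl_mul_self hv
    have e2 := DFunLike.congr_fun e1 y
    change T (T y) = y at e2
    rwa [h1] at e2
  have h3 : T * refl R x hx * T⁻¹ = refl R y hy := by
    have hq : R (T x) ≠ 0 := by rw [h2]; exact hy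
    rw [refl_conj (refl_mem_O hv) hx hq]
    congr 1
  have h4 : refl R x hx * refl R y hy = ⁅refl R x hx, T⁆ := by
    have h5 : (refl R x hx)⁻¹ = refl R x hx := refl_inv hx
    rw [commutatorElement_def, h5, ← h3]
    group
  rw [h4]
  exact Subgroup.commutator_mem_commutator (refl_mem_O hx) (refl_mem_O hv)

theorem comm_all [Finite L] (hR : Nondeg R) (h4 : 4 ≤ finrank L V) (h2 : (2 : L) ≠ 0) {s s' : V} (h : Hyp R s s')
    {ζ : L} (hζ : ζ ≠ 0) : ∃ g ∈ ⁅O R, O R⁆, g s = ζ • s := by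
  obtain ⟨e, e', he, he', hee, h5, h6, h7, h8⟩ := exists_two hR h4 h2 h
  obtain ⟨a1, b1, hv1⟩ := exists_val h2 he he' hee 1
  obtain ⟨a2, b2, hv2⟩ := exists_val h2 he he' hee ζ
  set e1 := a1 • e + b1 • e' with he1
  set e2 := a2 • e + b2 • e' with he2
  have hs := h.polar_left
  have hs' := h.polar_right
  have hss' := h.pair
  have hs's := h.pair'
  have p1 : polar R e1 s = 0 := by
    rw [he1, polar_add_left, polar_smul_left, polar_smul_left, polar_zero_of_comm h5, polar_zero_of_comm h7]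
    simp
  have p1' : polar R e1 s' = 0 := by
    rw [he1, polar_add_left, polar_smul_left, polar_smul_left, polar_zero_of_comm h6, polar_zero_of_comm h8]
    simp
  have p2 : polar R e2 s = 0 := by
    rw [he2, polar_add_left, polar_smul_left, polar_smul_left, polar_zero_of_comm h5, polar_zero_of_comm h7]
    simp
  have p2' : polar R e2 s' = 0 := by
    rw [he2, polar_add_left, polar_smul_left, polar_smul_left, polar_zero_of_comm h6, polar_zero_of_comm h8]
    simp
  have q1 : R e1 ≠ 0 := by rw [hv1]; exact one_ne_zero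
  have q2 : R e2 ≠ 0 := by rw [hv2]; exact hζ
  have v3 : R (s + s') = 1 := by rw [Q_add, h.left, h.right, h.pair, zero_add, zero_add]
  have v4 : R (s + ζ • s') = ζ := by
    rw [Q_add, QuadraticMap.map_smul, h.left, h.right, polar_smul_right, h.pair]
    simp
  have q3 : R (s + s') ≠ 0 := by rw [v3]; exact one_ne_zero
  have q4 : R (s + ζ • s') ≠ 0 := by rw [v4]; exact hζ
  have c1 : refl R e1 q1 * refl R (s + s') q3 ∈ ⁅O R, O R⁆ := by
    refine refl_pair_comm q1 q3 (by rw [hv1, v3]) ?_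
    rw [sub_eq_add_neg, Q_add, QuadraticMap.map_neg, polar_neg_right, polar_add_left, polar_zero_of_comm p1,
      polar_zero_of_comm p1', hv1, v3, add_zero, neg_zero, add_zero, one_add_one_eq_two]
    exact h2
  have c2 : refl R e2 q2 * refl R (s + ζ • s') q4 ∈ ⁅O R, O R⁆ := by
    refine refl_pair_comm q2 q4 (by rw [hv2, v4]) ?_
    rw [sub_eq_add_neg, Q_add, QuadraticMap.map_neg, polar_neg_right, polar_add_left, polar_smul_left,
      polar_zero_of_comm p2, polar_zero_of_comm p2', hv2, v4, smul_zero, add_zero, neg_zero, add_zero, ← two_mul]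
    exact mul_ne_zero h2 hζ
  refine ⟨_, Subgroup.mul_mem _ c1 c2, ?_⟩
  show refl R e1 q1 (refl R (s + s') q3 (refl R e2 q2 (refl R (s + ζ • s') q4 s))) = ζ • s
  have g4 : refl R (s + ζ • s') q4 s = -(ζ • s') := by
    rw [refl_apply q4, v4, polar_add_left, polar_smul_left, hs, hs's, smul_eq_mul, mul_one, zero_add,
      inv_mul_cancel₀ hζ]
    module
  have g2 : refl R e2 q2 (-(ζ • s')) = -(ζ • s') := by
    rw [refl_apply q2, polar_neg_right, polar_smul_right, p2']
    simp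
  have g3 : refl R (s + s') q3 (-(ζ • s')) = ζ • s := by
    rw [refl_apply q3, v3, polar_neg_right, polar_smul_right, polar_add_left, hss', hs']
    simp only [inv_one, smul_eq_mul]
    module
  rw [g4, g2, g3, refl_apply q1, polar_smul_right, p1]
  simp

end ovL

end Cfsg.Agent.H893.EP
end

-- part: H893/EP/TwoMain
section
/-!
# S3499, row Om-C3, degree two, `K` self-adjoint, `|F| ≥ 3` (helper893)

`x = 1 + N` the long root element of the totally singular `K`-line `⟨s⟩`, `N` is antilinear, `Â ∩ Â^x = C_Â(N)`;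
`g ∈ Â` with `g N g⁻¹ = c N`, `c ≠ 1`.
-/

set_option autoImplicit false
set_option linter.unusedSectionVars false

namespace Cfsg.Agent.H893.EP

open QuadraticMap Module
open Cfsg.Agent.LieClassical.OrthCore Cfsg.Agent.LieClassical.OrthTrans Cfsg.Agent.LieClassical.OrthFinite
open scoped commutatorElement

section gen

variable {F L : Type*} [Field F] [Finite F] [Field L] [Algebra F L] [FiniteDimensional F L]

open Cfsg.Agent.H457.RC in
theorem exists_gen (h2 : finrank F L = 2) : ∃ (κ : L) (s t : F), Gen F L κ s t := by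
  obtain ⟨κ, hκ⟩ : ∃ κ : L, ∀ c : F, κ ≠ algebraMap F L c := by
    by_contra hcon
    push Not at hcon
    have h3 := finrank_le_one (R := F) (1 : L) fun w => by
      obtain ⟨c, hc⟩ := hcon w
      exact ⟨c, by rw [hc, Algebra.smul_def, mul_one]⟩
    omega
  have hind : LinearIndependent F ![(1 : L), κ] := by
    rw [LinearIndependent.pair_iff' one_ne_zero]
    intro a ha
    apply hκ a
    rw [← ha, Algebra.smul_def, mul_one]
  have htop : Submodule.span F ({1, κ} : Set L) = ⊤ := by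
    apply Submodule.eq_top_of_finrank_eq
    rw [h2]
    have h3 := finrank_span_eq_card hind
    rw [Matrix.range_cons, Matrix.range_cons, Matrix.range_empty, Set.union_empty, Set.singleton_union] at h3
    simpa using h3
  have hgen : ∀ a : L, ∃ x y : F, a = algebraMap F L x + algebraMap F L y * κ := by
    intro a
    have ha : a ∈ Submodule.span F ({1, κ} : Set L) := by rw [htop]; trivial
    obtain ⟨x, y, h⟩ := Submodule.mem_span_pair.1 ha
    refine ⟨x, y, ?_⟩
    rw [← h, Algebra.smul_def, Algebra.smul_def, mul_one]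
  obtain ⟨x, y, hxy⟩ := hgen (κ ^ 2)
  refine ⟨κ, y, -x, ?_, hgen, ?_⟩
  · rw [hxy, map_neg]
    ring
  · intro z hz
    have h3 : (κ - algebraMap F L z) * (κ - algebraMap F L (y - z)) = 0 := by
      have h4 := congrArg (algebraMap F L) hz
      rw [map_add, map_sub, map_mul, map_pow, map_neg, map_zero] at h4
      rw [map_sub]
      linear_combination hxy - h4
    rcases mul_eq_zero.1 h3 with h | h
    · exact hκ z (sub_eq_zero.1 h)
    · exact hκ (y - z) (sub_eq_zero.1 h)

open Cfsg.Agent.H457.RC in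
/-- the nontrivial automorphism -/
theorem exists_conj (h2 : finrank F L = 2) {κ : L} {s t : F} (hκ : Gen F L κ s t) :
    ∃ σ : L ≃ₐ[F] L, σ ≠ 1 ∧ (∀ τ : L ≃ₐ[F] L, τ = 1 ∨ τ = σ) ∧ (∀ k, σ (σ k) = k) ∧
      σ κ = algebraMap F L s - κ ∧ ∀ c : F, c ≠ 0 → ∃ l : L, l ≠ 0 ∧ l * σ l = algebraMap F L c := by
  classical
  have hfL : Finite L := Module.finite_of_finite F
  have hcard : Nat.card (L ≃ₐ[F] L) = 2 := by rw [IsGalois.card_aut_eq_finrank, h2]
  obtain ⟨σ, hσ, hu⟩ := (Nat.card_eq_two_iff' (1 : L ≃ₐ[F] L)).1 hcard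
  have hall : ∀ τ : L ≃ₐ[F] L, τ = 1 ∨ τ = σ := by
    intro τ
    by_cases h : τ = 1
    · exact Or.inl h
    · exact Or.inr (hu τ h)
  have hσσ : σ * σ = 1 := by
    rcases hall (σ * σ) with h | h
    · exact h
    · exact (hσ (mul_eq_left.1 h)).elim
  have hκκ : σ κ ≠ κ := by
    intro h
    apply hσ
    apply AlgEquiv.ext
    intro a
    obtain ⟨x, y, rfl⟩ := hκ.gen a
    rw [map_add, map_mul, AlgEquiv.commutes, AlgEquiv.commutes, h]
    rfl
  refine ⟨σ, hσ, hall, fun k => DFunLike.congr_fun hσσ k, ?_, ?_⟩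
  · have h3 := congrArg σ hκ.sq
    rw [map_pow, map_sub, map_mul, AlgEquiv.commutes, AlgEquiv.commutes] at h3
    have h4 : (σ κ - κ) * (σ κ + κ - algebraMap F L s) = 0 := by
      linear_combination h3 - hκ.sq
    have h5 := (mul_eq_zero.1 h4).resolve_left (sub_ne_zero.2 hκκ)
    linear_combination h5
  · intro c hc
    obtain ⟨l, hl⟩ := FiniteField.norm_surjective F L c
    have h3 := Algebra.norm_eq_prod_automorphisms F l
    have hft : Fintype (L ≃ₐ[F] L) := Fintype.ofFinite _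
    have huniv : (Finset.univ : Finset (L ≃ₐ[F] L)) = {1, σ} := by
      ext τ
      simp only [Finset.mem_univ, Finset.mem_insert, Finset.mem_singleton, true_iff]
      exact hall τ
    refine ⟨l, ?_, ?_⟩
    · rintro rfl
      rw [Algebra.norm_zero] at hl
      exact hc hl.symm
    · rw [hl] at h3
      rw [h3]
      have h4 : ∏ τ : L ≃ₐ[F] L, τ l = ∏ τ ∈ ({1, σ} : Finset (L ≃ₐ[F] L)), τ l := by
        rw [← huniv]
      rw [Finset.prod_pair (Ne.symm hσ), AlgEquiv.one_apply] at h4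
      rw [← h4]
      congr
      exact Subsingleton.elim _ _

end gen

section geo

variable {F L V : Type*} [Field F] [Finite F] [Field L] [Algebra F L] [FiniteDimensional F L]
  [AddCommGroup V] [Module F V] [Module L V] [IsScalarTower F L V] [FiniteDimensional F V]
  {Q : QuadraticForm F V}

/-- restriction of scalars for automorphisms -/
def resS (F L V : Type*) [Field F] [Field L] [Algebra F L] [AddCommGroup V] [Module F V] [Module L V]
    [IsScalarTower F L V] : (V ≃ₗ[L] V) →* (V ≃ₗ[F] V) where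
  toFun g := g.restrictScalars F
  map_one' := rfl
  map_mul' _ _ := rfl

theorem resS_apply (g : V ≃ₗ[L] V) (v : V) : resS F L V g v = g v := rfl

open Cfsg.Agent.H457.RC in
/-- **The data.** -/
theorem exists_ng (hQ : Nondeg Q) (hL : finrank F L = 2) (h7 : 7 ≤ finrank F V) (hF : 3 ≤ Nat.card F)
    (hsa : ∀ (k : L) (v w : V), polar Q (k • v) w = polar Q v (k • w)) :
    ∃ (N : V →ₗ[F] V) (x g : V ≃ₗ[F] V) (σ : L ≃ₐ[F] L) (c : F), x ∈ E Q ∧ g ∈ E Q ∧ (∀ y, x y = y + N y) ∧
      (∀ y, N (N y) = 0) ∧ (∃ y, N y ≠ 0) ∧ σ ≠ 1 ∧ (∀ τ : L ≃ₐ[F] L, τ = 1 ∨ τ = σ) ∧ (∀ k, σ (σ k) = k) ∧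
      (∀ (k : L) y, N (k • y) = σ k • N y) ∧ (∀ (k : L) y, g (k • y) = k • g y) ∧ (∀ y, g (N y) = c • N (g y)) ∧
      c ≠ 1 ∧ c ≠ 0 := by
  have hfL : Finite L := Module.finite_of_finite F
  have hfdL : FiniteDimensional L V := FiniteDimensional.right F L V
  have hdim : finrank F L * finrank L V = finrank F V := Module.finrank_mul_finrank F L V
  have h4 : 4 ≤ finrank L V := by
    rw [hL] at hdim
    omega
  obtain ⟨κ, tr, nm, hκ⟩ := exists_gen (F := F) (L := L) hL
  obtain ⟨σ, hσ, hall, hσσ, hσκ, hnorm⟩ := exists_conj hL hκ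
  obtain ⟨R, l, hR⟩ := exists_KF (Q := Q) hκ (hsa κ)
  have hRn : Nondeg R := hR.nondeg hQ
  obtain ⟨s, hs0, hs, -⟩ := exists_sing_perp (Q := R) (n := 0) Fin.elim0 (by omega)
  obtain ⟨s', hss'⟩ := exists_hyp hRn hs hs0
  -- the scalar
  obtain ⟨lam, c, hlam0, hc, hc1, gL, hgL, hgs⟩ : ∃ (lam : L) (c : F), lam ≠ 0 ∧ lam * σ lam = algebraMap F L c ∧ c ≠ 1 ∧
      ∃ g ∈ ⁅O R, O R⁆, g s = lam • s := by
    by_cases h3 : Nat.card F = 3
    · have h2 : (2 : L) ≠ 0 := by
        have : Fintype F := Fintype.ofFinite F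
        have h5 : ringChar F = 3 := by
          have h6 : (Nat.card F : F) = 0 := by
            rw [Nat.card_eq_fintype_card]
            exact FiniteField.cast_card_eq_zero F
          rw [h3] at h6
          have h7 : ringChar F ∣ 3 := ringChar.dvd (by exact_mod_cast h6)
          rcases (Nat.dvd_prime Nat.prime_three).1 h7 with h8 | h8
          · exact absurd h8 CharP.ringChar_ne_one
          · exact h8
        intro h
        have h6 : (2 : F) = 0 := by
          apply (algebraMap F L).injective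
          rw [map_ofNat, map_zero, h]
        have h7 : ringChar F ∣ 2 := ringChar.dvd (by exact_mod_cast h6)
        rw [h5] at h7
        omega
      have hm1 : (-1 : F) ≠ 1 := by
        intro h
        apply h2
        have h5 := congrArg (algebraMap F L) h
        rw [map_neg, map_one] at h5
        linear_combination - h5
      obtain ⟨lam, h5, h6⟩ := hnorm (-1) (neg_ne_zero.2 one_ne_zero)
      exact ⟨lam, -1, h5, h6, hm1, comm_all hRn h4 h2 hss' h5⟩
    · -- an element with square different from one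
      obtain ⟨c, hc0, hc2⟩ : ∃ c : F, c ≠ 0 ∧ c * c ≠ 1 := by
        classical
        have : Fintype F := Fintype.ofFinite F
        have h5 : ({0, 1, -1} : Finset F).card < (Finset.univ : Finset F).card := by
          refine lt_of_le_of_lt Finset.card_le_three ?_
          rw [Finset.card_univ, ← Nat.card_eq_fintype_card]
          omega
        obtain ⟨x, -, hx⟩ := Finset.exists_mem_notMem_of_card_lt_card h5
        simp only [Finset.mem_insert, Finset.mem_singleton, not_or] at hx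
        refine ⟨x, hx.1, fun h6 => ?_⟩
        rcases mul_self_eq_one_iff.mp h6 with h6 | h6
        · exact hx.2.1 h6
        · exact hx.2.2 h6
      obtain ⟨μ, h5, h6⟩ := hnorm c hc0
      obtain ⟨g, hg, hgs⟩ := comm_sq hss' h5
      refine ⟨μ * μ, c * c, mul_ne_zero h5 h5, ?_, hc2, g, hg, hgs⟩
      rw [map_mul, map_mul, ← h6]
      ring
  have hc0 : c ≠ 0 := by
    rintro rfl
    rw [map_zero, mul_eq_zero] at hc
    rcases hc with h | h
    · exact hlam0 h
    · apply hlam0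
      rw [← hσσ lam, h, map_zero]
  -- the vector `s`
  have hsQ : ∀ k : L, Q (k • s) = 0 := fun k => hR.sing hs k
  have hsp : ∀ k k' : L, polar Q (k • s) (k' • s) = 0 := by
    intro k k'
    rw [polar, ← add_smul, hsQ, hsQ, hsQ]
    ring
  have hs1 : ∀ k : L, polar Q s (k • s) = 0 := fun k => by
    have := hsp 1 k
    rwa [one_smul] at this
  have hs2 : ∀ k : L, polar Q (k • s) s = 0 := fun k => by
    have := hsp k 1
    rwa [one_smul] at this
  have hss : polar Q s s = 0 := by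
    have := hsp 1 1
    rwa [one_smul] at this
  have hsQ0 : Q s = 0 := by
    have := hsQ 1
    rwa [one_smul] at this
  let N : V →ₗ[F] V := (polarBilin Q s).smulRight (κ • s) - (polarBilin Q (κ • s)).smulRight s
  have hN : ∀ y, N y = polar Q s y • (κ • s) - polar Q (κ • s) y • s := fun y => rfl
  have hκ2 : ∀ v : V, κ • κ • v = tr • κ • v - nm • v := by
    intro v
    rw [smul_smul, ← pow_two, hκ.sq, sub_smul, mul_smul, algebraMap_smul, algebraMap_smul]
  have hσκ' : ∀ v : V, σ κ • v = tr • v - κ • v := by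
    intro v
    rw [hσκ, sub_smul, algebraMap_smul]
  have hNκ : ∀ y, N (κ • y) = σ κ • N y := by
    intro y
    have e1 : κ • (polar Q s y • (κ • s) - polar Q (κ • s) y • s) =
        polar Q s y • (tr • κ • s - nm • s) - polar Q (κ • s) y • κ • s := by
      rw [smul_sub, ← smul_comm (polar Q s y) κ (κ • s), ← smul_comm (polar Q (κ • s) y) κ s, hκ2]
    rw [hN, hN, ← hsa, ← hsa, hσκ', e1, hκ2 s, polar_sub_left, polar_smul_left, polar_smul_left]
    simp only [smul_eq_mul]
    module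
  have hNa : ∀ (k : L) y, N (k • y) = σ k • N y := by
    intro k y
    obtain ⟨a, b, rfl⟩ := hκ.gen k
    rw [map_add, map_mul, AlgEquiv.commutes, AlgEquiv.commutes, add_smul, add_smul, mul_smul, mul_smul, map_add,
      algebraMap_smul, algebraMap_smul, algebraMap_smul, algebraMap_smul, map_smul, map_smul, hNκ]
  have hNN : ∀ y, N (N y) = 0 := by
    intro y
    rw [hN (N y), hN y, polar_sub_right, polar_sub_right, polar_smul_right, polar_smul_right, polar_smul_right,
      polar_smul_right, hs1, hss, hsp, hs2]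
    simp only [_root_.smul_eq_mul, _root_.MulZeroClass.mul_zero, _root_.sub_self, _root_.zero_smul]
  have hN0 : ∃ y, N y ≠ 0 := by
    obtain ⟨y, hy⟩ := hQ.exists_polar_eq hs0 1
    refine ⟨y, fun h => ?_⟩
    rw [hN, hy, one_smul, ← algebraMap_smul L (polar Q (κ • s) y) s, ← sub_smul] at h
    exact hκ.notMem _ (sub_eq_zero.1 ((smul_eq_zero.1 h).resolve_right hs0))
  -- `x`
  let x : V ≃ₗ[F] V := siegel Q s (κ • s) hsQ0 (hs1 κ)
  have hx : ∀ y, x y = y + N y := by
    intro y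
    rw [hN]
    show siegel Q s (κ • s) hsQ0 (hs1 κ) y = _
    rw [siegel_apply, hsQ κ]
    module
  -- `g`
  have hG : Good Q := good_of_finite hQ (by omega)
  set! g : V ≃ₗ[F] V := resS F L V gL with hg
  have hgE : g ∈ E Q := by
    rw [← hG.commutator_eq_E]
    have h5 : (O R).map (resS F L V) ≤ O Q := by
      rintro _ ⟨T, hT, rfl⟩ v
      rw [resS_apply, ← hR.form, hT v, hR.form]
    have h6 : (⁅O R, O R⁆).map (resS F L V) ≤ ⁅O Q, O Q⁆ := by
      rw [Subgroup.map_commutator]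
      exact Subgroup.commutator_mono h5 h5
    exact h6 ⟨gL, hgL, rfl⟩
  have hgl : ∀ (k : L) y, g (k • y) = k • g y := fun k y => map_smul gL k y
  have hgs' : g s = lam • s := hgs
  have hgO : g ∈ O Q := E_le_O hgE
  have hgN : ∀ y, g (N y) = lam • N y := by
    intro y
    rw [hN, map_sub, map_smul g (polar Q s y) (κ • s), map_smul g (polar Q (κ • s) y) s, hgl, hgs', smul_sub,
      ← smul_comm (polar Q s y) lam (κ • s), ← smul_comm (polar Q (κ • s) y) lam s,
      smul_smul κ lam, smul_smul lam κ, mul_comm κ lam]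
  have hNg : ∀ y, N (g y) = N (lam⁻¹ • y) := by
    intro y
    have h5 : ∀ k : L, polar Q (k • s) (g y) = polar Q (k • s) (lam⁻¹ • y) := by
      intro k
      have h6 : k • s = g ((k * lam⁻¹) • s) := by
        rw [hgl, hgs', smul_smul, mul_assoc, inv_mul_cancel₀ hlam0, mul_one]
      conv_lhs => rw [h6]
      rw [polar_map hgO, ← hsa, smul_smul, mul_comm]
    have h7 := h5 1
    rw [one_smul] at h7
    rw [hN, hN, h7, h5]
  refine ⟨N, x, g, σ, c, siegel_mem_E _ _, hgE, hx, hNN, hN0, hσ, hall, hσσ, hNa, hgl, fun y => ?_, hc1, hc0⟩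
  have hσl : σ lam ≠ 0 := by
    intro h
    apply hlam0
    rw [← hσσ lam, h, map_zero]
  rw [hgN, hNg, hNa, ← algebraMap_smul L c, ← hc, smul_smul, map_inv₀, mul_assoc, mul_inv_cancel₀ hσl, mul_one]

theorem semi_zero {φ : V → V} {τ₁ τ₂ : L ≃ₐ[F] L} (h : τ₁ ≠ τ₂) (h1 : ∀ (k : L) v, φ (k • v) = τ₁ k • φ v)
    (h2 : ∀ (k : L) v, φ (k • v) = τ₂ k • φ v) (v : V) : φ v = 0 := by
  by_contra hv
  apply h
  apply AlgEquiv.ext
  intro k
  have h3 : (τ₁ k - τ₂ k) • φ v = 0 := by rw [sub_smul, ← h1, ← h2, sub_self]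
  exact sub_eq_zero.1 ((smul_eq_zero.1 h3).resolve_right hv)

/-- `Â ∩ Â^x` centralises `N` -/
theorem comm_N {N : V →ₗ[F] V} {x a b : V ≃ₗ[F] V} {σ τ τ' : L ≃ₐ[F] L} (hx : ∀ y, x y = y + N y)
    (hNN : ∀ y, N (N y) = 0) (hN0 : ∃ y, N y ≠ 0) (hσ : σ ≠ 1) (hall : ∀ τ : L ≃ₐ[F] L, τ = 1 ∨ τ = σ)
    (hσσ : ∀ k, σ (σ k) = k) (hNa : ∀ (k : L) y, N (k • y) = σ k • N y) (ha : SL a τ) (hb : SL b τ')
    (hab : ∀ y, x (b y) = a (x y)) (y : V) : a (N y) = N (a y) := by
  have hσc : ∀ (τ : L ≃ₐ[F] L) k, σ (τ k) = τ (σ k) := by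
    intro τ k
    rcases hall τ with rfl | rfl <;> rfl
  have hττ : ∀ (τ : L ≃ₐ[F] L) k, τ (τ k) = k := by
    intro τ k
    rcases hall τ with rfl | rfl
    · rfl
    · exact hσσ k
  have key : ∀ y, b y + N (b y) = a y + a (N y) := by
    intro y
    have h1 := hab y
    rw [hx, hx, map_add] at h1
    exact h1
  by_cases h : τ = τ'
  · subst h
    have h1 : ∀ y, b y - a y = 0 := by
      intro y
      refine semi_zero (φ := fun y => b y - a y) (τ₁ := τ) (τ₂ := τ * σ) ?_ ?_ ?_ y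
      · intro he
        exact hσ (mul_eq_left.1 he.symm)
      · intro k v
        show b (k • v) - a (k • v) = τ k • (b v - a v)
        rw [hb, ha, smul_sub]
      · intro k v
        have e : ∀ y, b y - a y = a (N y) - N (b y) := by
          intro y
          rw [sub_eq_sub_iff_add_eq_add, key y]
          abel
        show b (k • v) - a (k • v) = τ (σ k) • (b v - a v)
        rw [e, e, hNa, ha, hb, hNa, hσc, smul_sub]
    have h2 : b y = a y := sub_eq_zero.1 (h1 y)
    have h3 := key y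
    rw [h2] at h3
    exact (add_left_cancel h3).symm
  · exfalso
    have hτ' : ∀ k, τ' k = τ (σ k) := by
      intro k
      rcases hall τ with h1 | h1 <;> rcases hall τ' with h2 | h2
      · exact (h (h1.trans h2.symm)).elim
      · rw [h1, h2]; rfl
      · rw [h1, h2, hσσ]; rfl
      · exact (h (h1.trans h2.symm)).elim
    have h1 : ∀ y, a y - N (b y) = 0 := by
      intro y
      refine semi_zero (φ := fun y => a y - N (b y)) (τ₁ := τ) (τ₂ := τ') h ?_ ?_ y
      · intro k v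
        show a (k • v) - N (b (k • v)) = τ k • (a v - N (b v))
        rw [ha, hb, hNa, hτ', hσc, hσσ, smul_sub]
      · intro k v
        have e : ∀ y, a y - N (b y) = b y - a (N y) := by
          intro y
          rw [sub_eq_sub_iff_add_eq_add, ← key y]
        show a (k • v) - N (b (k • v)) = τ' k • (a v - N (b v))
        rw [e, e, hb, hNa, ha, ← hτ', smul_sub]
    obtain ⟨z, hz⟩ := hN0
    apply hz
    obtain ⟨w, rfl⟩ := a.surjective z
    rw [sub_eq_zero.1 (h1 w), hNN]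

end geo

section row

open Cfsg.Agent.H284 Cfsg.Agent.H419.EP Cfsg.Agent.H925 Cfsg.Agent.H907 Matrix
open scoped MatrixGroups

/-- **S3499, Om-C3**, `[K : F] = 2`, `K` self-adjoint, `|F| ≥ 3` -/
theorem omC3R : Cfsg.Agent.H778.EP.OmRow fun F _ _ ι _ _ Qf H => ∃ (K : Subalgebra F (Matrix ι ι F)),
    (3 : ℕ) ≤ Fintype.card F ∧ Geo.IsFieldSubalgebra 2 K ∧
      Geo.IsSelfAdjointFor (QuadraticMap.polar Qf) K ∧ H ≤ Geo.subalgebraNormalizer K := by
  intro Q _ _ hs A Γ h F _ _ ι _ _ Qf m h7 hQ ⟨K, hF, hK, hsa, hle⟩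
  have hne : Nonempty ι := Fintype.card_pos_iff.1 (by omega)
  let fK : Field K := (isField_of hK).toField
  let mK : Module K (ι → F) := modK K
  have hsm : ∀ (k : K) (v : ι → F), k • v = (k : Matrix ι ι F) *ᵥ v := fun _ _ => rfl
  have hst : IsScalarTower F K (ι → F) := ⟨fun c k v => by
    rw [hsm, hsm]
    exact Matrix.smul_mulVec c (k : Matrix ι ι F) v⟩
  have hfr : finrank F K = 2 := hK.finrank_eq
  have hfV : finrank F (ι → F) = Fintype.card ι := Module.finrank_fintype_fun_eq_card F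
  obtain ⟨N, x, g, σ, c, hxE, hgE, hx, hNN, hN0, hσ, hall, hσσ, hNa, hgl, hgN, hc1, hc0⟩ :=
    exists_ng (F := F) (L := K) (V := ι → F) (Q := qf hQ) (nondeg_qf hQ) hfr (by rw [hfV]; exact h7)
      (by rw [Nat.card_eq_fintype_card]; exact hF) (fun k v w => hsa k k.2 v w)
  obtain ⟨x', hx'S, hx'v⟩ := exists_omegaGL hQ (by omega) hxE
  obtain ⟨g', hg'S, hg'v⟩ := exists_omegaGL hQ (by omega) hgE
  have hxx : glEquiv ι F x' = x := LinearEquiv.ext hx'v
  have hgg : glEquiv ι F g' = g := LinearEquiv.ext hg'v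
  have hSL : ∀ (g : GL ι F) (hg : g ∈ Geo.subalgebraNormalizer K), SL (L := K) (glEquiv ι F g) (conjK hg) := by
    intro g hg k v
    simp only [glEquiv_apply, glEquiv_apply, hsm, hsm, conjK_apply, Matrix.mulVec_mulVec, Matrix.mulVec_mulVec, mul_assoc,
      Units.inv_mul, mul_one]
  have hx'K : x' ∉ Geo.subalgebraNormalizer K := by
    intro hc
    have h1 := hSL x' hc
    rw [hxx] at h1
    obtain ⟨y, hy⟩ := hN0
    have h2 : conjK hc = (1 : K ≃ₐ[F] K) := by
      apply AlgEquiv.ext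
      intro k
      have h3 := h1 k (N y)
      rw [hx, hx, hNa, hNN, smul_zero, add_zero, add_zero, ← sub_eq_zero, ← sub_smul] at h3
      exact (sub_eq_zero.1 ((smul_eq_zero.1 h3).resolve_right hy)).symm
    apply hσ
    apply AlgEquiv.ext
    intro k
    have h3 := h1 k y
    rw [h2] at h3
    change x (k • y) = k • x y at h3
    rw [hx, hx, hNa, smul_add, add_right_inj, ← sub_eq_zero, ← sub_smul] at h3
    exact sub_eq_zero.1 ((smul_eq_zero.1 h3).resolve_right hy)
  have hhat : m.hat A = Geo.subalgebraNormalizer K ⊓ Geo.omegaGL Qf :=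
    Cfsg.Agent.H458.EP.hat_eq m h.max hle fun hcon => hx'K (hcon hx'S)
  have hx'A : x' ∉ m.hat A := fun hcon => hx'K (hle hcon)
  -- `g' ∈ Â`
  have hg'K : g' ∈ Geo.subalgebraNormalizer K := by
    have h1 : ∀ k ∈ K, (g' : Matrix ι ι F) * k = k * (g' : Matrix ι ι F) := by
      intro k hk
      apply Matrix.ext_of_mulVec_single
      intro i
      rw [← Matrix.mulVec_mulVec, ← Matrix.mulVec_mulVec, hg'v, hg'v]
      exact hgl ⟨k, hk⟩ (Pi.single i 1)
    intro k
    constructor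
    · intro hk
      rw [h1 k hk, mul_assoc, Units.mul_inv, mul_one]
      exact hk
    · intro hk
      have h2 := h1 _ hk
      have h3 : (g' : Matrix ι ι F) * ((g' : Matrix ι ι F) * k * ((g'⁻¹ : GL ι F) : Matrix ι ι F)) =
          (g' : Matrix ι ι F) * k := by
        rw [h2, mul_assoc, Units.inv_mul, mul_one]
      have h4 : (g' : Matrix ι ι F) * k * ((g'⁻¹ : GL ι F) : Matrix ι ι F) = k := by
        have h5 := congrArg (fun z => ((g'⁻¹ : GL ι F) : Matrix ι ι F) * z) h3
        simp only [← mul_assoc, Units.inv_mul, one_mul] at h5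
        exact h5
      rwa [h4] at hk
  have hg'A : g' ∈ m.hat A := by
    rw [hhat]
    exact ⟨hg'K, hg'S⟩
  -- elements of `M0` commute with `N`
  have hM0 : ∀ k ∈ m.hat A, k ∈ cj x' (m.hat A) → ∀ y, glEquiv ι F k (N y) = N (glEquiv ι F k y) := by
    intro k hk hk' y
    rw [mem_cj] at hk'
    have h4 := hSL _ (hle hk')
    refine comm_N hx hNN hN0 hσ hall hσσ hNa (hSL k (hle hk)) h4 ?_ y
    intro z
    rw [map_mul, map_mul, map_inv, hxx]
    exact x.apply_symm_apply _
  have hginv : ∀ z, g⁻¹ (N z) = c⁻¹ • N (g⁻¹ z) := by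
    intro z
    apply g.injective
    have h1 : g (g⁻¹ (N z)) = N z := g.apply_symm_apply _
    have h2 : g (g⁻¹ z) = z := g.apply_symm_apply _
    rw [h1, map_smul, hgN, h2, smul_smul, inv_mul_cancel₀ hc0, one_smul]
  have hkill := Cfsg.Agent.H571.EP.kill_self m h hx'S hx'A hg'A (by
    intro k hk
    obtain ⟨hk1, hk2⟩ := Subgroup.mem_inf.1 hk
    have hcomm : ∀ z, glEquiv ι F (g' * k * g'⁻¹) (N z) = N (glEquiv ι F (g' * k * g'⁻¹) z) := by
      intro z
      rw [map_mul, map_mul, map_inv, hgg]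
      show g (glEquiv ι F k (g⁻¹ (N z))) = N (g (glEquiv ι F k (g⁻¹ z)))
      rw [hginv, map_smul, hM0 k hk1 hk2, map_smul, hgN, smul_smul, inv_mul_cancel₀ hc0, one_smul]
    rw [mem_cj]
    have h1 : x'⁻¹ * (g' * k * g'⁻¹) * x' = g' * k * g'⁻¹ := by
      rw [mul_assoc, inv_mul_eq_iff_eq_mul]
      apply (glEquiv ι F).injective
      rw [map_mul (glEquiv ι F) (g' * k * g'⁻¹) x', map_mul (glEquiv ι F) x', hxx]
      apply LinearEquiv.ext
      intro z
      show glEquiv ι F (g' * k * g'⁻¹) (x z) = x (glEquiv ι F (g' * k * g'⁻¹) z)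
      rw [hx, hx, map_add, hcomm]
    rw [h1]
    exact mul_mem (mul_mem hg'A hk1) (inv_mem hg'A))
  have hfin := hM0 g' hg'A hkill
  rw [hgg] at hfin
  obtain ⟨z, hz⟩ := hN0
  obtain ⟨w, rfl⟩ := g.surjective z
  apply hz
  have h1 := hfin w
  rw [hgN] at h1
  have h2 : (c - 1) • N (g w) = 0 := by rw [sub_smul, one_smul, h1, sub_self]
  exact (smul_eq_zero.1 h2).resolve_left (sub_ne_zero.2 hc1)

end row

end Cfsg.Agent.H893.EP
end

-- part: H681/EP/OmC3Asm
section
/-!
# S3499, class C3 of the orthogonal groups: assembly (helper681)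

`omC3_of` : the row `OmC3` from its last part `OmC3Q` (`|F| = 2`, degree two, self-adjoint).
-/

set_option autoImplicit false

open Cfsg Cfsg.Geo Matrix QuadraticMap

namespace Cfsg.Agent.H681.EP

/-- `|F| = 2`, degree two, self-adjoint -/
def OmC3Q : Prop := Cfsg.Agent.H778.EP.OmRow fun F _ _ ι _ _ Qf H =>
  ∃ (K : Subalgebra F (Matrix ι ι F)), Fintype.card F = 2 ∧ Geo.IsFieldSubalgebra 2 K ∧
    Geo.IsSelfAdjointFor (QuadraticMap.polar Qf) K ∧ H ≤ Geo.subalgebraNormalizer K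

theorem hermForm_polar {F : Type*} [Field F] {ι : Type} [Fintype ι] [DecidableEq ι] {Qf : (ι → F) → F}
    (hQ : IsNondegenerateQuadraticForm Qf) :
    Cfsg.Agent.H919.HermForm (RingEquiv.refl F) 1 (polar Qf) where
  add_left := hQ.polar_bilinear.add_left
  smul_left := hQ.polar_bilinear.smul_left
  sigma_sq := fun _ => rfl
  eps := by rw [RingEquiv.refl_apply, one_mul]
  herm := fun v w => by rw [RingEquiv.refl_apply, one_mul, polar_comm]
  nondegenerate := hQ.nondegenerate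

/-- **[Om-C3], assembly** -/
theorem omC3_of (hQ2 : OmC3Q) : Cfsg.Agent.H778.EP.OmC3 := by
  intro Q _ _ hs A Γ h F _ _ ι _ _ Qf m h7 hQ ⟨hirr, r, K, hr, hrd, hK, hadj, hle⟩
  haveI : Nonempty ι := Fintype.card_pos_iff.1 (by omega)
  by_cases hsa : IsSelfAdjointFor (polar Qf) K
  · by_cases hr2 : r = 2
    · subst hr2
      by_cases hF : Fintype.card F = 2
      · exact hQ2 hs h m h7 hQ ⟨K, hF, hK, hsa, hle⟩
      · have h1 : 1 < Fintype.card F := Fintype.one_lt_card
        exact Cfsg.Agent.H893.EP.omC3R hs h m h7 hQ ⟨K, by omega, hK, hsa, hle⟩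
    · have hr3 : 3 ≤ r := by
        have := hr.two_le
        omega
      by_cases h3r : 3 * r ≤ Fintype.card ι
      · by_cases h2 : (2 : F) = 0
        · exact Cfsg.Agent.H408.EP.omC3E hs h m h7 hQ ⟨r, K, hr, hr3, h2, h3r, hK, hsa, hle⟩
        · exact Cfsg.Agent.H408.EP.omC3O hs h m h7 hQ ⟨r, K, hr, hr3, h2, h3r, hK, hsa, hle⟩
      · obtain ⟨c, hc⟩ := hrd
        have hc3 : c < 3 := by
          by_contra hcon
          apply h3r
          rw [hc, mul_comm 3 r]
          exact Nat.mul_le_mul_left r (by omega)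
        have hr5 : 5 ≤ r := by
          have h3 : r ≠ 3 := by
            rintro rfl
            omega
          have h4 : r ≠ 4 := by
            rintro rfl
            exact absurd hr (by norm_num)
          omega
        refine Cfsg.Agent.H893.EP.omC3S hs h m h7 hQ ⟨r, K, hr, hr5, ?_, hK, hsa, hle⟩
        have hc0 : c ≠ 0 := by
          rintro rfl
          omega
        interval_cases c
        · exact absurd rfl hc0
        · left; omega
        · right; omega
  · have hr2 : r = 2 := by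
      by_contra hr2
      exact hsa (Cfsg.Agent.H926.selfAdjoint_of_odd (hermForm_polar hQ) (hr.odd_of_ne_two hr2) hK hadj)
    subst hr2
    exact omC3U hs h m h7 hQ ⟨hirr, K, hK, hadj, hsa, hle⟩

end Cfsg.Agent.H681.EP
end

-- part: H598/EP/RootKill
section
/-!
# S3499: a kill for stabilisers of tensor decompositions with equal factors by elements `1 + N` (helper598)

`N = ⊗ u k` is a pure tensor, each `u k` is either `1` or of square zero, at least two of them are not `1`. If `x = 1 + N`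
lies in `S` and `w` in `M ∩ S` satisfies `w N w⁻¹ = μ N`, `μ ≠ 1`, then the stabiliser `M ∩ S` is not the point stabiliser of
an extremely primitive group. (This covers the case of two-dimensional factors.)
-/

set_option autoImplicit false
set_option linter.unusedSectionVars false

namespace Cfsg.Agent.H598.EP

open Matrix Subgroup Cfsg.Agent.H284 Cfsg.Agent.H419.EP Cfsg.Agent.H487.EP Cfsg.Geo
open Cfsg.Agent.H919 (pureMat slotMat slotEmb pureMat_apply pureMat_mul pureMat_one)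
open scoped MatrixGroups

variable {ι : Type} [Fintype ι] [DecidableEq ι] {F : Type*} [Field F] {t m : ℕ}

/-- pure tensors -/
noncomputable def ptH (e : ι ≃ (Fin t → Fin m)) (P : GL ι F) :
    (Fin t → Matrix (Fin m) (Fin m) F) →* Matrix ι ι F where
  toFun v := frA e P (pureMat v)
  map_one' := by
    change frA e P (pureMat (fun _ => 1)) = 1
    rw [pureMat_one, map_one]
  map_mul' v w := by
    rw [← map_mul, pureMat_mul]
    rfl

variable {e : ι ≃ (Fin t → Fin m)} {P : GL ι F}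

theorem ptH_apply (v : Fin t → Matrix (Fin m) (Fin m) F) : ptH e P v = frA e P (pureMat v) := rfl

theorem ptH_single (k : Fin t) (a : Matrix (Fin m) (Fin m) F) : ptH e P (Pi.mulSingle k a) = sl e P k a := rfl

/-- conjugation as a homomorphism -/
def cjmH {κ : Type} [Fintype κ] [DecidableEq κ] (a : GL κ F) : Matrix κ κ F →* Matrix κ κ F where
  toFun := cjm a
  map_one' := cjm_one a
  map_mul' := cjm_mul a

theorem cjm_ptH {g : GL ι F} {π : Equiv.Perm (Fin t)} {a : Fin t → GL (Fin m) F}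
    (h : ∀ k u, cjm g (sl e P k u) = sl e P (π k) (cjm (a k) u)) (v : Fin t → Matrix (Fin m) (Fin m) F) :
    cjm g (ptH e P v) = ptH e P (fun j => cjm (a (π.symm j)) (v (π.symm j))) := by
  let f : (Fin t → Matrix (Fin m) (Fin m) F) →* (Fin t → Matrix (Fin m) (Fin m) F) :=
    { toFun := fun v j => cjm (a (π.symm j)) (v (π.symm j))
      map_one' := by funext j; exact cjm_one _
      map_mul' := fun v w => by funext j; exact cjm_mul _ _ _ }
  have key : (cjmH g).comp (ptH e P) = (ptH e P).comp f := by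
    apply MonoidHom.pi_ext
    intro k x
    change cjm g (ptH e P (Pi.mulSingle k x)) = ptH e P (fun j => cjm (a (π.symm j)) ((Pi.mulSingle k x : Fin t → _) (π.symm j)))
    rw [ptH_single, h, ← ptH_single]
    congr 1
    funext j
    by_cases hj : j = π k
    · subst hj
      rw [Pi.mulSingle_eq_same, Equiv.symm_apply_apply, Pi.mulSingle_eq_same]
    · have hj' : π.symm j ≠ k := fun h' => hj (by rw [← h', Equiv.apply_symm_apply])
      rw [Pi.mulSingle_eq_of_ne hj, Pi.mulSingle_eq_of_ne hj', cjm_one]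
  exact DFunLike.congr_fun key v

theorem ptH_comm {v : Fin t → Matrix (Fin m) (Fin m) F} {k : Fin t} (hv : v k = 1) (u : Matrix (Fin m) (Fin m) F) :
    ptH e P v * sl e P k u = sl e P k u * ptH e P v := by
  rw [← ptH_single, ← map_mul, ← map_mul]
  congr 1
  funext j
  rw [Pi.mul_apply, Pi.mul_apply]
  by_cases h : j = k
  · subst h
    rw [hv, one_mul, mul_one]
  · rw [Pi.mulSingle_eq_of_ne h, one_mul, mul_one]

theorem ptH_split (v : Fin t → Matrix (Fin m) (Fin m) F) (k : Fin t) :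
    ptH e P v = sl e P k (v k) * ptH e P (Function.update v k 1) := by
  rw [← ptH_single, ← map_mul]
  congr 1
  funext j
  rw [Pi.mul_apply]
  by_cases h : j = k
  · subst h
    rw [Pi.mulSingle_eq_same, Function.update_self, mul_one]
  · rw [Pi.mulSingle_eq_of_ne h, Function.update_of_ne h, one_mul]

theorem ptH_zero {v : Fin t → Matrix (Fin m) (Fin m) F} {k : Fin t} (hv : v k = 0) : ptH e P v = 0 := by
  rw [ptH_split v k, hv, map_zero, zero_mul]

theorem ptH_ne_zero {v : Fin t → Matrix (Fin m) (Fin m) F} (hv : ∀ k, v k ≠ 0) : ptH e P v ≠ 0 := by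
  intro h
  have h1 : pureMat v = 0 := frA_injective e P (by rw [map_zero]; exact h)
  have h2 : ∀ k, ∃ i j, v k i j ≠ 0 := by
    intro k
    by_contra hc
    push Not at hc
    exact hv k (by ext i j; exact hc i j)
  choose i j hij using h2
  have h3 := congrFun (congrFun h1 i) j
  rw [pureMat_apply] at h3
  exact (Finset.prod_ne_zero_iff.2 fun k _ => hij k) h3

/-! ### slot functionals -/

/-- contraction of the slot `k` by a linear functional -/
noncomputable def Phi (e : ι ≃ (Fin t → Fin m)) (P : GL ι F) (k : Fin t) (lam : Matrix (Fin m) (Fin m) F →ₗ[F] F) :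
    Matrix ι ι F →ₗ[F] Matrix ι ι F :=
  ∑ i, ∑ j, lam (Matrix.single i j 1) • ∑ p, (LinearMap.mulLeft F (sl e P k (Matrix.single p i 1))).comp
    (LinearMap.mulRight F (sl e P k (Matrix.single j p 1)))

theorem Phi_apply (k : Fin t) (lam : Matrix (Fin m) (Fin m) F →ₗ[F] F) (X : Matrix ι ι F) :
    Phi e P k lam X = ∑ i, ∑ j, lam (Matrix.single i j 1) •
      ∑ p, sl e P k (Matrix.single p i 1) * (X * sl e P k (Matrix.single j p 1)) := by
  simp only [Phi, LinearMap.sum_apply, LinearMap.smul_apply, LinearMap.comp_apply, LinearMap.mulLeft_apply,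
    LinearMap.mulRight_apply]

theorem Phi_sl (k : Fin t) (lam : Matrix (Fin m) (Fin m) F →ₗ[F] F) (u : Matrix (Fin m) (Fin m) F) {R : Matrix ι ι F}
    (hR : ∀ w, R * sl e P k w = sl e P k w * R) : Phi e P k lam (sl e P k u * R) = lam u • R := by
  have h1 : ∀ i j : Fin m, ∑ p, sl e P k (Matrix.single p i 1) * ((sl e P k u * R) * sl e P k (Matrix.single j p 1)) =
      u i j • R := by
    intro i j
    have h2 : ∀ p : Fin m, sl e P k (Matrix.single p i 1) * ((sl e P k u * R) * sl e P k (Matrix.single j p 1)) =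
        sl e P k (u i j • Matrix.single p p 1) * R := by
      intro p
      rw [mul_assoc, hR, ← mul_assoc, ← mul_assoc, ← map_mul, ← map_mul]
      congr 2
      ext a b
      by_cases ha : a = p
      · subst ha
        by_cases hb : b = a
        · subst hb
          simp [Matrix.single_mul_apply_same]
        · rw [Matrix.mul_single_apply_of_ne _ _ _ _ _ hb]
          simp [Ne.symm hb]
      · simp [Matrix.mul_apply, Matrix.single_apply, Ne.symm ha]
    rw [Finset.sum_congr rfl fun p _ => h2 p, ← Finset.sum_mul, ← map_sum, ← Finset.smul_sum]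
    have h3 : ∑ p : Fin m, Matrix.single p p (1 : F) = 1 := by
      ext a b
      rw [Matrix.sum_apply]
      simp only [Matrix.single_apply, Matrix.one_apply]
      by_cases hab : a = b
      · subst hab
        simp only [_root_.and_self, _root_.Finset.sum_ite_eq', _root_.Finset.mem_univ, ↓ _root_.reduceIte]
      · rw [if_neg hab]
        apply Finset.sum_eq_zero
        intro p _
        rw [if_neg]
        rintro ⟨h1, h2⟩
        exact hab (h1.symm.trans h2)
    rw [h3, map_smul, map_one, Matrix.smul_mul, one_mul]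
  rw [Phi_apply]
  have h4 : lam u = ∑ i, ∑ j, lam (Matrix.single i j 1) * u i j := by
    conv_lhs => rw [Matrix.matrix_eq_sum_single u]
    rw [map_sum]
    refine Finset.sum_congr rfl fun i _ => ?_
    rw [map_sum]
    refine Finset.sum_congr rfl fun j _ => ?_
    have : Matrix.single i j (u i j) = u i j • Matrix.single i j (1 : F) := by
      rw [Matrix.smul_single, smul_eq_mul, mul_one]
    rw [this, map_smul, smul_eq_mul, mul_comm]
  rw [h4, Finset.sum_smul]
  refine Finset.sum_congr rfl fun i _ => ?_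
  rw [Finset.sum_smul]
  refine Finset.sum_congr rfl fun j _ => ?_
  rw [h1, smul_smul]

theorem sl_mul_eq_zero {k : Fin t} {u : Matrix (Fin m) (Fin m) F} {R : Matrix ι ι F}
    (hR : ∀ w, R * sl e P k w = sl e P k w * R) (h : sl e P k u * R = 0) (hR0 : R ≠ 0) : u = 0 := by
  ext i j
  have h1 := Phi_sl k (Matrix.entryLinearMap F F i j) u hR
  rw [h, map_zero] at h1
  exact (smul_eq_zero.1 h1.symm).resolve_right hR0

theorem exists_lam {u v : Matrix (Fin m) (Fin m) F} (h : ∀ a : F, v ≠ a • u) :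
    ∃ lam : Matrix (Fin m) (Fin m) F →ₗ[F] F, lam u = 0 ∧ lam v ≠ 0 := by
  have h1 : v ∉ Submodule.span F {u} := by
    intro hv
    obtain ⟨a, ha⟩ := Submodule.mem_span_singleton.1 hv
    exact h a ha.symm
  obtain ⟨f, hf1, hf2⟩ := Submodule.exists_le_ker_of_notMem h1
  exact ⟨f, hf2 (Submodule.mem_span_singleton_self u), hf1⟩

/-! ### the elements `N` -/

/-- a pure tensor of ones and of at least two matrices of square zero -/
structure PN (u : Fin t → Matrix (Fin m) (Fin m) F) : Prop where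
  sq : ∀ k, u k ≠ 1 → u k * u k = 0
  ne : ∀ k, u k ≠ 0
  two : ∃ k l, k ≠ l ∧ u k ≠ 1 ∧ u l ≠ 1

variable {u : Fin t → Matrix (Fin m) (Fin m) F}

theorem PN.other (hu : PN u) (k : Fin t) : ∃ l, l ≠ k ∧ u l ≠ 1 := by
  obtain ⟨a, b, hab, ha, hb⟩ := hu.two
  by_cases h : a = k
  · exact ⟨b, by rw [← h]; exact Ne.symm hab, hb⟩
  · exact ⟨a, h, ha⟩

theorem PN.one_ne (hu : PN u) : (1 : Matrix (Fin m) (Fin m) F) ≠ 0 := by
  obtain ⟨k, -, -, -, -⟩ := hu.two
  intro h
  apply hu.ne k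
  rw [← mul_one (u k), h, mul_zero]

theorem PN.nonSc (hu : PN u) {k : Fin t} (hk : u k ≠ 1) : NonSc (u k) := by
  intro c hc
  have h1 := hu.sq k hk
  rw [hc, Matrix.smul_mul, one_mul, smul_smul] at h1
  have h2 : c = 0 := mul_self_eq_zero.1 ((smul_eq_zero.1 h1).resolve_right hu.one_ne)
  apply hu.ne k
  rw [hc, h2, zero_smul]

theorem PN.sqN (hu : PN u) : ptH e P u * ptH e P u = 0 := by
  obtain ⟨k, -, -, hk, -⟩ := hu.two
  rw [← map_mul]
  exact ptH_zero (k := k) (hu.sq k hk)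

theorem PN.neN (hu : PN u) : ptH e P u ≠ 0 := ptH_ne_zero hu.ne

theorem PN.sqR (hu : PN u) (k : Fin t) :
    ptH e P (Function.update u k 1) * ptH e P (Function.update u k 1) = 0 := by
  obtain ⟨l, hl, hl1⟩ := hu.other k
  rw [← map_mul]
  apply ptH_zero (k := l)
  rw [Pi.mul_apply, Function.update_of_ne hl]
  exact hu.sq l hl1

theorem PN.neR (hu : PN u) (k : Fin t) : ptH e P (Function.update u k 1) ≠ 0 := by
  apply ptH_ne_zero
  intro j
  by_cases h : j = k
  · subst h
    rw [Function.update_self]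
    exact hu.one_ne
  · rw [Function.update_of_ne h]
    exact hu.ne j

theorem PN.cjm (hu : PN u) (π : Equiv.Perm (Fin t)) (a : Fin t → GL (Fin m) F) :
    PN (fun j => cjm (a (π.symm j)) (u (π.symm j))) where
  sq k hk := by
    rw [← cjm_mul, hu.sq, cjm_zero]
    intro h
    apply hk
    rw [h, cjm_one]
  ne k := cjm_ne_zero _ (hu.ne _)
  two := by
    obtain ⟨k, l, hkl, hk, hl⟩ := hu.two
    refine ⟨π k, π l, fun h => hkl (π.injective h), ?_, ?_⟩ <;> rw [Equiv.symm_apply_apply]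
    · exact cjm_ne_one _ hk
    · exact cjm_ne_one _ hl

theorem PN.comR (k : Fin t) (w : Matrix (Fin m) (Fin m) F) :
    ptH e P (Function.update u k 1) * sl e P k w = sl e P k w * ptH e P (Function.update u k 1) :=
  ptH_comm (by rw [Function.update_self]) w

theorem lemA (hu : PN u) {k l : Fin t} (hkl : k ≠ l) {w w' : Matrix (Fin m) (Fin m) F}
    (h : sl e P k w * (1 + ptH e P u) = (1 + ptH e P u) * sl e P l w') : ¬ NonSc w := by
  intro hw
  obtain ⟨lam, h1, h2⟩ := exists_lam (u := 1) (v := w) hw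
  set! R := ptH e P (Function.update u k 1) with hR
  have hRc : ∀ z, R * sl e P k z = sl e P k z * R := PN.comR k
  have hRR : R * R = 0 := hu.sqR k
  have hR0 : R ≠ 0 := hu.neR k
  have hN : ptH e P u = sl e P k (u k) * R := ptH_split u k
  have hl : ∀ z, sl e P l w' * sl e P k z = sl e P k z * sl e P l w' := fun z => ((ts_sl e P hkl).comm z w').symm
  have e1 : sl e P k w * (1 + ptH e P u) = sl e P k w * 1 + sl e P k (w * u k) * R := by
    rw [hN, mul_add, map_mul, mul_assoc]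
  have e2 : (1 + ptH e P u) * sl e P l w' = sl e P k 1 * sl e P l w' + sl e P k (u k) * (R * sl e P l w') := by
    rw [hN, add_mul, map_one, mul_assoc]
  rw [e1, e2] at h
  have h3 := congrArg (Phi e P k lam) h
  rw [map_add, map_add, Phi_sl k lam w (R := 1) (fun z => by rw [one_mul, mul_one]), Phi_sl k lam (w * u k) hRc,
    Phi_sl k lam 1 hl, Phi_sl k lam (u k) (R := R * sl e P l w') (fun z => by
      rw [mul_assoc, hl, ← mul_assoc, hRc, mul_assoc]), h1, zero_smul, zero_add] at h3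
  have h4 := congrArg (fun y => R * y) h3
  simp only [mul_add, Matrix.mul_smul, mul_one, hRR, smul_zero, add_zero, ← mul_assoc, zero_mul] at h4
  rcases smul_eq_zero.1 h4 with h5 | h5
  · exact h2 h5
  · exact hR0 h5

theorem lemB (hu : PN u) {k : Fin t} {w w' : Matrix (Fin m) (Fin m) F}
    (h : sl e P k w * (1 + ptH e P u) = (1 + ptH e P u) * sl e P k w') : w = w' ∧ w * u k = u k * w' := by
  set! R := ptH e P (Function.update u k 1) with hR
  have hRc : ∀ z, R * sl e P k z = sl e P k z * R := PN.comR k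
  have hRR : R * R = 0 := hu.sqR k
  have hR0 : R ≠ 0 := hu.neR k
  have hN : ptH e P u = sl e P k (u k) * R := ptH_split u k
  have e1 : sl e P k w * (1 + ptH e P u) = sl e P k w + sl e P k (w * u k) * R := by
    rw [hN, mul_add, map_mul, mul_assoc, mul_one]
  have e2 : (1 + ptH e P u) * sl e P k w' = sl e P k w' + sl e P k (u k * w') * R := by
    rw [hN, add_mul, one_mul, mul_assoc, hRc, map_mul, mul_assoc]
  rw [e1, e2] at h
  have e3 : sl e P k (w - w') + sl e P k (w * u k - u k * w') * R = 0 := by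
    rw [map_sub (sl e P k) w w', map_sub (sl e P k) (w * u k), sub_mul]
    have := sub_eq_zero.2 h
    rw [← this]
    abel
  have e4 : sl e P k (w - w') * R = 0 := by
    have := congrArg (fun y => y * R) e3
    simpa only [add_mul, mul_assoc, hRR, mul_zero, add_zero, zero_mul] using this
  have e5 := sl_mul_eq_zero hRc e4 hR0
  rw [e5, map_zero, zero_add] at e3
  exact ⟨sub_eq_zero.1 e5, sub_eq_zero.1 (sl_mul_eq_zero hRc e3 hR0)⟩

set_option maxHeartbeats 1000000 in
/-- **the elements of `M ∩ M^x`** -/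
theorem root_types (hu : PN u) {x g : GL ι F} (hx : (x : Matrix ι ι F) = 1 + ptH e P u)
    (hg : g ∈ tensorWreathSubgroup m t e P) (hgx : x⁻¹ * g * x ∈ tensorWreathSubgroup m t e P) :
    Cfsg.Agent.H487.EP.cjm g (ptH e P u) = ptH e P u := by
  obtain ⟨π, a, hπ⟩ := wreath_acts hg
  have hY : x⁻¹ * g * x * g⁻¹ ∈ tensorWreathSubgroup m t e P := mul_mem hgx (inv_mem hg)
  set Y := x⁻¹ * g * x * g⁻¹ with hYdef
  obtain ⟨ρ, c, hρ⟩ := wreath_acts hY
  set! v : Fin t → Matrix (Fin m) (Fin m) F := fun j => Cfsg.Agent.H487.EP.cjm (a (π.symm j)) (u (π.symm j)) with hvdef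
  have hv : PN v := hu.cjm π a
  have hv1 : ∀ j, v j = 1 ↔ u (π.symm j) = 1 := by
    intro j
    constructor
    · intro h
      by_contra hc
      exact cjm_ne_one _ hc h
    · intro h
      rw [hvdef]
      simp only [h, cjm_one]
  set! X : Matrix ι ι F := Cfsg.Agent.H487.EP.cjm g (x : Matrix ι ι F) with hXdef
  have hXv : X = 1 + ptH e P v := by
    rw [hXdef, hx, cjm_add, cjm_one, cjm_ptH hπ]
  have hxY : (x : Matrix ι ι F) * (Y : Matrix ι ι F) = X := by
    rw [← Units.val_mul, hYdef, show x * (x⁻¹ * g * x * g⁻¹) = g * x * g⁻¹ by group]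
    rfl
  have hL : ∀ (k : Fin t) (w : Matrix (Fin m) (Fin m) F), X * sl e P k w = sl e P k w * X →
      sl e P k w * (1 + ptH e P u) = (1 + ptH e P u) * sl e P (ρ k) (Cfsg.Agent.H487.EP.cjm (c k) w) := by
    intro k w hw
    have h1 := comm_of_cjm (hρ k w)
    rw [← hxY] at hw
    have h2 : (sl e P k w * (x : Matrix ι ι F)) * (Y : Matrix ι ι F) =
        ((x : Matrix ι ι F) * sl e P (ρ k) (Cfsg.Agent.H487.EP.cjm (c k) w)) * (Y : Matrix ι ι F) := by
      rw [mul_assoc, ← hw, mul_assoc, h1, mul_assoc]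
    have := congrArg (fun y => y * ((Y⁻¹ : GL ι F) : Matrix ι ι F)) h2
    rw [← hx]
    simpa only [mul_assoc, Units.mul_inv, mul_one] using this
  -- the slots where `X` is trivial
  have hXc : ∀ k, v k = 1 → ∀ w, X * sl e P k w = sl e P k w * X := by
    intro k hk w
    rw [hXv, add_mul, mul_add, one_mul, mul_one, ptH_comm hk]
  -- step 1
  have s1 : ∀ k, u k ≠ 1 → v k ≠ 1 := by
    intro k hk hvk
    by_cases hρk : ρ k = k
    · obtain ⟨w, hw⟩ := (hu.nonSc hk).exists_not_comm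
      have h1 := hL k w (hXc k hvk w)
      rw [hρk] at h1
      obtain ⟨h2, h3⟩ := lemB hu h1
      rw [← h2] at h3
      exact hw h3
    · exact lemA hu (Ne.symm hρk) (hL k (u k) (hXc k hvk _)) (hu.nonSc hk)
  have s1' : ∀ k, v k ≠ 1 → u k ≠ 1 := by
    classical
    have h1 : (Finset.univ.filter fun k => u k ≠ 1) ⊆ (Finset.univ.filter fun k => v k ≠ 1) := by
      intro k hk
      rw [Finset.mem_filter] at hk ⊢
      exact ⟨hk.1, s1 k hk.2⟩
    have h2 : (Finset.univ.filter fun k => v k ≠ 1) = (Finset.univ.filter fun k => u k ≠ 1).map π.toEmbedding := by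
      ext k
      rw [Finset.mem_map_equiv, Finset.mem_filter, Finset.mem_filter, ne_eq, hv1]
      simp only [_root_.Finset.mem_univ, _root_.true_and, _root_.ne_eq]
    have h3 : (Finset.univ.filter fun k => u k ≠ 1) = (Finset.univ.filter fun k => v k ≠ 1) := by
      apply Finset.eq_of_subset_of_card_le h1
      rw [h2, Finset.card_map]
    intro k hk
    have h4 : k ∈ (Finset.univ.filter fun k => v k ≠ 1) := Finset.mem_filter.2 ⟨Finset.mem_univ _, hk⟩
    rw [← h3] at h4
    exact (Finset.mem_filter.1 h4).2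
  -- step 2
  have hone := hu.one_ne
  obtain ⟨k0, -, -, hk0, -⟩ := hu.two
  have s2 : ∀ k, ρ k = k := by
    intro k
    by_contra hρk
    by_cases hk : u k = 1
    · have hvk : v k = 1 := by
        by_contra hc
        exact s1' k hc hk
      have h1 := hL k (u k0) (hXc k hvk _)
      have h2 : sl e P k (u k0) * (1 + ptH e P u) = (1 + ptH e P u) * sl e P k (u k0) := by
        rw [add_mul, mul_add, one_mul, mul_one, ptH_comm hk]
      rw [h2, ← hx] at h1
      have h3 : sl e P k (u k0) = sl e P (ρ k) (Cfsg.Agent.H487.EP.cjm (c k) (u k0)) := by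
        have := congrArg (fun y => ((x⁻¹ : GL ι F) : Matrix ι ι F) * y) h1
        simpa only [← mul_assoc, Units.inv_mul, one_mul] using this
      obtain ⟨z, hz⟩ := sl_scalar (Ne.symm hρk) hone h3
      exact hu.nonSc hk0 z hz
    · have hvk := s1 k hk
      refine lemA hu (Ne.symm hρk) (hL k (v k) ?_) (hv.nonSc hvk)
      rw [hXv, ptH_split v k, add_mul, mul_add, one_mul, mul_one, mul_assoc, PN.comR (u := v) k]
  have s2' : ∀ k, u k = 1 → ∀ w, sl e P k w = sl e P k (Cfsg.Agent.H487.EP.cjm (c k) w) := by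
    intro k hk w
    have hvk : v k = 1 := by
      by_contra hc
      exact s1' k hc hk
    have h1 := hL k w (hXc k hvk _)
    have h2 : sl e P k w * (1 + ptH e P u) = (1 + ptH e P u) * sl e P k w := by
      rw [add_mul, mul_add, one_mul, mul_one, ptH_comm hk]
    rw [h2, ← hx, s2] at h1
    have := congrArg (fun y => ((x⁻¹ : GL ι F) : Matrix ι ι F) * y) h1
    simpa only [← mul_assoc, Units.inv_mul, one_mul] using this
  -- step 3
  have s3 : ∀ k, u k ≠ 1 → ¬ NonSc (c k : Matrix (Fin m) (Fin m) F) := by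
    intro k hk hc
    have hc1 : ∀ z : F, (1 : Matrix (Fin m) (Fin m) F) ≠ z • (c k : Matrix (Fin m) (Fin m) F) := by
      intro z hz
      have hz0 : z ≠ 0 := by
        rintro rfl
        rw [zero_smul] at hz
        exact hone hz
      apply hc z⁻¹
      rw [hz, smul_smul, inv_mul_cancel₀ hz0, one_smul]
    obtain ⟨lam, h1, h2⟩ := exists_lam hc1
    set! R := ptH e P (Function.update u k 1) with hR
    set! R1 := ptH e P (Function.update v k 1) with hR1
    have hRc : ∀ z, R * sl e P k z = sl e P k z * R := PN.comR k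
    have hRc1 : ∀ z, R1 * sl e P k z = sl e P k z * R1 := PN.comR k
    have hRR : R * R = 0 := hu.sqR k
    have hRR1 : R1 * R1 = 0 := hv.sqR k
    have hR0 : R ≠ 0 := hu.neR k
    have hN : ptH e P u = sl e P k (u k) * R := ptH_split u k
    have hN1 : ptH e P v = sl e P k (v k) * R1 := ptH_split v k
    have hxi : ((x⁻¹ : GL ι F) : Matrix ι ι F) = 1 - ptH e P u := by
      have h3 : (1 - ptH e P u) * (x : Matrix ι ι F) = 1 := by
        rw [hx, mul_add, sub_mul, sub_mul, one_mul, one_mul, mul_one, hu.sqN]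
        abel
      calc ((x⁻¹ : GL ι F) : Matrix ι ι F) = ((1 - ptH e P u) * (x : Matrix ι ι F)) * ((x⁻¹ : GL ι F) : Matrix ι ι F) := by
            rw [h3, one_mul]
        _ = 1 - ptH e P u := by rw [mul_assoc, Units.mul_inv, mul_one]
    have hYv : (Y : Matrix ι ι F) = (1 - ptH e P u) * (1 + ptH e P v) := by
      rw [← hXv, ← hxY, ← mul_assoc, ← hxi, Units.inv_mul, one_mul]
    have hY2 : (Y : Matrix ι ι F) = sl e P k 1 * 1 - sl e P k (u k) * R + sl e P k (v k) * R1 -
        sl e P k (u k * v k) * (R * R1) := by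
      rw [hYv, hN, hN1, map_mul, map_one]
      have h3 : sl e P k (u k) * R * (sl e P k (v k) * R1) = sl e P k (u k) * sl e P k (v k) * (R * R1) := by
        rw [mul_assoc, ← mul_assoc R, hRc]
        simp only [mul_assoc]
      rw [sub_mul, mul_add, mul_add, h3]
      simp only [one_mul, mul_one]
      abel
    -- `Y = s_k (c_k) Z`
    set! Z : Matrix ι ι F := sl e P k (((c k)⁻¹ : GL (Fin m) F) : Matrix (Fin m) (Fin m) F) * (Y : Matrix ι ι F) with hZ
    have hZc : ∀ w, Z * sl e P k w = sl e P k w * Z := by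
      intro w
      have h3 := comm_of_cjm (hρ k w)
      rw [s2] at h3
      rw [hZ, mul_assoc, h3, ← mul_assoc, ← mul_assoc, ← map_mul, ← map_mul]
      congr 2
      rw [Cfsg.Agent.H487.EP.cjm, ← mul_assoc, ← mul_assoc, Units.inv_mul, one_mul]
    have hYZ : (Y : Matrix ι ι F) = sl e P k (c k : Matrix (Fin m) (Fin m) F) * Z := by
      rw [hZ, ← mul_assoc, ← map_mul, Units.mul_inv, map_one, one_mul]
    have h4 := congrArg (Phi e P k lam) (hYZ.symm.trans hY2)
    rw [Phi_sl k lam _ hZc, h1, zero_smul, map_sub, map_add, map_sub,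
      Phi_sl k lam 1 (R := 1) (fun z => by rw [one_mul, mul_one]), Phi_sl k lam (u k) hRc, Phi_sl k lam (v k) hRc1,
      Phi_sl k lam (u k * v k) (R := R * R1) (fun z => by rw [mul_assoc, hRc1, ← mul_assoc, hRc, mul_assoc])] at h4
    have h5 := congrArg (fun y => R * y) h4
    simp only [mul_add, mul_sub, Matrix.mul_smul, mul_one, hRR, smul_zero, sub_zero, mul_zero, ← mul_assoc,
      zero_mul] at h5
    -- `0 = lam 1 • R + lam (v k) • (R * R1)`
    have h6 : R * R1 = 0 := by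
      have := congrArg (fun y => y * R1) h5
      simp only [add_mul, Matrix.smul_mul, mul_assoc, hRR1, smul_zero, mul_zero, add_zero, zero_mul] at this
      exact (smul_eq_zero.1 this.symm).resolve_left h2
    rw [h6, smul_zero, add_zero] at h5
    exact hR0 ((smul_eq_zero.1 h5.symm).resolve_left h2)
  -- `Y` is scalar
  obtain ⟨y, hy⟩ := scalar_of_sl (e := e) (P := P) (Y : Matrix ι ι F) (by
    intro k w
    have h3 := comm_of_cjm (hρ k w)
    rw [s2] at h3
    rw [h3]
    by_cases hk : u k = 1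
    · rw [← s2' k hk w]
    · have h4 := s3 k hk
      rw [NonSc] at h4
      push Not at h4
      obtain ⟨z, hz⟩ := h4
      congr 2
      have h5 : (c k : Matrix (Fin m) (Fin m) F) * w = w * (c k : Matrix (Fin m) (Fin m) F) := by
        rw [hz, Matrix.smul_mul, Matrix.mul_smul, one_mul, mul_one]
      exact cjm_of_comm h5)
  -- `1 + N1 = y (1 + N)`
  rw [hy, Matrix.mul_smul, mul_one, hx, hXv] at hxY
  have hu0 : ptH e P u ≠ 0 := hu.neN
  have h7 : ptH e P v = (y - 1) • (1 : Matrix ι ι F) + y • ptH e P u := by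
    rw [sub_smul, one_smul]
    have : y • (1 + ptH e P u) = y • (1 : Matrix ι ι F) + y • ptH e P u := smul_add _ _ _
    rw [this] at hxY
    have h8 : ptH e P v = (y • (1 : Matrix ι ι F) + y • ptH e P u) - 1 := by rw [hxY]; abel
    rw [h8]; abel
  have h8 : ((y - 1) * (y - 1)) • ptH e P u = 0 := by
    have h9 : ptH e P u * (ptH e P v * ptH e P v) = ((y - 1) * (y - 1)) • ptH e P u := by
      rw [h7]
      simp only [mul_add, add_mul, Matrix.mul_smul, Matrix.smul_mul, mul_one, one_mul, hu.sqN, smul_zero,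
        add_zero, smul_smul]
    rw [← h9, hv.sqN, mul_zero]
  have h9 : y - 1 = 0 := mul_self_eq_zero.1 ((smul_eq_zero.1 h8).resolve_right hu0)
  rw [cjm_ptH hπ, h7, h9, zero_smul, zero_add, show y = 1 by linear_combination h9, one_smul]

variable {Q : Type*} [Group Q] [Finite Q] {A : Subgroup Q} {Γ : Subgroup (MulAut Q)}

/-- **The kill by elements `1 + N`.** -/
theorem kill_root (h : EPT A Γ) {S : Subgroup (GL ι F)} (mo : Model Q S)
    (hA : mo.hat A = tensorWreathSubgroup m t e P ⊓ S) (hu : PN u)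
    {x : GL ι F} (hxS : x ∈ S) (hxv : (x : Matrix ι ι F) = 1 + ptH e P u)
    {w : GL ι F} (hwS : w ∈ S) (hwM : w ∈ tensorWreathSubgroup m t e P) {μ : F} (hμ : μ ≠ 1)
    (hw : Cfsg.Agent.H487.EP.cjm w (ptH e P u) = μ • ptH e P u) : False := by
  set M := tensorWreathSubgroup m t e P with hM
  set N := ptH e P u with hN
  have hN0 : N ≠ 0 := hu.neN
  have hμ0 : μ ≠ 0 := by
    rintro rfl
    rw [zero_smul] at hw
    exact cjm_ne_zero w hN0 hw
  -- elements commuting with `N` lie in `M^x`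
  have hcom : ∀ g : GL ι F, g ∈ M → Cfsg.Agent.H487.EP.cjm g N = N → x⁻¹ * g * x = g := by
    intro g _ hgN
    have h1 : g * x = x * g := by
      apply Units.ext
      rw [Units.val_mul, Units.val_mul, hxv, mul_add, add_mul, comm_of_cjm hgN, one_mul, mul_one]
    rw [mul_assoc, h1, ← mul_assoc, inv_mul_cancel, one_mul]
  have hwno : ¬ x⁻¹ * w * x ∈ M := by
    intro hcon
    have h1 := root_types hu hxv hwM hcon
    rw [← hN, hw] at h1
    apply hμ
    have h2 : (μ - 1) • N = 0 := by rw [sub_smul, one_smul, h1, sub_self]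
    have := (smul_eq_zero.1 h2).resolve_right hN0
    linear_combination this
  have hxM : x ∉ M := fun hx => hwno (M.mul_mem (M.mul_mem (M.inv_mem hx) hwM) hx)
  have hwA : w ∈ mo.hat A := by rw [hA]; exact ⟨hwM, hwS⟩
  have key : w ∈ cj x (mo.hat A) := by
    refine Cfsg.Agent.H458.EP.kill_norm h mo hxS (fun hx => hxM (by rw [hA] at hx; exact (mem_inf.1 hx).1)) hwA ?_
    intro g hg hgx
    rw [hA] at hg hgx ⊢
    rw [mem_cj] at hgx ⊢
    obtain ⟨hgM, hgS⟩ := mem_inf.1 hg
    refine mem_inf.2 ⟨?_, S.mul_mem (S.mul_mem (S.inv_mem hxS) (S.mul_mem (S.mul_mem hwS hgS) (S.inv_mem hwS))) hxS⟩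
    have hgN : Cfsg.Agent.H487.EP.cjm g N = N := root_types hu hxv hgM (mem_inf.1 hgx).1
    have hg'M : w * g * w⁻¹ ∈ M := M.mul_mem (M.mul_mem hwM hgM) (M.inv_mem hwM)
    have hwi : Cfsg.Agent.H487.EP.cjm w⁻¹ N = μ⁻¹ • N := by
      have h1 : N = Cfsg.Agent.H487.EP.cjm w (μ⁻¹ • N) := by
        rw [cjm_smul, hw, smul_smul, inv_mul_cancel₀ hμ0, one_smul]
      conv_lhs => rw [h1]
      rw [cjm_inv_self]
    have hg'N : Cfsg.Agent.H487.EP.cjm (w * g * w⁻¹) N = N := by
      rw [← cjm_cjm, ← cjm_cjm, hwi, cjm_smul, hgN, cjm_smul, hw, smul_smul, inv_mul_cancel₀ hμ0, one_smul]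
    rw [hcom _ hg'M hg'N]
    exact hg'M
  rw [mem_cj, hA] at key
  exact hwno (mem_inf.1 key).1

end Cfsg.Agent.H598.EP
end

-- part: H598/EP/OmTwo
section
/-!
# S3499: orthogonal groups, tensor powers with two-dimensional factors (helper598)

`omC7_two` is the row `OmC7` of `H778/EP/OmAsm.lean` for two-dimensional factors.
-/

set_option autoImplicit false
set_option linter.unusedSectionVars false

namespace Cfsg.Agent.H598.EP

open Matrix Subgroup Cfsg.Agent.H284 Cfsg.Agent.H419.EP Cfsg.Agent.H487.EP Cfsg.Geo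
open Cfsg.Agent.H919 (pureMat slotMat slotEmb pureMat_apply pureMat_mul pureMat_one framePure frameMat frameMat_mulVec
  exists_frame_coords single_eq_pureVec WreathData C7_quad_even C7_orth_odd)
open Cfsg.Agent.H922 (pureVec pureMat_mulVec dot_pureVec tensorPower_eq eq_gram)
open Cfsg.Agent.H925 (mem_iso_iff Q_add')
open Cfsg.Agent.H778.EP (OmRow omegaGL_le)
open scoped MatrixGroups

section kill

variable {ι : Type} [Fintype ι] [DecidableEq ι] {F : Type*} [Field F] {t m : ℕ}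
variable {e : ι ≃ (Fin t → Fin m)} {P : GL ι F} {u : Fin t → Matrix (Fin m) (Fin m) F}
variable {Q : Type*} [Group Q] [Finite Q] {A : Subgroup Q} {Γ : Subgroup (MulAut Q)}

/-- `kill_root`, assuming only `Â ≤ M` -/
theorem kill_root_le (h : EPT A Γ) {S : Subgroup (GL ι F)} (mo : Model Q S)
    (hA : mo.hat A ≤ tensorWreathSubgroup m t e P) (hu : PN u)
    {x : GL ι F} (hxS : x ∈ S) (hxv : (x : Matrix ι ι F) = 1 + ptH e P u)
    {w : GL ι F} (hwS : w ∈ S) (hwM : w ∈ tensorWreathSubgroup m t e P) {μ : F} (hμ : μ ≠ 1)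
    (hw : Cfsg.Agent.H487.EP.cjm w (ptH e P u) = μ • ptH e P u) : False := by
  refine kill_root h mo (Cfsg.Agent.H458.EP.hat_eq mo h.max hA ?_) hu hxS hxv hwS hwM hμ hw
  intro hS
  have h1 := root_types hu hxv hwM (hS (S.mul_mem (S.mul_mem (S.inv_mem hxS) hwS) hxS))
  rw [hw] at h1
  apply hμ
  have h2 : (μ - 1) • ptH e P u = 0 := by rw [sub_smul, one_smul, h1, sub_self]
  have := (smul_eq_zero.1 h2).resolve_right hu.neN
  linear_combination this

end kill

section str

variable {ι : Type} [Fintype ι] [DecidableEq ι] {F : Type} [Field F] [Fintype F] {t m : ℕ}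
variable {e : ι ≃ (Fin t → Fin m)} {P : GL ι F} {Qf : (ι → F) → F} {G : Matrix (Fin m) (Fin m) F} {c : F}

theorem ptH_mulVec (v : Fin t → Matrix (Fin m) (Fin m) F) (x : (Fin t → Fin m) → F) :
    ptH e P v *ᵥ ((P : Matrix ι ι F) *ᵥ (x ∘ e)) = (P : Matrix ι ι F) *ᵥ ((pureMat v *ᵥ x) ∘ e) :=
  frameMat_mulVec e P (pureMat v) x

theorem ptH_pure (v : Fin t → Matrix (Fin m) (Fin m) F) (w : Fin t → (Fin m → F)) :
    ptH e P v *ᵥ framePure e P w = framePure e P (fun k => v k *ᵥ w k) := by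
  rw [framePure, ptH_mulVec, pureMat_mulVec, framePure]

/-- the polar form in the frame -/
def FS (Qf : (ι → F) → F) (e : ι ≃ (Fin t → Fin m)) (P : GL ι F) (G : Matrix (Fin m) (Fin m) F) (c : F) : Prop :=
  ∀ x y : (Fin t → Fin m) → F, QuadraticMap.polar Qf ((P : Matrix ι ι F) *ᵥ (x ∘ e)) ((P : Matrix ι ι F) *ᵥ (y ∘ e)) =
    c * (x ⬝ᵥ (pureMat (fun _ => G) *ᵥ y))

theorem pt_adj (hs : FS Qf e P G c) {a a' : Fin t → Matrix (Fin m) (Fin m) F} (h : ∀ k, (a k)ᵀ * G = G * a' k)
    (v w : ι → F) : QuadraticMap.polar Qf (ptH e P a *ᵥ v) w = QuadraticMap.polar Qf v (ptH e P a' *ᵥ w) := by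
  obtain ⟨x, rfl⟩ := exists_frame_coords e P v
  obtain ⟨y, rfl⟩ := exists_frame_coords e P w
  rw [ptH_mulVec, ptH_mulVec, hs, hs]
  congr 1
  have h1 : (pureMat a)ᵀ = pureMat (fun i => (a i)ᵀ) := rfl
  rw [← Matrix.vecMul_transpose, ← Matrix.dotProduct_mulVec, Matrix.mulVec_mulVec, Matrix.mulVec_mulVec, h1,
    pureMat_mul, pureMat_mul]
  congr 3
  funext k
  exact h k

theorem span_pure (e : ι ≃ (Fin t → Fin m)) (P : GL ι F) : Submodule.span F (Set.range (framePure e P)) = ⊤ := by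
  rw [eq_top_iff]
  intro v _
  obtain ⟨x, rfl⟩ := exists_frame_coords e P v
  have h1 : x = ∑ a, x a • (Pi.single a (1 : F) : (Fin t → Fin m) → F) := by
    funext b
    rw [Finset.sum_apply, Finset.sum_eq_single b]
    · simp
    · intro a _ ha
      simp [Ne.symm ha]
    · intro h; exact absurd (Finset.mem_univ _) h
  have h2 : (P : Matrix ι ι F) *ᵥ (x ∘ e) = ∑ a, x a • framePure e P (fun i => Pi.single (a i) 1) := by
    have h3 : x ∘ e = ∑ a, x a • (pureVec (fun i => Pi.single (a i) (1 : F)) ∘ e) := by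
      conv_lhs => rw [h1]
      funext i
      simp only [Function.comp, Finset.sum_apply, Pi.smul_apply, single_eq_pureVec]
    rw [h3, Matrix.mulVec_sum]
    simp only [Matrix.mulVec_smul, framePure]
  rw [h2]
  exact Submodule.sum_mem _ fun a _ => Submodule.smul_mem _ _ (Submodule.subset_span ⟨_, rfl⟩)

/-- the slots on invertible matrices -/
noncomputable def slG (e : ι ≃ (Fin t → Fin m)) (P : GL ι F) (k : Fin t) : GL (Fin m) F →* GL ι F :=
  Units.map (sl e P k : Matrix (Fin m) (Fin m) F →* Matrix ι ι F)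

theorem slG_val (k : Fin t) (g : GL (Fin m) F) : (slG e P k g : Matrix ι ι F) = sl e P k (g : Matrix (Fin m) (Fin m) F) := rfl

theorem slG_inv (k : Fin t) (g : GL (Fin m) F) :
    (((slG e P k g)⁻¹ : GL ι F) : Matrix ι ι F) = sl e P k ((g⁻¹ : GL (Fin m) F) : Matrix (Fin m) (Fin m) F) := rfl

theorem slG_cjm (k : Fin t) (g : GL (Fin m) F) (a : Matrix (Fin m) (Fin m) F) {R : Matrix ι ι F}
    (hR : ∀ w, R * sl e P k w = sl e P k w * R) :
    Cfsg.Agent.H487.EP.cjm (slG e P k g) (sl e P k a * R) = sl e P k (Cfsg.Agent.H487.EP.cjm g a) * R := by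
  rw [Cfsg.Agent.H487.EP.cjm, slG_val, slG_inv, mul_assoc, mul_assoc, hR, ← mul_assoc, ← mul_assoc, ← map_mul, ← map_mul,
    Cfsg.Agent.H487.EP.cjm]

theorem slot_iso (hQ : IsNondegenerateQuadraticForm Qf) (hs : FS Qf e P G c)
    (hq : (2 : F) ≠ 0 ∨ ∀ w, Qf (framePure e P w) = 0) (k : Fin t) {g : GL (Fin m) F} (hg : g ∈ IsoG G) :
    slG e P k g ∈ isometryGroup F Qf := by
  have hpol : ∀ v w, QuadraticMap.polar Qf ((slG e P k g : Matrix ι ι F) *ᵥ v) ((slG e P k g : Matrix ι ι F) *ᵥ w) =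
      QuadraticMap.polar Qf v w := by
    intro v w
    rw [slG_val, ← ptH_single, pt_adj hs (a' := Pi.mulSingle k ((g⁻¹ : GL (Fin m) F) : Matrix (Fin m) (Fin m) F)) (by
      intro j
      by_cases hj : j = k
      · subst hj
        rw [Pi.mulSingle_eq_same, Pi.mulSingle_eq_same]
        exact isoG_adj hg
      · rw [Pi.mulSingle_eq_of_ne hj, Pi.mulSingle_eq_of_ne hj, Matrix.transpose_one, one_mul, mul_one]),
      Matrix.mulVec_mulVec, ← map_mul, ← Pi.mulSingle_mul, Units.inv_mul, Pi.mulSingle_one, map_one, Matrix.one_mulVec]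
  rcases hq with h2 | h0
  · exact iso_of_polar hQ h2 hpol
  · refine iso_of_span hQ hpol (span_pure e P) ?_ ?_
    · rintro _ ⟨w, rfl⟩
      exact h0 w
    · rintro _ ⟨w, rfl⟩
      rw [slG_val, ← ptH_single, ptH_pure]
      exact h0 _

theorem slot_omega (hQ : IsNondegenerateQuadraticForm Qf) (hs : FS Qf e P G c)
    (hq : (2 : F) ≠ 0 ∨ ∀ w, Qf (framePure e P w) = 0) (k : Fin t) {g : GL (Fin m) F} (hg : g ∈ KG G) :
    slG e P k g ∈ omegaGL Qf := by
  apply comm_le_omega
  have h1 : (KG G).map (slG e P k) ≤ ⁅isometryGroup F Qf, isometryGroup F Qf⁆ := by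
    rw [KG, Subgroup.map_commutator]
    apply Subgroup.commutator_mono <;>
    · rintro _ ⟨x, hx, rfl⟩
      exact slot_iso hQ hs hq k hx
  exact h1 ⟨g, hg, rfl⟩

/-- the elements `1 + b N` are isometries -/
theorem root_iso (hQ : IsNondegenerateQuadraticForm Qf) (hs : FS Qf e P G c) {u : Fin t → Matrix (Fin m) (Fin m) F}
    (hu : PN u) (hN : ∀ v w, QuadraticMap.polar Qf (ptH e P u *ᵥ v) w = -QuadraticMap.polar Qf v (ptH e P u *ᵥ w))
    (hq : (2 : F) ≠ 0 ∨ ((∀ w, Qf (framePure e P w) = 0) ∧ (∃ k, u k = 1) ∧ ∀ z : Fin m → F, z ⬝ᵥ (G *ᵥ z) = 0))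
    {b : F} {x : GL ι F} (hx : (x : Matrix ι ι F) = 1 + b • ptH e P u) : x ∈ isometryGroup F Qf := by
  have hB := hQ.polar_bilinear
  have hpol : ∀ v w, QuadraticMap.polar Qf ((x : Matrix ι ι F) *ᵥ v) ((x : Matrix ι ι F) *ᵥ w) =
      QuadraticMap.polar Qf v w := by
    intro v w
    have h1 : QuadraticMap.polar Qf (ptH e P u *ᵥ v) (ptH e P u *ᵥ w) = 0 := by
      rw [hN, Matrix.mulVec_mulVec, hu.sqN, Matrix.zero_mulVec]
      have := hB.smul_right 0 v 0
      rw [zero_smul, zero_mul] at this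
      rw [this, neg_zero]
    rw [hx, Matrix.add_mulVec, Matrix.add_mulVec, Matrix.one_mulVec, Matrix.one_mulVec, Matrix.smul_mulVec,
      Matrix.smul_mulVec, hB.add_left, hB.add_right, hB.add_right, hB.smul_left, hB.smul_right, hB.smul_left,
      hB.smul_right, h1, hN]
    ring
  rcases hq with h2 | ⟨h0, ⟨k, hk⟩, hG⟩
  · exact iso_of_polar hQ h2 hpol
  · refine iso_of_span hQ hpol (span_pure e P) ?_ ?_
    · rintro _ ⟨w, rfl⟩
      exact h0 w
    · rintro _ ⟨w, rfl⟩
      have h1 : QuadraticMap.polar Qf (framePure e P w) (b • (ptH e P u *ᵥ framePure e P w)) = 0 := by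
        rw [hB.smul_right, ptH_pure, framePure, framePure, hs, pureMat_mulVec, dot_pureVec,
          Finset.prod_eq_zero (Finset.mem_univ k) (by
            change w k ⬝ᵥ (G *ᵥ (u k *ᵥ w k)) = 0
            rw [hk, Matrix.one_mulVec, hG]), mul_zero, mul_zero]
      rw [hx, Matrix.add_mulVec, Matrix.one_mulVec, Matrix.smul_mulVec, Q_add' hQ, h0, h1, hQ.smul, ptH_pure, h0]
      ring

end str

/-! ### two-dimensional factors -/

section two

variable {F : Type} [Field F] [Fintype F]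

theorem E12_ne_zero : E12 F ≠ 0 := by
  intro h
  have := congrFun (congrFun h 0) 1
  simp [E12] at this

theorem E12_ne_one : E12 F ≠ 1 := by
  intro h
  have := congrFun (congrFun h 0) 0
  simp [E12] at this

theorem one_ne2 : (1 : Matrix (Fin 2) (Fin 2) F) ≠ 0 := by
  intro h
  have := congrFun (congrFun h 0) 0
  simp at this

theorem E12_adj (g : F) : (E12 F)ᵀ * (g • J2 F) = (g • J2 F) * (-E12 F) := by
  rw [E12, J2]
  ext i j
  (revert i j; simp only [Matrix.mul_apply, Fin.sum_univ_two, _root_.Fin.forall_fin_succ, _root_.Matrix.smul_of, _root_.Matrix.smul_cons, _root_.smul_eq_mul, _root_.MulZeroClass.mul_zero, _root_.mul_one, _root_.Matrix.smul_empty, _root_.mul_neg, _root_.Matrix.transpose_apply, _root_.Matrix.of_apply, _root_.Matrix.cons_val', _root_.Matrix.cons_val_fin_one, Fin.isValue, _root_.Matrix.cons_val_zero, _root_.Matrix.cons_val_one, _root_.Matrix.neg_of, _root_.Matrix.neg_cons, _root_.neg_zero, _root_.Matrix.neg_empty, _root_.zero_add,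 _root_.add_zero, _root_.neg_eq_zero, _root_.mul_eq_zero, _root_.Matrix.cons_val_succ, _root_.forall_const, _root_.true_or, _root_.MulZeroClass.zero_mul, _root_.and_self, _root_.one_mul, _root_.neg_neg, _root_.implies_true])

theorem E12_cjm {s : F} (hs0 : s ≠ 0) : Cfsg.Agent.H487.EP.cjm (mk2 s 0 0 s⁻¹ (by rw [mul_inv_cancel₀ hs0]; ring)) (E12 F) =
    s ^ 2 • E12 F := by
  rw [Cfsg.Agent.H487.EP.cjm, mk2_val, mk2_inv, E12]
  ext i j
  (revert i j; simp only [Matrix.mul_apply, Fin.sum_univ_two, _root_.Fin.forall_fin_succ, _root_.Matrix.cons_mul, _root_.Nat.succ_eq_add_one, Nat.reduceAdd, _root_.Matrix.vecMul_cons, _root_.Matrix.head_cons, _root_.Matrix.smul_cons, _root_.smul_eq_mul, _root_.MulZeroClass.mul_zero, _root_.mul_one, _root_.Matrix.smul_empty, _root_.Matrix.tail_cons, _root_.zero_smul, _root_.Matrix.empty_vecMul, _root_.add_zero, _root_.zero_add, _root_.Matrix.empty_mul, _root_.Equiv.symm_apply_apply, _root_.neg_zero, _root_.Matrix.of_apply,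 _root_.Matrix.cons_val', _root_.Matrix.cons_val_fin_one, Fin.isValue, _root_.Matrix.cons_val_zero, _root_.Matrix.cons_val_one, _root_.Matrix.smul_apply, _root_.Matrix.cons_val_succ, _root_.forall_const, _root_.MulZeroClass.zero_mul, _root_.implies_true, _root_.and_true, _root_.true_and]) <;> (repeat' with_reducible apply And.intro)
  ring

theorem KG_smul (g : F) {a : GL (Fin 2) F} (ha : a ∈ KG (J2 F)) : a ∈ KG (g • J2 F) := by
  have h1 : IsoG (J2 F) ≤ IsoG (g • J2 F) := by
    intro x hx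
    rw [mem_isoG] at hx ⊢
    rw [Matrix.mul_smul, Matrix.smul_mul, hx]
  exact Subgroup.commutator_mono h1 h1 ha

/-- the Gram matrix of a symplectic form on the plane -/
theorem gram_two {f₁ : (Fin 2 → F) → (Fin 2 → F) → F} (hf : IsSymplecticForm f₁) :
    gramMatrix f₁ = (gramMatrix f₁ 0 1) • J2 F := by
  ext i j
  have h1 : gramMatrix f₁ 1 0 = -gramMatrix f₁ 0 1 := hf.skew _ _
  have h2 : ∀ a, gramMatrix f₁ a a = 0 := fun a => hf.alternating _
  (revert i j; simp only [J2, h1, h2, _root_.Fin.forall_fin_succ, Fin.isValue, _root_.Matrix.smul_apply, _root_.Matrix.of_apply, _root_.Matrix.cons_val', _root_.Matrix.cons_val_fin_one, _root_.smul_eq_mul, _root_.Matrix.cons_val_zero, _root_.Matrix.cons_val_succ, _root_.Fin.succ_zero_eq_one, _root_.IsEmpty.forall_iff, _root_.and_true, _root_.MulZeroClass.mul_zero, _root_.mul_one, _root_.and_self, _root_.mul_neg])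

/-- the tensor `N` -/
noncomputable def uK {t : ℕ} (F : Type) [Field F] (K : Finset (Fin t)) : Fin t → Matrix (Fin 2) (Fin 2) F :=
  fun k => if k ∈ K then E12 F else 1

theorem uK_mem {t : ℕ} {K : Finset (Fin t)} {k : Fin t} (hk : k ∈ K) : uK F K k = E12 F := if_pos hk
theorem uK_not_mem {t : ℕ} {K : Finset (Fin t)} {k : Fin t} (hk : k ∉ K) : uK F K k = 1 := if_neg hk

theorem pn_uK {t : ℕ} {K : Finset (Fin t)} (hK : 2 ≤ K.card) : PN (uK F K) where
  sq k hk := by
    by_cases h : k ∈ K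
    · rw [uK_mem h, E12_sq]
    · exact absurd (uK_not_mem h) hk
  ne k := by
    by_cases h : k ∈ K
    · rw [uK_mem h]; exact E12_ne_zero
    · rw [uK_not_mem h]; exact one_ne2
  two := by
    obtain ⟨a, ha, b, hb, hab⟩ := Finset.one_lt_card.1 hK
    exact ⟨a, b, hab, by rw [uK_mem ha]; exact E12_ne_one, by rw [uK_mem hb]; exact E12_ne_one⟩

variable {ι : Type} [Fintype ι] [DecidableEq ι] {t : ℕ} {e : ι ≃ (Fin t → Fin 2)} {P : GL ι F} {Qf : (ι → F) → F}

theorem uK_adj {g c : F} (hs : FS Qf e P (g • J2 F) c) {K : Finset (Fin t)} (hQ : IsNondegenerateQuadraticForm Qf)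
    (hK : ((-1 : F)) ^ K.card = -1) (v w : ι → F) :
    QuadraticMap.polar Qf (ptH e P (uK F K) *ᵥ v) w = -QuadraticMap.polar Qf v (ptH e P (uK F K) *ᵥ w) := by
  have hB := hQ.polar_bilinear
  let a' : Fin t → Matrix (Fin 2) (Fin 2) F := fun k => (if k ∈ K then (-1 : F) else 1) • uK F K k
  have h1 : ptH e P a' = (-1 : F) • ptH e P (uK F K) := by
    have h2 : pureMat a' = (-1 : F) • pureMat (uK F K) := by
      ext p q
      rw [Matrix.smul_apply, pureMat_apply, pureMat_apply]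
      simp only [a', Matrix.smul_apply, smul_eq_mul, Finset.prod_mul_distrib]
      congr 1
      rw [Finset.prod_ite, Finset.prod_const, Finset.prod_const_one, mul_one, ← hK]
      congr 1
      simp only [_root_.Finset.subset_univ, _root_.Finset.filter_mem_eq_of_subset]
    rw [ptH_apply, h2, map_smul, ptH_apply]
  rw [pt_adj hs (a' := a') (by
    intro k
    by_cases hk : k ∈ K
    · simp only [a', if_pos hk]
      rw [uK_mem hk, E12_adj, neg_one_smul]
    · simp only [a', if_neg hk]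
      rw [uK_not_mem hk, one_smul, Matrix.transpose_one, one_mul, mul_one]), h1, Matrix.smul_mulVec, hB.smul_right]
  ring

variable {Q : Type} [Group Q] [Finite Q] {A : Subgroup Q} {Γ : Subgroup (MulAut Q)}

theorem om_final (h : EPT A Γ) (mo : Model Q (omegaGL Qf)) (hQ : IsNondegenerateQuadraticForm Qf)
    (hle : mo.hat A ≤ tensorWreathSubgroup 2 t e P) {f₁ : (Fin 2 → F) → (Fin 2 → F) → F} (hf₁ : IsSymplecticForm f₁)
    (hstr : IsTensorPowerFormStructure id (QuadraticMap.polar Qf) f₁ e P) {K : Finset (Fin t)} (hK2 : 2 ≤ K.card)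
    (hK1 : ((-1 : F)) ^ K.card = -1) (hq : (2 : F) ≠ 0 ∨ ((∀ w, Qf (framePure e P w) = 0) ∧ ∃ k, k ∉ K))
    {s : F} (hs0 : s ≠ 0) (hs : s ^ 2 ≠ 1) : False := by
  obtain ⟨c, -, hcf⟩ := hstr
  have hFS : FS Qf e P (gramMatrix f₁) c := fun x y => tensorPower_eq hcf rfl x y
  have hgz : ∀ z : Fin 2 → F, z ⬝ᵥ (gramMatrix f₁ *ᵥ z) = 0 := by
    intro z
    rw [← eq_gram hf₁.bilinear, hf₁.alternating]
  rw [gram_two hf₁] at hFS hgz
  set g : F := gramMatrix f₁ 0 1 with hg
  have hu : PN (uK F K) := pn_uK hK2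
  set! N := ptH e P (uK F K) with hN
  have hNN : N * N = 0 := hu.sqN
  have hadj := uK_adj (K := K) hFS hQ hK1
  obtain ⟨k0, hk0, k1, hk1, h01⟩ := Finset.one_lt_card.1 hK2
  have hdet : s * s⁻¹ - 0 * 0 = 1 := by rw [mul_inv_cancel₀ hs0]; ring
  set! d : GL (Fin 2) F := mk2 s 0 0 s⁻¹ hdet with hd
  set! w : GL ι F := slG e P k0 d with hw
  have hq' : (2 : F) ≠ 0 ∨ ∀ w, Qf (framePure e P w) = 0 := by
    rcases hq with h2 | h2
    · exact Or.inl h2
    · exact Or.inr h2.1
  have hdJ : d ∈ KG (J2 F) := diag_mem hs0 hs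
  have hwS : w ∈ omegaGL Qf := slot_omega hQ hFS hq' k0 (KG_smul g hdJ)
  have hwI : w ∈ isometryGroup F Qf := omegaGL_le Qf hwS
  have hwM : w ∈ tensorWreathSubgroup 2 t e P :=
    pure_mem h01 d 1 (by rw [hw, slG_val, Units.val_one, map_one, mul_one])
  have hwN : Cfsg.Agent.H487.EP.cjm w N = s ^ 2 • N := by
    have h1 : N = sl e P k0 (E12 F) * ptH e P (Function.update (uK F K) k0 1) := by
      rw [hN, ptH_split _ k0, uK_mem hk0]
    rw [h1, hw, slG_cjm k0 d _ (PN.comR k0), hd, E12_cjm hs0, map_smul, Matrix.smul_mul]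
  have hs1 : s ^ 2 - 1 ≠ 0 := sub_ne_zero.2 hs
  set! b : F := (s ^ 2 - 1)⁻¹ with hb
  let y : GL ι F := ⟨1 + b • N, 1 - b • N, by
    rw [add_mul, mul_sub, mul_sub, one_mul, one_mul, mul_one, Matrix.smul_mul, Matrix.mul_smul, hNN, smul_zero, smul_zero]
    abel, by
    rw [sub_mul, mul_add, mul_add, one_mul, one_mul, mul_one, Matrix.smul_mul, Matrix.mul_smul, hNN, smul_zero, smul_zero]
    abel⟩
  have hyv : (y : Matrix ι ι F) = 1 + b • N := rfl
  have hyi : ((y⁻¹ : GL ι F) : Matrix ι ι F) = 1 - b • N := rfl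
  have hyI : y ∈ isometryGroup F Qf := by
    refine root_iso hQ hFS hu hadj ?_ hyv
    rcases hq with h2 | ⟨h2, k, hk⟩
    · exact Or.inl h2
    · exact Or.inr ⟨h2, ⟨k, uK_not_mem hk⟩, hgz⟩
  have hxS : w * y * w⁻¹ * y⁻¹ ∈ omegaGL Qf := comm_le_omega Qf (Subgroup.commutator_mem_commutator hwI hyI)
  have hxv : ((w * y * w⁻¹ * y⁻¹ : GL ι F) : Matrix ι ι F) = 1 + N := by
    have h1 : ((w * y * w⁻¹ : GL ι F) : Matrix ι ι F) = Cfsg.Agent.H487.EP.cjm w (y : Matrix ι ι F) := rfl
    have hbs : b * s ^ 2 - b = 1 := by rw [hb]; field_simp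
    rw [Units.val_mul, h1, hyv, hyi, cjm_add, cjm_one, cjm_smul, hwN, smul_smul, add_mul, mul_sub, mul_sub, one_mul, one_mul,
      mul_one, Matrix.smul_mul, Matrix.mul_smul, hNN, smul_zero, smul_zero, sub_zero]
    have h2 : (b * s ^ 2) • N = b • N + N := by
      have : b * s ^ 2 = b + 1 := by linear_combination hbs
      rw [this, add_smul, one_smul]
    rw [h2]
    abel
  exact kill_root_le h mo hle hu hxS hxv hwS hwM hs hwN

end two

/-- **[Om-C7], two-dimensional factors** -/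
theorem omC7_two : OmRow fun F _ _ ι _ _ _ H =>
    Geo.ActsIrreducibly (Geo.matrixSet H) ∧ ∃ (t : ℕ) (e : ι ≃ (Fin t → Fin 2)) (P : GL ι F)
      (E : Fin t → Subgroup (GL ι F)), 2 ^ t = Fintype.card ι ∧ WreathData H 2 t e P E := by
  rintro Q _ _ _ A Γ h F _ _ ι _ _ Qf mo h7 hQ ⟨-, t, e, P, E, ht, W⟩
  have ht3 : 3 ≤ t := by
    by_contra hcon
    have h1 : 2 ^ t ≤ 2 ^ 2 := Nat.pow_le_pow_right (by norm_num) (by omega)
    omega
  have hF : 4 ≤ Fintype.card F := by
    by_contra hcon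
    exact W.not_two_small (by omega)
  obtain ⟨s, hs0, hs⟩ : ∃ s : F, s ≠ 0 ∧ s ^ 2 ≠ 1 := by
    classical
    by_contra hcon
    push Not at hcon
    have h1 : (Finset.univ : Finset F) ⊆ {0, 1, -1} := by
      intro s _
      by_cases h0 : s = 0
      · simp only [h0, _root_.Finset.mem_insert, _root_.zero_ne_one, _root_.Finset.mem_singleton, _root_.zero_eq_neg, _root_.one_ne_zero, _root_.or_self, _root_.or_false]
      · have h2 : (s - 1) * (s + 1) = 0 := by linear_combination hcon s h0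
        rcases mul_eq_zero.1 h2 with h3 | h3
        · have : s = 1 := by linear_combination h3
          simp only [this, _root_.Finset.mem_insert, _root_.one_ne_zero, _root_.Finset.mem_singleton, _root_.true_or, _root_.or_true]
        · have : s = -1 := by linear_combination h3
          simp only [this, _root_.Finset.mem_insert, _root_.neg_eq_zero, _root_.one_ne_zero, _root_.Finset.mem_singleton, _root_.or_true]
    have h2 := Finset.card_le_card h1
    rw [Finset.card_univ] at h2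
    have h3 : Finset.card ({0, 1, -1} : Finset F) ≤ 3 := Finset.card_le_three
    omega
  have hH : ∀ g ∈ mo.hat A, ∀ v, Qf ((g : Matrix ι ι F) *ᵥ v) = Qf v := fun g hg =>
    mem_iso_iff.1 (omegaGL_le Qf (mo.hat_le A hg))
  by_cases h2 : (2 : F) = 0
  · obtain ⟨P', f₁, W', hf₁, hstr, hpure⟩ := C7_quad_even hQ h2 hH W
    let K : Finset (Fin t) := {⟨0, by omega⟩, ⟨1, by omega⟩}
    have hK : K.card = 2 := Finset.card_pair (by simp [Fin.ext_iff])
    refine om_final h mo hQ W'.wreath hf₁ hstr (K := K) hK.ge ?_ (Or.inr ⟨hpure, ⟨2, by omega⟩, ?_⟩) hs0 hs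
    · rw [hK]
      linear_combination h2
    · simp [K, Fin.ext_iff]
  · have hsym : IsSymmetricForm (QuadraticMap.polar Qf) :=
      ⟨hQ.polar_bilinear, fun u v => QuadraticMap.polar_comm Qf u v, hQ.nondegenerate⟩
    have hHp : ∀ g ∈ mo.hat A, ∀ u v, QuadraticMap.polar Qf ((g : Matrix ι ι F) *ᵥ u) ((g : Matrix ι ι F) *ᵥ v) =
        QuadraticMap.polar Qf u v := by
      intro g hg u v
      simp only [QuadraticMap.polar, ← Matrix.mulVec_add, hH g hg]
    obtain ⟨P', f₁, W', hf₁, hstr, -, hinv⟩ := C7_orth_odd hsym h2 hHp W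
    have hbil : IsBilinearForm f₁ := by
      rcases hf₁ with h | h
      · exact h.bilinear
      · exact h.1.bilinear
    have halt := W'.two_alternating ⟨0, by omega⟩ hbil (hinv _)
    obtain ⟨hf₁, hev⟩ : IsSymplecticForm f₁ ∧ Even t := by
      rcases hf₁ with h | h
      · exfalso
        have h3 : ∀ x y, f₁ x y = 0 := by
          intro x y
          have h4 := halt (x + y)
          rw [hbil.add_left, hbil.add_right, hbil.add_right, halt, halt, h.symm y x] at h4
          have h5 : (2 : F) * f₁ x y = 0 := by linear_combination h4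
          exact (mul_eq_zero.1 h5).resolve_left h2
        obtain ⟨-, y, hy⟩ := h.nondegenerate (Pi.single 0 1) (by
          intro h0
          have := congrFun h0 0
          simp at this)
        exact hy (h3 _ _)
      · exact h
    have ht4 : 4 ≤ t := by
      rcases Nat.lt_or_ge t 4 with h | h
      · have : t = 3 := by omega
        rw [this] at hev
        exact absurd hev (by decide)
      · exact h
    let K : Finset (Fin t) := {⟨0, by omega⟩, ⟨1, by omega⟩, ⟨2, by omega⟩}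
    have hK : K.card = 3 := Finset.card_eq_three.2 ⟨_, _, _, by simp [Fin.ext_iff], by simp [Fin.ext_iff],
      by simp [Fin.ext_iff], rfl⟩
    refine om_final h mo hQ W'.wreath hf₁ hstr (K := K) (by omega) ?_ (Or.inl h2) hs0 hs
    rw [hK]
    ring

end Cfsg.Agent.H598.EP
end

-- part: H487/EP/OmC7
section
/-!
# S3499, task Om-C4C7, second part: tensor powers in orthogonal groups (helper487)
-/

set_option autoImplicit false

namespace Cfsg.Agent.H487.EP

/-- **[Om-C4C7, second part]** -/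
theorem omC7 : Cfsg.Agent.H778.EP.OmC7 := omC7_of Cfsg.Agent.H598.EP.omC7_two

end Cfsg.Agent.H487.EP
end

private theorem dce_6c853a91771d : _root_.True := by
  try have : _root_.True := by simp only [_root_.Cfsg.Agent.H487.EP.NonSc.eq_1]
  try have : _root_.True := by simp only [_root_.Cfsg.Agent.H598.EP.Phi.eq_1]
  exact _root_.True.intro
end

-- part: H91/EP/OmN
section
prune_inst 0x110031040580000000008000e0001c62a2000402004800000082024006c14c0000008020a03000160000000400340040000000000000000000000000011801801000000080080008420080000000000000000000000000000000000000000000000000000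
set_option linter.all false
open scoped Cfsg.Agent.FastGrp

-- part: H807/EP/Crit
section
/-!
# Two kill criteria for extremely primitive groups (helper807)

`IsPre S T A`: `T ≤ S ≤ G` is the preimage of `A ≤ Q` under a surjection `S → Q` (`G` any group).

* `IsPre.nm`: an element `t ∈ T` normalising `T ⊓ T^x` (`x ∉ T`) lies in `T^x`;
* `IsPre.sw`: if the squares of the elements of `T` lie in the subgroup `A0` and `T ≰ A0`, then `T ⊓ T^x ≰ A0`.
-/

set_option autoImplicit false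

namespace Cfsg.Agent.H807.EP

open Subgroup Cfsg.Agent.H284 Cfsg.Agent.H419.EP
open scoped MatrixGroups

section

variable {Q : Type*} [Group Q] {A : Subgroup Q} {Γ : Subgroup (MulAut Q)}

/-- `T ≤ S` is the preimage of `A` under a surjection from `S` onto `Q`. -/
def IsPre {G : Type*} [Group G] (S T : Subgroup G) (A : Subgroup Q) : Prop :=
  ∃ π : S →* Q, Function.Surjective π ∧ T ≤ S ∧ ∀ s : S, (s : G) ∈ T ↔ π s ∈ A

theorem isPre_hat {F : Type*} [Field F] {ι : Type} [Fintype ι] [DecidableEq ι] {S : Subgroup (GL ι F)}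
    (m : Model Q S) (A : Subgroup Q) : IsPre S (m.hat A) A :=
  ⟨m.π, m.surj, m.hat_le A, fun s => m.mem_hat_iff s⟩

theorem IsPre.map {G G' : Type*} [Group G] [Group G'] {S T : Subgroup G} (p : IsPre S T A) (e : G ≃* G') :
    IsPre (S.map e.toMonoidHom) (T.map e.toMonoidHom) A := by
  obtain ⟨π, h1, h2, h3⟩ := p
  let f : S ≃* S.map e.toMonoidHom := S.equivMapOfInjective e.toMonoidHom e.injective
  refine ⟨π.comp f.symm.toMonoidHom, ?_, Subgroup.map_mono h2, ?_⟩
  · exact h1.comp f.symm.surjective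
  · intro s
    obtain ⟨s, rfl⟩ := f.surjective s
    have e1 : (π.comp f.symm.toMonoidHom) (f s) = π s := by
      show π (f.symm (f s)) = π s
      rw [MulEquiv.symm_apply_apply]
    rw [e1, ← h3 s]
    exact Subgroup.mem_map_iff_mem e.injective

variable {G : Type*} [Group G] {S T : Subgroup G} (h : EPT A Γ) (p : IsPre S T A)

include h p

/-- **(NM)** -/
theorem IsPre.nm {x t : G} (hxS : x ∈ S) (hx : x ∉ T) (ht : t ∈ T)
    (hn : ∀ k ∈ T, x⁻¹ * k * x ∈ T → x⁻¹ * (t * k * t⁻¹) * x ∈ T) : x⁻¹ * t * x ∈ T := by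
  obtain ⟨π, h1, h2, h3⟩ := p
  have hX : π ⟨x, hxS⟩ ∉ A := fun e => hx ((h3 ⟨x, hxS⟩).2 e)
  have htS := h2 ht
  have hcj : ∀ s : S, π s ∈ cj (π ⟨x, hxS⟩) A ↔ x⁻¹ * s * x ∈ T := by
    intro s
    rw [mem_cj, ← map_inv, ← map_mul, ← map_mul, ← h3]
    rfl
  have key := h.norm_aut hX (K := A ⊓ cj (π ⟨x, hxS⟩) A) le_rfl (fun σ hσ k hk => hσ k hk) (h.M0 _ hX)
    (a := π ⟨t, htS⟩) ((h3 ⟨t, htS⟩).1 ht) ?_
  · exact (hcj ⟨t, htS⟩).1 key
  · rintro k ⟨hk1, hk2⟩
    obtain ⟨s, rfl⟩ := h1 k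
    have hs1 := (h3 s).2 hk1
    have hs2 := (hcj s).1 hk2
    refine ⟨A.mul_mem (A.mul_mem ((h3 ⟨t, htS⟩).1 ht) hk1) (A.inv_mem ((h3 ⟨t, htS⟩).1 ht)), ?_⟩
    show π ⟨t, htS⟩ * π s * (π ⟨t, htS⟩)⁻¹ ∈ cj (π ⟨x, hxS⟩) A
    rw [← map_inv, ← map_mul, ← map_mul, hcj]
    exact hn s hs1 hs2

/-- **(SW)** -/
theorem IsPre.sw {A0 : Subgroup G} (h0 : ∀ a ∈ T, a * a ∈ A0) {x : G} (hxS : x ∈ S) (hx : x ∉ T)
    (hle : ∀ k ∈ T, x⁻¹ * k * x ∈ T → k ∈ A0) : T ≤ A0 := by
  obtain ⟨π, h1, h2, h3⟩ := p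
  have hX : π ⟨x, hxS⟩ ∉ A := fun e => hx ((h3 ⟨x, hxS⟩).2 e)
  have hcj : ∀ s : S, π s ∈ cj (π ⟨x, hxS⟩) A ↔ x⁻¹ * s * x ∈ T := by
    intro s
    rw [mem_cj, ← map_inv, ← map_mul, ← map_mul, ← h3]
    rfl
  set K : Subgroup Q := Subgroup.closure {b | ∃ a ∈ A, b = a * a} with hK
  have hKA : K ≤ A := by
    rw [hK, Subgroup.closure_le]
    rintro _ ⟨a, ha, rfl⟩
    exact A.mul_mem ha ha
  have hKn : ∀ σ ∈ Γ, ∀ k ∈ K, σ k ∈ K := by
    intro σ hσ k hk
    have h4 : K ≤ K.comap (σ : Q ≃* Q).toMonoidHom := by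
      conv_lhs => rw [hK]
      rw [Subgroup.closure_le]
      rintro _ ⟨a, ha, rfl⟩
      refine Subgroup.subset_closure ⟨σ a, (h.inv σ hσ a).2 ha, ?_⟩
      exact map_mul σ a a
    exact h4 hk
  have hKne : K ≠ ⊥ := by
    intro e
    have h4 : ∀ a ∈ A, a * a = 1 := by
      intro a ha
      have h5 : a * a ∈ K := Subgroup.subset_closure ⟨a, ha, rfl⟩
      rwa [e, mem_bot] at h5
    have hcomm : ∀ a ∈ A, ∀ b ∈ A, a * b = b * a := by
      intro a ha b hb
      have e1 := h4 (a * b) (A.mul_mem ha hb)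
      have ea : a⁻¹ = a := inv_eq_of_mul_eq_one_left (h4 a ha)
      have eb : b⁻¹ = b := inv_eq_of_mul_eq_one_left (h4 b hb)
      have e2 : (a * b)⁻¹ = a * b := inv_eq_of_mul_eq_one_left e1
      rw [mul_inv_rev, ea, eb] at e2
      exact e2.symm
    have hnil : Group.IsNilpotent A := by
      exact @CommGroup.isNilpotent A
        { (inferInstance : Group A) with mul_comm := fun a b => Subtype.ext (hcomm a a.2 b b.2) }
    have h5 := (h.nilp A le_rfl (fun σ hσ k hk => (h.inv σ hσ k).2 hk) hnil h.ne).2.2.2.1 _ hX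
    exact h.M0 _ hX h5.1
  -- the squares of the elements of `T` generate a subgroup of `A0` mapping onto `K`
  have hlift : ∀ k ∈ K, ∃ s : S, (s : G) ∈ A0 ∧ (s : G) ∈ T ∧ π s = k := by
    have h4 : K ≤ ((A0 ⊓ T).subgroupOf S).map π := by
      rw [hK, Subgroup.closure_le]
      rintro _ ⟨a, ha, rfl⟩
      obtain ⟨s, rfl⟩ := h1 a
      have hs := (h3 s).2 ha
      exact ⟨s * s, mem_inf.2 ⟨h0 s hs, T.mul_mem hs hs⟩, map_mul π s s⟩
    intro k hk
    obtain ⟨s, hs, e⟩ := h4 hk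
    exact ⟨s, (mem_inf.1 hs).1, (mem_inf.1 hs).2, e⟩
  intro t ht
  have htS := h2 ht
  obtain ⟨k, hk, m, hm, e⟩ := h.fac_A hKA hKn hKne hX (a := π ⟨t, htS⟩) ((h3 ⟨t, htS⟩).1 ht)
  obtain ⟨s, hs0, hsT, rfl⟩ := hlift k hk
  have em : π (s⁻¹ * ⟨t, htS⟩) = m := by
    rw [map_mul, map_inv, e, inv_mul_cancel_left]
  have hmT : ((s⁻¹ * ⟨t, htS⟩ : S) : G) ∈ T := by
    rw [h3, em]
    exact (mem_inf.1 hm).1
  have hmx := (mem_inf.1 hm).2
  rw [← em, hcj] at hmx
  have h5 := hle _ hmT hmx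
  have e6 : t = s * ((s⁻¹ * ⟨t, htS⟩ : S) : G) := by
    push_cast
    rw [mul_inv_cancel_left]
  rw [e6]
  exact A0.mul_mem hs0 h5

end

end Cfsg.Agent.H807.EP
end

-- part: H807/EP/OmPair
section
/-!
# S3499, orthogonal groups: pairs of complementary subspaces (helper807)

`V = W ⊥ W'` with hyperbolic pairs `e₁, f₁ ∈ W`, `e₂, f₂ ∈ W'` (any field).

* `kill_nondeg`: `T = Stab(W) ∩ Ω` is no point stabiliser of an extremely primitive group. With
  `x = E(e₁, e₂) E(f₁, f₂)` the group `T ∩ T^x` centralises `E(e₁, e₂)` and `E(f₁, f₂)`, and these two are interchanged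
  by the element `t` of `T` with `e₁ ↔ -f₁`, `e₂ ↔ -f₂`, which does not lie in `T^x`;
* `kill_swap`: the same if `T = Stab({W, W'}) ∩ Ω` contains elements interchanging `W` and `W'`: with `x = E(s, w)`,
  `s ∈ W` singular, `w ∈ W'` nonsingular, no element of `T ∩ T^x` interchanges `W` and `W'`;
* `kill_ts`: the same for `W`, `W'` totally singular, `x = E(s, s')`, `s, s' ∈ W`.
-/

set_option autoImplicit false
set_option linter.unusedSectionVars false

namespace Cfsg.Agent.H807.EP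

open Subgroup Cfsg.Agent.H284 Cfsg.Agent.H419.EP QuadraticMap
open Cfsg.Agent.LieClassical.OrthCore Cfsg.Agent.LieClassical.OrthTrans Cfsg.Agent.LieClassical.OrthFinite
open Cfsg.Agent.H883.Bridge

theorem conj_comm {G : Type*} [Group G] {t g y z : G} (h1 : t * z = y * t) (h2 : g * z = z * g) :
    (t * g * t⁻¹) * y = y * (t * g * t⁻¹) := by
  have e : y = t * z * t⁻¹ := by rw [h1, mul_assoc, mul_inv_cancel, mul_one]
  rw [e]
  calc t * g * t⁻¹ * (t * z * t⁻¹) = t * (g * z) * t⁻¹ := by group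
    _ = t * (z * g) * t⁻¹ := by rw [h2]
    _ = t * z * t⁻¹ * (t * g * t⁻¹) := by group

theorem comm_prod {G : Type*} [Group G] {k y z : G} (h1 : k * y = y * k) (h2 : k * z = z * k) :
    (y * z)⁻¹ * k * (y * z) = k := by
  rw [mul_assoc, ← mul_assoc k, h1, mul_assoc y, h2, ← mul_assoc y, inv_mul_cancel_left]

section Geometry

variable {F V : Type*} [Field F] [AddCommGroup V] [Module F V] {Q : QuadraticForm F V} {W W' : Submodule F V}

theorem conj_app (x g : V ≃ₗ[F] V) (v : V) : x ((x⁻¹ * g * x) v) = g (x v) :=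
  LinearEquiv.apply_symm_apply x (g (x v))

/-- `V = W ⊥ W'` -/
structure Perp (Q : QuadraticForm F V) (W W' : Submodule F V) : Prop where
  perp : ∀ w ∈ W, ∀ w' ∈ W', polar Q w w' = 0
  disj : ∀ v ∈ W, v ∈ W' → v = 0
  sup : ∀ v : V, ∃ w ∈ W, ∃ w' ∈ W', v = w + w'

theorem Perp.symm (hP : Perp Q W W') : Perp Q W' W where
  perp := fun w hw w' hw' => by rw [polar_comm]; exact hP.perp w' hw' w hw
  disj := fun v hv hv' => hP.disj v hv' hv
  sup := fun v => by
    obtain ⟨w, hw, w', hw', e⟩ := hP.sup v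
    exact ⟨w', hw', w, hw, by rw [e, add_comm]⟩

theorem uniq (hd : ∀ v ∈ W, v ∈ W' → v = 0) {w u w' u' : V} (hw : w ∈ W) (hu : u ∈ W) (hw' : w' ∈ W') (hu' : u' ∈ W')
    (e : w + w' = u + u') : w = u ∧ w' = u' := by
  have e1 : w - u = u' - w' := by rw [sub_eq_sub_iff_add_eq_add, e, add_comm]
  have h1 : w - u = 0 := hd _ (W.sub_mem hw hu) (by rw [e1]; exact W'.sub_mem hu' hw')
  refine ⟨sub_eq_zero.1 h1, ?_⟩
  rw [h1] at e1
  exact (sub_eq_zero.1 e1.symm).symm

/-- a vector of `W` orthogonal to `W` is zero -/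
theorem Perp.zero (hQ : Nondeg Q) (hP : Perp Q W W') {u : V} (hu : u ∈ W) (h : ∀ w ∈ W, polar Q u w = 0) : u = 0 := by
  apply hQ
  intro y
  obtain ⟨w, hw, w', hw', rfl⟩ := hP.sup y
  rw [polar_add_right, h w hw, hP.perp u hu w' hw', add_zero]

theorem Perp.stab (hQ : Nondeg Q) (hP : Perp Q W W') {g : V ≃ₗ[F] V} (hg : g ∈ O Q) (hs : g ∈ stab W) :
    g ∈ stab W' := by
  have key : ∀ g : V ≃ₗ[F] V, g ∈ O Q → g ∈ Cfsg.Agent.H883.Bridge.stab W → ∀ w' ∈ W', g w' ∈ W' := by
    intro g hg hs w' hw'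
    obtain ⟨u, hu, u', hu', e⟩ := hP.sup (g w')
    have h0 : u = 0 := by
      apply hP.zero hQ hu
      intro w hw
      have h1 : g (g⁻¹ w) = w := LinearEquiv.apply_symm_apply g w
      have h2 : g⁻¹ w ∈ W := (hs _).2 (by rw [h1]; exact hw)
      have h3 : polar Q (g w') w = 0 := by
        rw [← h1, polar_map hg, polar_comm]
        exact hP.perp _ h2 w' hw'
      rw [e, polar_add_left, polar_comm Q u' w, hP.perp w hw u' hu', add_zero] at h3
      exact h3
    rw [e, h0, zero_add]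
    exact hu'
  intro v
  refine ⟨key g hg hs v, fun hv => ?_⟩
  have h1 := key g⁻¹ ((O Q).inv_mem hg) (Subgroup.inv_mem _ hs) _ hv
  have h2 : g⁻¹ (g v) = v := LinearEquiv.symm_apply_apply g v
  rwa [h2] at h1

end Geometry

section Nondeg

variable {F V : Type*} [Field F] [AddCommGroup V] [Module F V] {Q : QuadraticForm F V} {W W' : Submodule F V}
  {e₁ f₁ e₂ f₂ : V}

/-- hyperbolic pairs `e₁, f₁ ∈ W` and `e₂, f₂ ∈ W'`, `W ⊥ W'` -/
structure Frm (Q : QuadraticForm F V) (W W' : Submodule F V) (e₁ f₁ e₂ f₂ : V) : Prop extends Perp Q W W' where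
  h1 : Hyp Q e₁ f₁
  h2 : Hyp Q e₂ f₂
  e1 : e₁ ∈ W
  f1 : f₁ ∈ W
  e2 : e₂ ∈ W'
  f2 : f₂ ∈ W'

namespace Frm

variable (h : Frm Q W W' e₁ f₁ e₂ f₂)

include h

theorem e1e2 : polar Q e₁ e₂ = 0 := h.perp _ h.e1 _ h.e2
theorem e1f2 : polar Q e₁ f₂ = 0 := h.perp _ h.e1 _ h.f2
theorem f1e2 : polar Q f₁ e₂ = 0 := h.perp _ h.f1 _ h.e2
theorem f1f2 : polar Q f₁ f₂ = 0 := h.perp _ h.f1 _ h.f2
theorem e2e1 : polar Q e₂ e₁ = 0 := polar_zero_of_comm h.e1e2
theorem f2e1 : polar Q f₂ e₁ = 0 := polar_zero_of_comm h.e1f2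
theorem e2f1 : polar Q e₂ f₁ = 0 := polar_zero_of_comm h.f1e2
theorem f2f1 : polar Q f₂ f₁ = 0 := polar_zero_of_comm h.f1f2

/-- `E(e₁, e₂)` -/
noncomputable def y₁ : V ≃ₗ[F] V := siegel Q e₁ e₂ h.h1.left h.e1e2
/-- `E(f₁, f₂)` -/
noncomputable def y₂ : V ≃ₗ[F] V := siegel Q f₁ f₂ h.h1.right h.f1f2
/-- `E(f₁, e₂)` -/
noncomputable def z₁ : V ≃ₗ[F] V := siegel Q f₁ e₂ h.h1.right h.f1e2
/-- `E(e₁, f₂)` -/
noncomputable def z₂ : V ≃ₗ[F] V := siegel Q e₁ f₂ h.h1.left h.e1f2

theorem y₁_apply (v : V) : h.y₁ v = v + polar Q e₁ v • e₂ - polar Q e₂ v • e₁ := by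
  rw [y₁, siegel_apply, h.h2.left, zero_mul, zero_smul, sub_zero]

theorem y₂_apply (v : V) : h.y₂ v = v + polar Q f₁ v • f₂ - polar Q f₂ v • f₁ := by
  rw [y₂, siegel_apply, h.h2.right, zero_mul, zero_smul, sub_zero]

theorem z₁_apply (v : V) : h.z₁ v = v + polar Q f₁ v • e₂ - polar Q e₂ v • f₁ := by
  rw [z₁, siegel_apply, h.h2.left, zero_mul, zero_smul, sub_zero]

theorem z₂_apply (v : V) : h.z₂ v = v + polar Q e₁ v • f₂ - polar Q f₂ v • e₁ := by
  rw [z₂, siegel_apply, h.h2.right, zero_mul, zero_smul, sub_zero]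

/-- the element `x` -/
noncomputable def x : V ≃ₗ[F] V := h.y₁ * h.y₂

/-- the element `t` -/
noncomputable def t : V ≃ₗ[F] V := h.y₁ * (h.y₂ * (h.y₁ * (h.z₁ * (h.z₂ * h.z₁))))

theorem x_mem : h.x ∈ E Q := E_mul (siegel_mem_E _ _) (siegel_mem_E _ _)

theorem t_mem : h.t ∈ E Q :=
  E_mul (siegel_mem_E _ _) (E_mul (siegel_mem_E _ _) (E_mul (siegel_mem_E _ _) (E_mul (siegel_mem_E _ _)
    (E_mul (siegel_mem_E _ _) (siegel_mem_E _ _)))))

theorem x_apply (v : V) : h.x v = v + polar Q f₁ v • f₂ - polar Q f₂ v • f₁ + (polar Q e₁ v - polar Q f₂ v) • e₂ -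
    (polar Q e₂ v + polar Q f₁ v) • e₁ := by
  show h.y₁ (h.y₂ v) = _
  rw [h.y₁_apply, h.y₂_apply]
  simp only [polar_add_right, polar_sub_right, polar_smul_right, h.h1.pair, h.e1f2, h.h2.pair, h.e2f1, smul_eq_mul]
  module

theorem t_apply (v : V) : h.t v = v - polar Q f₁ v • (e₁ + f₁) - polar Q e₁ v • (e₁ + f₁) - polar Q f₂ v • (e₂ + f₂)
    - polar Q e₂ v • (e₂ + f₂) := by
  show h.y₁ (h.y₂ (h.y₁ (h.z₁ (h.z₂ (h.z₁ v))))) = _
  simp only [h.y₁_apply, h.y₂_apply, h.z₁_apply, h.z₂_apply]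
  simp only [polar_add_right, polar_sub_right, polar_smul_right, h.h1.pair, h.h1.pair', h.h2.pair, h.h2.pair',
    h.h1.polar_left, h.h1.polar_right, h.h2.polar_left, h.h2.polar_right, h.e1e2, h.e1f2, h.f1e2, h.f1f2,
    h.e2e1, h.e2f1, h.f2e1, h.f2f1, smul_eq_mul]
  module

theorem x_W {u : V} (hu : u ∈ W) : h.x u = (u - polar Q f₁ u • e₁) + (polar Q f₁ u • f₂ + polar Q e₁ u • e₂) := by
  rw [h.x_apply, polar_zero_of_comm (h.perp u hu _ h.e2), polar_zero_of_comm (h.perp u hu _ h.f2)]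
  module

theorem x_W' {u : V} (hu : u ∈ W') :
    h.x u = (-(polar Q f₂ u • f₁) - polar Q e₂ u • e₁) + (u - polar Q f₂ u • e₂) := by
  rw [h.x_apply, h.perp _ h.e1 u hu, h.perp _ h.f1 u hu]
  module

theorem x_W_mem {u : V} (hu : u ∈ W) : u - polar Q f₁ u • e₁ ∈ W ∧ polar Q f₁ u • f₂ + polar Q e₁ u • e₂ ∈ W' :=
  ⟨W.sub_mem hu (W.smul_mem _ h.e1), W'.add_mem (W'.smul_mem _ h.f2) (W'.smul_mem _ h.e2)⟩

theorem x_W'_mem {u : V} (hu : u ∈ W') :
    -(polar Q f₂ u • f₁) - polar Q e₂ u • e₁ ∈ W ∧ u - polar Q f₂ u • e₂ ∈ W' :=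
  ⟨W.sub_mem (W.neg_mem (W.smul_mem _ h.f1)) (W.smul_mem _ h.e1), W'.sub_mem hu (W'.smul_mem _ h.e2)⟩

theorem x_e1 : h.x e₁ = f₂ := by
  rw [h.x_apply, h.h1.pair', h.f2e1, h.h1.polar_left, h.e2e1]
  module

theorem x_f1 : h.x f₁ = f₁ + e₂ := by
  rw [h.x_apply, h.h1.polar_right, h.f2f1, h.h1.pair, h.e2f1]
  module

theorem x_e2 : h.x e₂ = -f₁ := by
  rw [h.x_apply, h.f1e2, h.h2.pair', h.e1e2, h.h2.polar_left]
  module

theorem x_f2 : h.x f₂ = -e₁ + f₂ := by
  rw [h.x_apply, h.f1f2, h.h2.polar_right, h.e1f2, h.h2.pair]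
  module

/-- the elements of `T ⊓ T^x` -/
theorem M0 {g k : V ≃ₗ[F] V} (hg : g ∈ O Q) (hs : g ∈ stab W) (hs' : g ∈ stab W') (hk : k ∈ stab W)
    (hk' : k ∈ stab W') (e : ∀ v, h.x (k v) = g (h.x v)) :
    ∃ μ ν : F, μ * ν = 1 ∧ g e₁ = ν • e₁ ∧ g f₁ = μ • f₁ ∧ g e₂ = μ • e₂ ∧ g f₂ = ν • f₂ := by
  have hge1 : g e₁ ∈ W := (hs _).1 h.e1
  have hgf1 : g f₁ ∈ W := (hs _).1 h.f1
  have hge2 : g e₂ ∈ W' := (hs' _).1 h.e2
  have hgf2 : g f₂ ∈ W' := (hs' _).1 h.f2
  -- `g f₂ = ν f₂`
  obtain ⟨ν, hν⟩ : ∃ ν : F, g f₂ = ν • f₂ := by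
    have hu : k e₁ ∈ W := (hk _).1 h.e1
    have e1 := e e₁
    rw [h.x_e1, h.x_W hu] at e1
    have e2 : k e₁ - polar Q f₁ (k e₁) • e₁ + (polar Q f₁ (k e₁) • f₂ + polar Q e₁ (k e₁) • e₂) = 0 + g f₂ := by
      rw [e1, zero_add]
    obtain ⟨e3, e4⟩ := uniq h.disj (h.x_W_mem hu).1 W.zero_mem (h.x_W_mem hu).2 hgf2 e2
    have e5 : polar Q e₁ (k e₁) = 0 := by
      rw [sub_eq_zero.1 e3, polar_smul_right, h.h1.polar_left, smul_zero]
    rw [e5, zero_smul, add_zero] at e4
    exact ⟨_, e4.symm⟩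
  -- `g f₁ = μ f₁`
  obtain ⟨μ, hμ⟩ : ∃ μ : F, g f₁ = μ • f₁ := by
    have hu : k e₂ ∈ W' := (hk' _).1 h.e2
    have e1 := e e₂
    rw [h.x_e2, h.x_W' hu, map_neg] at e1
    have e2 : -(polar Q f₂ (k e₂) • f₁) - polar Q e₂ (k e₂) • e₁ + (k e₂ - polar Q f₂ (k e₂) • e₂) = -g f₁ + 0 := by
      rw [e1, add_zero]
    obtain ⟨e3, e4⟩ := uniq h.disj (h.x_W'_mem hu).1 (W.neg_mem hgf1) (h.x_W'_mem hu).2 W'.zero_mem e2
    have e5 : polar Q e₂ (k e₂) = 0 := by
      rw [sub_eq_zero.1 e4, polar_smul_right, h.h2.polar_left, smul_zero]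
    rw [e5, zero_smul, sub_zero, neg_inj] at e3
    exact ⟨_, e3.symm⟩
  -- `g e₂ = μ e₂`
  have h3 : μ * ν = 1 ∧ g e₂ = μ • e₂ := by
    have hu : k f₁ ∈ W := (hk _).1 h.f1
    have e1 := e f₁
    rw [h.x_f1, h.x_W hu, map_add] at e1
    obtain ⟨e3, e4⟩ := uniq h.disj (h.x_W_mem hu).1 hgf1 (h.x_W_mem hu).2 hge2 e1
    set a := polar Q e₁ (k f₁) with ha
    set b := polar Q f₁ (k f₁) with hb
    have e5 : a * ν = 1 := by
      have h4 := polar_map hg e₂ f₂
      rw [← e4, hν, polar_smul_right, polar_add_left, polar_smul_left, polar_smul_left, h.h2.polar_right, h.h2.pair] at h4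
      simpa only [mul_comm, _root_.smul_eq_mul, _root_.MulZeroClass.zero_mul, _root_.one_mul, _root_.zero_add] using h4
    have e6 : b = 0 := by
      have h4 : Q (g e₂) = 0 := by rw [mem_O.1 hg, h.h2.left]
      rw [← e4, Q_add, QuadraticMap.map_smul, QuadraticMap.map_smul, h.h2.left, h.h2.right, polar_smul_left,
        polar_smul_right, h.h2.pair'] at h4
      have h5 : b * a = 0 := by simpa using h4
      rcases mul_eq_zero.1 h5 with h6 | h6
      · exact h6
      · rw [h6, zero_mul] at e5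
        exact absurd e5 zero_ne_one
    rw [e6, zero_smul, zero_add] at e4
    rw [e6, zero_smul, sub_zero] at e3
    have e7 : a = μ := by
      rw [ha, e3, hμ, polar_smul_right, h.h1.pair, smul_eq_mul, mul_one]
    rw [e7] at e5 e4
    exact ⟨e5, e4.symm⟩
  refine ⟨μ, ν, h3.1, ?_, hμ, h3.2, hν⟩
  -- `g e₁ = ν e₁`
  have hu : k f₂ ∈ W' := (hk' _).1 h.f2
  have e1 := e f₂
  rw [h.x_f2, h.x_W' hu, map_add, map_neg] at e1
  obtain ⟨e3, -⟩ := uniq h.disj (h.x_W'_mem hu).1 (W.neg_mem hge1) (h.x_W'_mem hu).2 hgf2 e1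
  set c := polar Q e₂ (k f₂) with hc
  set d := polar Q f₂ (k f₂) with hd
  have e4 : g e₁ = d • f₁ + c • e₁ := by
    rw [← neg_inj, ← e3]
    module
  have e5 : c * μ = 1 := by
    have h4 := polar_map hg e₁ f₁
    rw [e4, hμ, polar_smul_right, polar_add_left, polar_smul_left, polar_smul_left, h.h1.polar_right, h.h1.pair] at h4
    simpa only [mul_comm, _root_.smul_eq_mul, _root_.MulZeroClass.zero_mul, _root_.one_mul, _root_.zero_add] using h4
  have e6 : d = 0 := by
    have h4 : Q (g e₁) = 0 := by rw [mem_O.1 hg, h.h1.left]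
    rw [e4, Q_add, QuadraticMap.map_smul, QuadraticMap.map_smul, h.h1.left, h.h1.right, polar_smul_left,
      polar_smul_right, h.h1.pair'] at h4
    have h5 : d * c = 0 := by simpa using h4
    rcases mul_eq_zero.1 h5 with h6 | h6
    · exact h6
    · rw [h6, zero_mul] at e5
      exact absurd e5 zero_ne_one
  have e7 : c = ν := by
    have h4 : c * (μ * ν) = ν := by rw [← mul_assoc, e5, one_mul]
    rwa [h3.1, mul_one] at h4
  rw [e4, e6, zero_smul, zero_add, e7]

/-- they commute with `E(e₁, e₂)` and `E(f₁, f₂)` -/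
theorem comm_y {g : V ≃ₗ[F] V} (hg : g ∈ O Q) {μ ν : F} (hμν : μ * ν = 1) (h1 : g e₁ = ν • e₁) (h2 : g f₁ = μ • f₁)
    (h3 : g e₂ = μ • e₂) (h4 : g f₂ = ν • f₂) : g * h.y₁ = h.y₁ * g ∧ g * h.y₂ = h.y₂ * g := by
  have p1 : ∀ v, polar Q e₁ (g v) = μ * polar Q e₁ v := by
    intro v
    rw [← polar_map hg e₁ v, h1, polar_smul_left, smul_eq_mul, ← mul_assoc, hμν, one_mul]
  have p2 : ∀ v, polar Q f₁ (g v) = ν * polar Q f₁ v := by
    intro v
    rw [← polar_map hg f₁ v, h2, polar_smul_left, smul_eq_mul, ← mul_assoc, mul_comm ν, hμν, one_mul]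
  have p3 : ∀ v, polar Q e₂ (g v) = ν * polar Q e₂ v := by
    intro v
    rw [← polar_map hg e₂ v, h3, polar_smul_left, smul_eq_mul, ← mul_assoc, mul_comm ν, hμν, one_mul]
  have p4 : ∀ v, polar Q f₂ (g v) = μ * polar Q f₂ v := by
    intro v
    rw [← polar_map hg f₂ v, h4, polar_smul_left, smul_eq_mul, ← mul_assoc, hμν, one_mul]
  constructor
  · ext v
    show g (h.y₁ v) = h.y₁ (g v)
    rw [h.y₁_apply, h.y₁_apply, map_sub, map_add, map_smul, map_smul, h1, h3, p1, p3]
    module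
  · ext v
    show g (h.y₂ v) = h.y₂ (g v)
    rw [h.y₂_apply, h.y₂_apply, map_sub, map_add, map_smul, map_smul, h2, h4, p2, p4]
    module

theorem t_y : h.t * h.y₁ = h.y₂ * h.t ∧ h.t * h.y₂ = h.y₁ * h.t := by
  constructor
  · ext v
    show h.t (h.y₁ v) = h.y₂ (h.t v)
    simp only [h.t_apply, h.y₁_apply, h.y₂_apply]
    simp only [polar_add_right, polar_sub_right, polar_smul_right, h.h1.pair, h.h1.pair', h.h2.pair, h.h2.pair',
      h.h1.polar_left, h.h1.polar_right, h.h2.polar_left, h.h2.polar_right, h.e1e2, h.e1f2, h.f1e2, h.f1f2,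
      h.e2e1, h.e2f1, h.f2e1, h.f2f1, smul_eq_mul]
    module
  · ext v
    show h.t (h.y₂ v) = h.y₁ (h.t v)
    simp only [h.t_apply, h.y₁_apply, h.y₂_apply]
    simp only [polar_add_right, polar_sub_right, polar_smul_right, h.h1.pair, h.h1.pair', h.h2.pair, h.h2.pair',
      h.h1.polar_left, h.h1.polar_right, h.h2.polar_left, h.h2.polar_right, h.e1e2, h.e1f2, h.f1e2, h.f1f2,
      h.e2e1, h.e2f1, h.f2e1, h.f2f1, smul_eq_mul]
    module

end Frm

/-- **the stabiliser of a nondegenerate subspace** -/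
theorem kill_nondeg [FiniteDimensional F V] {P : Type*} [Group P] {A : Subgroup P} {Γ : Subgroup (MulAut P)}
    (hE : EPT A Γ) (hQ : Nondeg Q) {T : Subgroup (V ≃ₗ[F] V)} (p : IsPre (E Q) T A)
    (hT : T = Cfsg.Agent.H883.Bridge.stab W ⊓ E Q) (h : Frm Q W W' e₁ f₁ e₂ f₂) : False := by
  have hTW : ∀ g ∈ T, g ∈ O Q ∧ g ∈ Cfsg.Agent.H883.Bridge.stab W ∧ g ∈ Cfsg.Agent.H883.Bridge.stab W' := by
    intro g hg
    rw [hT] at hg
    have h1 := E_le_O (mem_inf.1 hg).2
    exact ⟨h1, (mem_inf.1 hg).1, h.toPerp.stab hQ h1 (mem_inf.1 hg).1⟩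
  have hx : h.x ∉ T := by
    intro hx
    have h1 := ((hTW _ hx).2.1 e₁).1 h.e1
    rw [h.x_e1] at h1
    exact h.h2.right_ne (h.disj _ h1 h.f2)
  have ht : h.t ∈ T := by
    rw [hT]
    refine ⟨mem_stab_of_le fun w hw => ?_, h.t_mem⟩
    rw [h.t_apply, polar_zero_of_comm (h.perp w hw _ h.e2), polar_zero_of_comm (h.perp w hw _ h.f2), zero_smul,
      sub_zero, sub_zero]
    exact W.sub_mem (W.sub_mem hw (W.smul_mem _ (W.add_mem h.e1 h.f1))) (W.smul_mem _ (W.add_mem h.e1 h.f1))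
  have hn : ∀ k ∈ T, h.x⁻¹ * k * h.x ∈ T → h.x⁻¹ * (h.t * k * h.t⁻¹) * h.x ∈ T := by
    intro g hg hgx
    obtain ⟨g1, g2, g3⟩ := hTW g hg
    obtain ⟨k1, k2, k3⟩ := hTW _ hgx
    obtain ⟨μ, ν, h1, h2, h3, h4, h5⟩ := h.M0 g1 g2 g3 k2 k3 (conj_app h.x g)
    obtain ⟨c1, c2⟩ := h.comm_y g1 h1 h2 h3 h4 h5
    obtain ⟨t1, t2⟩ := h.t_y
    have c3 := conj_comm t2 c2
    have c4 := conj_comm t1 c1
    have c5 : h.x⁻¹ * (h.t * g * h.t⁻¹) * h.x = h.t * g * h.t⁻¹ := comm_prod c3 c4
    have c6 : h.t * g * h.t⁻¹ ∈ T := T.mul_mem (T.mul_mem ht hg) (T.inv_mem ht)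
    exact (congrArg (fun z => z ∈ T) c5).mpr c6
  have key := p.nm hE h.x_mem hx ht hn
  have h1 := ((hTW _ key).2.1 e₁).1 h.e1
  have h2 : h.x ((h.x⁻¹ * h.t * h.x) e₁) = 0 + -e₂ := by
    rw [conj_app h.x h.t, h.x_e1, h.t_apply, h.f1f2, h.e1f2, h.h2.polar_right, h.h2.pair]
    module
  set w := (h.x⁻¹ * h.t * h.x) e₁ with hw
  rw [h.x_W h1] at h2
  obtain ⟨e3, e4⟩ := uniq h.disj (h.x_W_mem h1).1 W.zero_mem (h.x_W_mem h1).2 (W'.neg_mem h.e2) h2
  have e5 : polar Q e₁ w = 0 := by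
    rw [sub_eq_zero.1 e3, polar_smul_right, h.h1.polar_left, smul_zero]
  have e6 := congrArg (polar Q f₂) e4
  rw [e5, zero_smul, add_zero, polar_smul_right, h.h2.polar_right, polar_neg_right, h.h2.pair', smul_zero] at e6
  exact one_ne_zero (neg_eq_zero.1 e6.symm)

end Nondeg

section Swap

variable {F V : Type*} [Field F] [AddCommGroup V] [Module F V] {Q : QuadraticForm F V} {W W' : Submodule F V}

/-- `g` maps `W` onto `W` and `W'` onto `W'` -/
def Fixes (W W' : Submodule F V) (g : V ≃ₗ[F] V) : Prop := (∀ v, v ∈ W ↔ g v ∈ W) ∧ ∀ v, v ∈ W' ↔ g v ∈ W'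

/-- `g` interchanges `W` and `W'` -/
def Swaps (W W' : Submodule F V) (g : V ≃ₗ[F] V) : Prop := (∀ v, v ∈ W ↔ g v ∈ W') ∧ ∀ v, v ∈ W' ↔ g v ∈ W

theorem sq_mem {g : V ≃ₗ[F] V} (h : Fixes W W' g ∨ Swaps W W' g) : g * g ∈ Cfsg.Agent.H883.Bridge.stab W := by
  intro v
  show v ∈ W ↔ g (g v) ∈ W
  rcases h with h | h
  · rw [h.1, h.1]
  · rw [h.1, h.2]

theorem not_fs_nondeg (hP : Perp Q W W') {s s' w : V} (hs : s ∈ W) (hs' : s' ∈ W) (hss : polar Q s s' ≠ 0)
    (hs0 : Q s = 0) (hw : w ∈ W') (hwne : w ≠ 0) (hsw : polar Q s w = 0) :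
    ¬ (Fixes W W' (siegel Q s w hs0 hsw) ∨ Swaps W W' (siegel Q s w hs0 hsw)) := by
  rintro (h1 | h1)
  · have h2 := (h1.1 s').1 hs'
    have h3 : siegel Q s w hs0 hsw s' = (s' - (Q w * polar Q s s') • s) + polar Q s s' • w := by
      rw [siegel_apply, polar_zero_of_comm (hP.perp s' hs' w hw)]
      module
    rw [h3] at h2
    have h4 : polar Q s s' • w ∈ W := (W.add_mem_iff_right (W.sub_mem hs' (W.smul_mem _ hs))).1 h2
    rcases smul_eq_zero.1 (hP.disj _ h4 (W'.smul_mem _ hw)) with h5 | h5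
    · exact hss h5
    · exact hwne h5
  · have h2 := (h1.1 s).1 hs
    have h3 : siegel Q s w hs0 hsw s = s := by
      rw [siegel_apply, polar_self_of_sing hs0, polar_zero_of_comm hsw]
      module
    rw [h3] at h2
    apply hss
    rw [hP.disj s hs h2, polar_zero_left]

theorem not_fs_ts (hd : ∀ v ∈ W, v ∈ W' → v = 0) (hW : ∀ v ∈ W, Q v = 0) {s s' v₀ : V} (hs : s ∈ W) (hs' : s' ∈ W)
    (hv₀ : v₀ ∈ W') (hne : polar Q s v₀ • s' - polar Q s' v₀ • s ≠ 0) (hss : polar Q s s' = 0) :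
    ¬ (Fixes W W' (siegel Q s s' (hW s hs) hss) ∨ Swaps W W' (siegel Q s s' (hW s hs) hss)) := by
  have hmem : polar Q s v₀ • s' - polar Q s' v₀ • s ∈ W := W.sub_mem (W.smul_mem _ hs') (W.smul_mem _ hs)
  rintro (h1 | h1)
  · have h2 := (h1.2 v₀).1 hv₀
    rw [siegel_apply, hW s' hs', zero_mul, zero_smul, sub_zero, add_sub_assoc] at h2
    exact hne (hd _ hmem ((W'.add_mem_iff_right hv₀).1 h2))
  · have h2 := (h1.1 s).1 hs
    rw [siegel_apply, polar_self_of_sing (hW s hs), polar_zero_of_comm hss, zero_smul, zero_smul, mul_zero, zero_smul,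
      sub_zero, sub_zero, add_zero] at h2
    apply hne
    rw [hd s hs h2, polar_zero_left, zero_smul, smul_zero, sub_zero]

/-- **two orthogonal nondegenerate subspaces which are interchanged** -/
theorem kill_swap {P : Type*} [Group P] {A : Subgroup P} {Γ : Subgroup (MulAut P)}
    (hE : EPT A Γ) (hQ : Nondeg Q) {T : Subgroup (V ≃ₗ[F] V)} (p : IsPre (E Q) T A)
    (hT : ∀ g ∈ T, Fixes W W' g ∨ Swaps W W' g) (hP : Perp Q W W') {s s' w : V} (hs : s ∈ W) (hs' : s' ∈ W)
    (hss : polar Q s s' ≠ 0) (hs0 : Q s = 0) (hw : w ∈ W') (hw0 : Q w ≠ 0) :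
    T ≤ Cfsg.Agent.H883.Bridge.stab W := by
  have hTO : ∀ g ∈ T, g ∈ O Q := by
    obtain ⟨π, h1, h2, h3⟩ := p
    exact fun g hg => E_le_O (h2 hg)
  have hsne : s ≠ 0 := by
    rintro rfl
    exact hss (polar_zero_left _ _)
  have hwne : w ≠ 0 := by
    rintro rfl
    exact hw0 (QuadraticMap.map_zero _)
  have hsw := hP.perp s hs w hw
  set x := siegel Q s w hs0 hsw with hx
  have hxW : ∀ v ∈ W, x v = (v - (Q w * polar Q s v) • s) + polar Q s v • w := by
    intro v hv
    rw [hx, siegel_apply, polar_zero_of_comm (hP.perp v hv w hw)]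
    module
  have hxW' : ∀ v ∈ W', x v = -(polar Q w v • s) + v := by
    intro v hv
    rw [hx, siegel_apply, hP.perp s hs v hv]
    module
  have hxs : x s = s := by
    rw [hxW s hs, polar_self_of_sing hs0, mul_zero, zero_smul, zero_smul, sub_zero, add_zero]
  have hxT : x ∉ T := fun hxT => not_fs_nondeg hP hs hs' hss hs0 hw hwne hsw (hT x hxT)
  refine p.sw hE (A0 := Cfsg.Agent.H883.Bridge.stab W) (fun a ha => sq_mem (hT a ha)) (siegel_mem_E _ _) hxT ?_
  intro g hg hgx
  have hxk : ∀ v, x ((x⁻¹ * g * x) v) = g (x v) := conj_app x g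
  set k := x⁻¹ * g * x with hk
  have hgO := hTO g hg
  rcases hT g hg with h1 | h1
  · exact h1.1
  exfalso
  have hgs : g s ∈ W' := (h1.1 s).1 hs
  rcases hT k hgx with h2 | h2
  · have h3 : k s ∈ W := (h2.1 s).1 hs
    have h4 := hxk s
    rw [hxs, hxW _ h3] at h4
    have h5 : k s - (Q w * polar Q s (k s)) • s + polar Q s (k s) • w = 0 + g s := by rw [h4, zero_add]
    obtain ⟨h6, -⟩ := uniq hP.disj (W.sub_mem h3 (W.smul_mem _ hs)) W.zero_mem (W'.smul_mem _ hw) hgs h5
    have h7 : polar Q s (k s) = 0 := by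
      rw [sub_eq_zero.1 h6, polar_smul_right, polar_self_of_sing hs0, smul_zero]
    rw [h7, mul_zero, zero_smul, sub_zero] at h6
    exact hsne ((LinearEquiv.map_eq_zero_iff k).1 h6)
  · -- `g s ⊥ w^⊥ ∩ W'`
    have key : ∀ u ∈ W', polar Q w u = 0 → polar Q (g s) u = 0 := by
      intro u hu hwu
      obtain ⟨v, rfl⟩ := k.surjective u
      have hv : v ∈ W := (h2.1 v).2 hu
      have h3 := hxk v
      rw [hxW' _ hu, hwu, zero_smul, neg_zero, zero_add] at h3
      have h4 : x v ∈ W := (h1.1 _).2 (by rw [← h3]; exact hu)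
      have h5 := h4
      rw [hxW v hv] at h5
      have h6 : polar Q s v • w ∈ W := (W.add_mem_iff_right (W.sub_mem hv (W.smul_mem _ hs))).1 h5
      have h7 := hP.disj _ h6 (W'.smul_mem _ hw)
      have h8 : polar Q s v = 0 := by
        rcases smul_eq_zero.1 h7 with h9 | h9
        · exact h9
        · exact absurd h9 hwne
      have h9 : x v = v := by
        rw [hxW v hv, h8, mul_zero, zero_smul, zero_smul, sub_zero, add_zero]
      rw [h3, h9, polar_map hgO, h8]
    obtain ⟨u₀, hu₀, hwu⟩ : ∃ u₀ ∈ W', polar Q w u₀ = 1 := by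
      by_contra hcon
      push Not at hcon
      apply hwne
      apply hP.symm.zero hQ hw
      intro u hu
      by_contra hne
      exact hcon ((polar Q w u)⁻¹ • u) (W'.smul_mem _ hu) (by
        rw [polar_smul_right, smul_eq_mul, inv_mul_cancel₀ hne])
    have h3 : g s - polar Q (g s) u₀ • w = 0 := by
      apply hP.symm.zero hQ (W'.sub_mem hgs (W'.smul_mem _ hw))
      intro u hu
      have h4 := key (u - polar Q w u • u₀) (W'.sub_mem hu (W'.smul_mem _ hu₀)) (by
        rw [polar_sub_right, polar_smul_right, hwu, smul_eq_mul, mul_one, sub_self])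
      rw [polar_sub_right, polar_smul_right, sub_eq_zero, smul_eq_mul] at h4
      rw [polar_sub_left, polar_smul_left, h4, smul_eq_mul, mul_comm, sub_self]
    have h4 := sub_eq_zero.1 h3
    have h5 : Q (g s) = 0 := by rw [mem_O.1 hgO, hs0]
    rw [h4, QuadraticMap.map_smul, smul_eq_mul] at h5
    have h6 : polar Q (g s) u₀ = 0 := by
      rcases mul_eq_zero.1 h5 with h6 | h6
      · exact mul_self_eq_zero.1 h6
      · exact absurd h6 hw0
    rw [h6, zero_smul] at h4
    exact hsne ((LinearEquiv.map_eq_zero_iff g).1 h4)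

/-- **two complementary totally singular subspaces** -/
theorem kill_ts {P : Type*} [Group P] {A : Subgroup P} {Γ : Subgroup (MulAut P)}
    (hE : EPT A Γ) {T : Subgroup (V ≃ₗ[F] V)} (p : IsPre (E Q) T A)
    (hT : ∀ g ∈ T, Fixes W W' g ∨ Swaps W W' g) (hd : ∀ v ∈ W, v ∈ W' → v = 0) (hW : ∀ v ∈ W, Q v = 0)
    {s s' v₀ : V} (hs : s ∈ W) (hs' : s' ∈ W) (hv₀ : v₀ ∈ W') (hne : polar Q s v₀ • s' - polar Q s' v₀ • s ≠ 0) :
    T ≤ Cfsg.Agent.H883.Bridge.stab W := by
  have hpol : ∀ u ∈ W, ∀ v ∈ W, polar Q u v = 0 := by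
    intro u hu v hv
    have h1 := hW _ (W.add_mem hu hv)
    rw [Q_add, hW u hu, hW v hv] at h1
    simpa using h1
  have hsne : s ≠ 0 := by
    rintro rfl
    apply hne
    rw [polar_zero_left, zero_smul, smul_zero, sub_zero]
  set x := siegel Q s s' (hW s hs) (hpol s hs s' hs') with hx
  have hxa : ∀ v, x v = v + (polar Q s v • s' - polar Q s' v • s) := by
    intro v
    rw [hx, siegel_apply, hW s' hs', zero_mul, zero_smul, sub_zero, add_sub_assoc]
  have hxW : ∀ v ∈ W, x v = v := by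
    intro v hv
    rw [hxa, hpol s hs v hv, hpol s' hs' v hv, zero_smul, zero_smul, sub_zero, add_zero]
  have hmem : polar Q s v₀ • s' - polar Q s' v₀ • s ∈ W := W.sub_mem (W.smul_mem _ hs') (W.smul_mem _ hs)
  have hbad : x v₀ ∉ W' := by
    intro h1
    rw [hxa] at h1
    exact hne (hd _ hmem ((W'.add_mem_iff_right hv₀).1 h1))
  have hxT : x ∉ T := fun hxT => not_fs_ts hd hW hs hs' hv₀ hne (hpol s hs s' hs') (hT x hxT)
  refine p.sw hE (A0 := Cfsg.Agent.H883.Bridge.stab W) (fun a ha => sq_mem (hT a ha)) (siegel_mem_E _ _) hxT ?_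
  intro g hg hgx
  have hxk : ∀ v, x ((x⁻¹ * g * x) v) = g (x v) := conj_app x g
  set k := x⁻¹ * g * x with hk
  rcases hT g hg with h1 | h1
  · exact h1.1
  exfalso
  rcases hT k hgx with h2 | h2
  · have h3 : k s ∈ W := (h2.1 s).1 hs
    have h4 := hxk s
    rw [hxW s hs, hxW _ h3] at h4
    have h5 : g s ∈ W' := (h1.1 s).1 hs
    rw [← h4] at h5
    exact hsne ((LinearEquiv.map_eq_zero_iff k).1 (hd _ h3 h5))
  · obtain ⟨v, rfl⟩ := k.surjective v₀
    have hv : v ∈ W := (h2.1 v).2 hv₀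
    apply hbad
    rw [hxk, hxW v hv]
    exact (h1.1 v).1 hv

end Swap

section Exist

variable {F V : Type*} [Field F] [AddCommGroup V] [Module F V] {Q : QuadraticForm F V} {W W' : Submodule F V}

/-- hyperbolic pairs in nondegenerate subspaces of dimension at least three -/
theorem Perp.exists_hyp [Finite F] (hQ : Nondeg Q) (hP : Perp Q W W') (hd : 3 ≤ Module.finrank F W) :
    ∃ e ∈ W, ∃ f ∈ W, Hyp Q e f := by
  obtain ⟨e, he, he0, hQe⟩ := exists_sing_mem (Q := Q) W hd
  obtain ⟨y, hy, hey⟩ : ∃ y ∈ W, polar Q e y ≠ 0 := by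
    by_contra hcon
    push Not at hcon
    exact he0 (hP.zero hQ he hcon)
  obtain ⟨z, hzW, hez⟩ : ∃ z ∈ W, polar Q e z = 1 := ⟨(polar Q e y)⁻¹ • y, W.smul_mem _ hy, by
    rw [polar_smul_right, smul_eq_mul, inv_mul_cancel₀ hey]⟩
  refine ⟨e, he, z + (-Q z) • e, W.add_mem hzW (W.smul_mem _ he), hQe, ?_, ?_⟩
  · rw [Q_add, QuadraticMap.map_smul, hQe, polar_smul_right, polar_comm Q z e, hez]
    simp
  · rw [polar_add_right, polar_smul_right, polar_self_of_sing hQe, hez]
    simp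

theorem mem_iff_of_map {g : V ≃ₗ[F] V} {D D' : Submodule F V} (h : D.map (g : V →ₗ[F] V) = D') (v : V) :
    v ∈ D ↔ g v ∈ D' := by
  rw [← h]
  constructor
  · intro hv
    exact Submodule.mem_map_of_mem hv
  · intro hv
    obtain ⟨w, hw, e⟩ := Submodule.mem_map.1 hv
    rwa [← g.injective e]

theorem fs_of_mem {D : Fin 2 → Submodule F V} {g : V ≃ₗ[F] V} (hg : g ∈ stabFamily D) :
    Fixes (D 0) (D 1) g ∨ Swaps (D 0) (D 1) g := by
  obtain ⟨σ, hσ⟩ := hg
  have h0 := mem_iff_of_map (hσ 0)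
  have h1 := mem_iff_of_map (hσ 1)
  have hne : σ 0 ≠ σ 1 := fun e => absurd (σ.injective e) (by decide)
  rcases Fin.exists_fin_two.1 ⟨σ 0, rfl⟩ with e0 | e0
  · left
    have e1 : σ 1 = 1 := by
      rcases Fin.exists_fin_two.1 ⟨σ 1, rfl⟩ with e1 | e1
      · exact absurd (e0.trans e1.symm) hne
      · exact e1
    rw [e0] at h0
    rw [e1] at h1
    exact ⟨h0, h1⟩
  · right
    have e1 : σ 1 = 0 := by
      rcases Fin.exists_fin_two.1 ⟨σ 1, rfl⟩ with e1 | e1
      · exact e1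
      · exact absurd (e0.trans e1.symm) hne
    rw [e0] at h0
    rw [e1] at h1
    exact ⟨h0, h1⟩

theorem mem_of_stab {D : Fin 2 → Submodule F V} {g : V ≃ₗ[F] V} (h0 : g ∈ Cfsg.Agent.H883.Bridge.stab (D 0))
    (h1 : g ∈ Cfsg.Agent.H883.Bridge.stab (D 1)) : g ∈ stabFamily D := by
  refine ⟨1, fun i => ?_⟩
  rw [Equiv.Perm.one_apply]
  fin_cases i
  · exact mem_stab_iff_map.1 h0
  · exact mem_stab_iff_map.1 h1

end Exist

section Rows

open scoped MatrixGroups

variable {P : Type*} [Group P] {A : Subgroup P} {Γ : Subgroup (MulAut P)} {F : Type*} [Field F] {ι : Type} [Fintype ι]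
  [DecidableEq ι]

/-- the preimage of `A` in the isometry group -/
theorem exists_pre (hA : IsCoatom A) {Q : QuadraticForm F (ι → F)} (hG : Good Q) (m : Model P (Cfsg.Geo.omegaGL (Q : (ι → F) → F)))
    {M : Subgroup (GL ι F)} {M' : Subgroup ((ι → F) ≃ₗ[F] (ι → F))} (hM : ∀ g, g ∈ M ↔ glEquiv ι F g ∈ M')
    (hAM : m.hat A ≤ M) (hE : ¬ E Q ≤ M') :
    IsPre (E Q) (M' ⊓ E Q) A ∧ ∀ g, g ∈ m.hat A ↔ glEquiv ι F g ∈ M' ⊓ E Q := by
  have hmax := m.isMaximalIn hA
  have h1 : m.hat A = M ⊓ Cfsg.Geo.omegaGL (Q : (ι → F) → F) := by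
    rcases hmax.2 (M ⊓ Cfsg.Geo.omegaGL (Q : (ι → F) → F)) (le_inf hAM (m.hat_le A)) inf_le_right with h | h
    · exact h.symm
    · exfalso
      apply hE
      intro x hx
      obtain ⟨g, rfl⟩ := (glEquiv ι F).surjective x
      have h2 := (mem_omegaGL_iff hG g).2 hx
      rw [← h] at h2
      exact (hM g).1 (mem_inf.1 h2).1
  have h2 := (isPre_hat m A).map (glEquiv ι F)
  rw [map_omegaGL_eq_E hG, h1, map_inf_omegaGL hG M M' hM] at h2
  refine ⟨h2, fun g => ?_⟩
  rw [h1, mem_inf, mem_inf, hM, mem_omegaGL_iff hG]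

/-- **Om-C2t2**: pairs `{W, W^⊥}` -/
theorem omC2t2 : Cfsg.Agent.H778.EP.OmC2t2 := by
  intro P _ _ hs A Γ hE F _ _ ι _ _ Qf m h7 hQ hD
  obtain ⟨k, D, hk, hD, hA⟩ := hD
  obtain ⟨Q, rfl, hnd⟩ := exists_quadraticForm hQ
  have hG := good_of_card hnd (by omega : 5 ≤ Fintype.card ι)
  have h01 : (0 : Fin 2) ≠ 1 := by decide
  have hdis : Disjoint (D 0) (D 1) := hD.decomp.indep.pairwiseDisjoint h01
  have hsup : D 0 ⊔ D 1 = ⊤ := by
    rw [← hD.decomp.iSup_eq_top]
    apply le_antisymm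
    · exact sup_le (le_iSup D 0) (le_iSup D 1)
    · refine iSup_le fun i => ?_
      fin_cases i
      · exact le_sup_left
      · exact le_sup_right
  have hP : Perp Q (D 0) (D 1) :=
    { perp := hD.orthogonal 0 1 h01
      disj := fun v hv hv' => Submodule.disjoint_def.1 hdis v hv hv'
      sup := fun v => by
        have hv : v ∈ D 0 ⊔ D 1 := by rw [hsup]; exact Submodule.mem_top
        obtain ⟨w, hw, w', hw', e⟩ := Submodule.mem_sup.1 hv
        exact ⟨w, hw, w', hw', e.symm⟩ }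
  obtain ⟨e₁, he₁, f₁, hf₁, h1⟩ := hP.exists_hyp hnd (by rw [hD.decomp.finrank_eq]; omega)
  obtain ⟨e₂, he₂, f₂, hf₂, h2⟩ := hP.symm.exists_hyp hnd (by rw [hD.decomp.finrank_eq]; omega)
  have hw : e₂ + f₂ ∈ D 1 := (D 1).add_mem he₂ hf₂
  have hw0 : Q (e₂ + f₂) ≠ 0 := by
    rw [Q_add, h2.left, h2.right, h2.pair]
    simp
  have hwne : e₂ + f₂ ≠ 0 := by
    intro e
    apply hw0
    rw [e, QuadraticMap.map_zero]
  have hss : polar Q e₁ f₁ ≠ 0 := by rw [h1.pair]; exact one_ne_zero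
  have hnot : ¬ E Q ≤ stabFamily D := by
    intro hle
    exact not_fs_nondeg hP he₁ hf₁ hss h1.left hw hwne (hP.perp _ he₁ _ hw) (fs_of_mem (hle (siegel_mem_E _ _)))
  obtain ⟨p, hmem⟩ := exists_pre hE.max hG m (M' := stabFamily D) (fun g => Iff.rfl) hA hnot
  have hle := kill_swap hE hnd p (fun g hg => fs_of_mem (mem_inf.1 hg).1) hP he₁ hf₁ hss h1.left hw hw0
  have heq : stabFamily D ⊓ E Q = Cfsg.Agent.H883.Bridge.stab (D 0) ⊓ E Q := by
    apply le_antisymm (le_inf hle inf_le_right)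
    intro g hg
    exact ⟨mem_of_stab (mem_inf.1 hg).1 (hP.stab hnd (E_le_O (mem_inf.1 hg).2) (mem_inf.1 hg).1), (mem_inf.1 hg).2⟩
  exact kill_nondeg hE hnd p heq { hP with h1 := h1, h2 := h2, e1 := he₁, f1 := hf₁, e2 := he₂, f2 := hf₂ }

/-- **Om-C2b**: pairs of complementary totally singular subspaces -/
theorem omC2b : Cfsg.Agent.H778.EP.OmC2b := by
  intro P _ _ hs A Γ hE F _ _ ι _ _ Qf m h7 hQ hD
  obtain ⟨hirr, k, D, hk, hD, hts, hA⟩ := hD
  obtain ⟨Q, rfl, hnd⟩ := exists_quadraticForm hQ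
  have hG := good_of_card hnd (by omega : 5 ≤ Fintype.card ι)
  have h01 : (0 : Fin 2) ≠ 1 := by decide
  have hdis : Disjoint (D 0) (D 1) := hD.indep.pairwiseDisjoint h01
  have hd : ∀ v ∈ D 0, v ∈ D 1 → v = 0 := fun v hv hv' => Submodule.disjoint_def.1 hdis v hv hv'
  have hsup : D 0 ⊔ D 1 = ⊤ := by
    rw [← hD.iSup_eq_top]
    apply le_antisymm
    · exact sup_le (le_iSup D 0) (le_iSup D 1)
    · refine iSup_le fun i => ?_
      fin_cases i
      · exact le_sup_left
      · exact le_sup_right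
  have hfr : Module.finrank F (D 0) = k := hD.finrank_eq 0
  have : Nontrivial (D 0) := Module.nontrivial_of_finrank_pos (R := F) (by omega)
  obtain ⟨s, hs0⟩ := exists_ne (0 : D 0)
  obtain ⟨s', hli⟩ := exists_linearIndependent_pair_of_one_lt_finrank (R := F) (M := D 0) (by omega) hs0
  have hs0' : (s : ι → F) ≠ 0 := fun e => hs0 (Subtype.ext e)
  have hpol : ∀ u ∈ D 0, ∀ v ∈ D 0, polar Q u v = 0 := by
    intro u hu v hv
    have h1 := hts 0 _ ((D 0).add_mem hu hv)
    rw [Q_add, hts 0 u hu, hts 0 v hv] at h1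
    simpa using h1
  obtain ⟨v₀, hv₀, hsv⟩ : ∃ v₀ ∈ D 1, polar Q (s : ι → F) v₀ ≠ 0 := by
    by_contra hcon
    push Not at hcon
    apply hs0'
    apply hnd
    intro y
    have hy : y ∈ D 0 ⊔ D 1 := by rw [hsup]; exact Submodule.mem_top
    obtain ⟨w, hw, w', hw', rfl⟩ := Submodule.mem_sup.1 hy
    rw [polar_add_right, hpol _ s.2 w hw, hcon w' hw', add_zero]
  have hne : polar Q (s : ι → F) v₀ • (s' : ι → F) - polar Q (s' : ι → F) v₀ • (s : ι → F) ≠ 0 := by
    intro e
    rw [LinearIndependent.pair_iff] at hli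
    have h1 := hli (-polar Q (s' : ι → F) v₀) (polar Q (s : ι → F) v₀) (by
      apply Subtype.ext
      rw [Submodule.coe_add, Submodule.coe_smul, Submodule.coe_smul, Submodule.coe_zero, ← e]
      module)
    exact hsv h1.2
  have hnot : ¬ E Q ≤ stabFamily D := by
    intro hle
    exact not_fs_ts hd (hts 0) s.2 s'.2 hv₀ hne (hpol _ s.2 _ s'.2) (fs_of_mem (hle (siegel_mem_E _ _)))
  obtain ⟨p, hmem⟩ := exists_pre hE.max hG m (M' := stabFamily D) (fun g => Iff.rfl) hA hnot
  have hle := kill_ts hE p (fun g hg => fs_of_mem (mem_inf.1 hg).1) hd (hts 0) s.2 s'.2 hv₀ hne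
  rcases hirr (D 0) (by
    rintro _ ⟨g, hg, rfl⟩
    rintro _ ⟨v, hv, rfl⟩
    have h1 := hle ((hmem g).1 hg)
    exact (h1 v).1 hv) with h1 | h1
  · rw [h1, finrank_bot] at hfr
    omega
  · rw [h1, finrank_top, Module.finrank_fintype_fun_eq_card] at hfr
    omega

end Rows

end Cfsg.Agent.H807.EP
end

-- part: H96/C5/Ext
section
/-!
# S3499, subfield classes: extension of small matrices (helper96)

`P : Matrix ι κ F`, `R : Matrix κ ι F`, `R * P = 1`: `T ↦ 1 + P * (T - 1) * R` is a homomorphism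
`extG : GL κ F →* GL ι F`.

* `Phi_ext` : `Phi φ B (extG T) = extG (φ T)` if `P`, `R` are rational with respect to `B`;
* `ext_mem` : `extG T ∈ subfieldSubgroup F₁ B` if `φ T = T`; `of_ext_mem` : the converse if `|κ| < |ι|`;
* `kill_ext` : the criterion for two matrices `X`, `G` of size `κ`.
-/

set_option autoImplicit false
set_option linter.unusedSectionVars false

namespace Cfsg.Agent.H96.C5

open Subgroup Cfsg.Geo Cfsg.Agent.H284 Cfsg.Agent.H419.EP
open scoped MatrixGroups Matrix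

variable {ι : Type} [Fintype ι] [DecidableEq ι] {κ : Type} [Fintype κ] [DecidableEq κ] {F : Type*} [Field F]
  {P : Matrix ι κ F} {R : Matrix κ ι F} (h : R * P = 1)

/-- the extension of `T` -/
def extM (h : R * P = 1) : Matrix κ κ F →* Matrix ι ι F where
  toFun T := 1 + P * (T - 1) * R
  map_one' := by rw [sub_self, Matrix.mul_zero, Matrix.zero_mul, add_zero]
  map_mul' A B := by
    have e1 : P * (A - 1) * R * (P * (B - 1) * R) = P * ((A - 1) * (B - 1)) * R := by
      calc P * (A - 1) * R * (P * (B - 1) * R) = P * (A - 1) * (R * P) * (B - 1) * R := by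
            simp only [Matrix.mul_assoc]
        _ = P * ((A - 1) * (B - 1)) * R := by rw [h, Matrix.mul_one]; simp only [Matrix.mul_assoc]
    rw [Matrix.add_mul, Matrix.mul_add, Matrix.one_mul, Matrix.mul_add, Matrix.mul_one, e1]
    have e2 : A * B - 1 = (B - 1) + ((A - 1) + (A - 1) * (B - 1)) := by noncomm_ring
    rw [e2, Matrix.mul_add, Matrix.mul_add, Matrix.add_mul, Matrix.add_mul, Matrix.one_mul]
    abel

/-- the extension of `T` -/
def extG (h : R * P = 1) : GL κ F →* GL ι F := Units.map (extM h)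

theorem extG_val (T : GL κ F) : ((extG h T : GL ι F) : Matrix ι ι F) = 1 + P * ((T : Matrix κ κ F) - 1) * R := rfl

theorem extG_mulVec (T : GL κ F) (v : ι → F) :
    ((extG h T : GL ι F) : Matrix ι ι F) *ᵥ v = v + P *ᵥ ((T : Matrix κ κ F) *ᵥ (R *ᵥ v) - R *ᵥ v) := by
  rw [extG_val, Matrix.add_mulVec, Matrix.one_mulVec, ← Matrix.mulVec_mulVec, ← Matrix.mulVec_mulVec,
    Matrix.sub_mulVec, Matrix.one_mulVec]

theorem extG_inj_val {T : GL κ F} : R * ((extG h T : GL ι F) : Matrix ι ι F) * P = T := by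
  rw [extG_val, Matrix.mul_add, Matrix.add_mul, Matrix.mul_one, h]
  have e1 : R * (P * ((T : Matrix κ κ F) - 1) * R) * P = (R * P) * ((T : Matrix κ κ F) - 1) * (R * P) := by
    simp only [Matrix.mul_assoc]
  rw [e1, h, Matrix.one_mul, Matrix.mul_one]
  abel

section Phi

variable {φ : F →+* F} {B : GL ι F} (hP : ((B⁻¹ : GL ι F).val * P).map φ = (B⁻¹ : GL ι F).val * P)
  (hR : (R * (B : Matrix ι ι F)).map φ = R * (B : Matrix ι ι F))

include hP hR

theorem Phi_ext (T : GL κ F) : Phi φ B (extG h T) = extG h (Matrix.GeneralLinearGroup.map φ T) := by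
  apply Units.ext
  rw [Phi_apply, Units.val_mul, Units.val_mul]
  have e1 : ((Matrix.GeneralLinearGroup.map φ (B⁻¹ * extG h T * B) : GL ι F) : Matrix ι ι F) =
      ((B⁻¹ : GL ι F).val * (1 + P * ((T : Matrix κ κ F) - 1) * R) * B.val).map φ := rfl
  have e2 : (B⁻¹ : GL ι F).val * (1 + P * ((T : Matrix κ κ F) - 1) * R) * B.val =
      1 + ((B⁻¹ : GL ι F).val * P) * ((T : Matrix κ κ F) - 1) * (R * B.val) := by
    rw [Matrix.mul_add, Matrix.add_mul, Matrix.mul_one, Units.inv_mul]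
    simp only [Matrix.mul_assoc]
  have e3 : ((B⁻¹ : GL ι F).val * (1 + P * ((T : Matrix κ κ F) - 1) * R) * B.val).map φ =
      1 + ((B⁻¹ : GL ι F).val * P) * ((T : Matrix κ κ F).map φ - 1) * (R * B.val) := by
    rw [e2, Matrix.map_add φ (map_add φ), Matrix.map_mul, Matrix.map_mul, hP, hR, Matrix.map_sub φ (map_sub φ),
      Matrix.map_one φ (map_zero φ) (map_one φ), Matrix.map_one φ (map_zero φ) (map_one φ)]
  rw [e1, e3, extG_val]
  rw [Matrix.mul_add, Matrix.add_mul, Matrix.mul_one, Units.mul_inv]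
  have e4 : B.val * ((B⁻¹ : GL ι F).val * P * ((T : Matrix κ κ F).map φ - 1) * (R * B.val)) * (B⁻¹ : GL ι F).val =
      (B.val * (B⁻¹ : GL ι F).val) * P * ((T : Matrix κ κ F).map φ - 1) * R * (B.val * (B⁻¹ : GL ι F).val) := by
    simp only [Matrix.mul_assoc]
  rw [e4, Units.mul_inv, Matrix.one_mul, Matrix.mul_one]
  rfl

variable {F₁ : Subfield F} (hφ : ∀ a, a ∈ F₁ ↔ φ a = a)

include hφ

theorem ext_mem {T : GL κ F} (hT : Matrix.GeneralLinearGroup.map φ T = T) : extG h T ∈ subfieldSubgroup F₁ B := by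
  rw [mem_iff hφ]
  exact ⟨1, (scalars ι F).one_mem, by rw [Phi_ext h hP hR, hT, mul_one]⟩

theorem of_ext_mem (hcard : Fintype.card κ < Fintype.card ι) {T : GL κ F}
    (hT : extG h T ∈ subfieldSubgroup F₁ B) : Matrix.GeneralLinearGroup.map φ T = T := by
  rw [mem_iff hφ] at hT
  obtain ⟨z, hz, h1⟩ := hT
  rw [Phi_ext h hP hR] at h1
  obtain ⟨d, hd⟩ := (mem_scalars_iff z).1 hz
  -- a vector in the kernel of `R`
  obtain ⟨w, hw0, hw⟩ : ∃ w : ι → F, w ≠ 0 ∧ R *ᵥ w = 0 := by
    have h2 : LinearMap.ker (Matrix.mulVecLin R) ≠ ⊥ := by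
      apply LinearMap.ker_ne_bot_of_finrank_lt
      rw [Module.finrank_fintype_fun_eq_card, Module.finrank_fintype_fun_eq_card]
      exact hcard
    obtain ⟨w, hw, hw0⟩ := (Submodule.ne_bot_iff _).1 h2
    exact ⟨w, hw0, LinearMap.mem_ker.1 hw⟩
  have hfix : ∀ S : GL κ F, ((extG h S : GL ι F) : Matrix ι ι F) *ᵥ w = w := by
    intro S
    rw [extG_mulVec, hw, Matrix.mulVec_zero, sub_zero, Matrix.mulVec_zero, add_zero]
  have h2 := congrArg (fun g : GL ι F => (g : Matrix ι ι F) *ᵥ w) h1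
  rw [Units.val_mul, hd, mul_smul_comm, mul_one, Matrix.smul_mulVec, hfix, hfix] at h2
  have hd1 : (d : F) = 1 := by
    obtain ⟨i, hi⟩ := Function.ne_iff.1 hw0
    have h3 := congrFun h2 i
    rw [Pi.smul_apply, smul_eq_mul] at h3
    have h4 : (1 - (d : F)) * w i = 0 := by linear_combination h3
    rcases mul_eq_zero.1 h4 with h5 | h5
    · exact (sub_eq_zero.1 h5).symm
    · exact (hi h5).elim
  have hz1 : z = 1 := by
    apply Units.ext
    rw [hd, hd1, one_smul]
    rfl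
  rw [hz1, mul_one] at h1
  apply Units.ext
  rw [← extG_inj_val h (T := Matrix.GeneralLinearGroup.map φ T), h1, extG_inj_val]

end Phi

section kill

variable {Q : Type*} [Group Q] [Finite Q] {A : Subgroup Q} {Γ : Subgroup (MulAut Q)} (hE : EPT A Γ)
variable {S : Subgroup (GL ι F)} (m : Model Q S)

include hE

/-- **The kill for two small matrices `X`, `G`.** -/
theorem kill_ext {F₁ : Subfield F} {φ : F →+* F} (hφ : ∀ a, a ∈ F₁ ↔ φ a = a) {B : GL ι F}
    (hA : m.hat A ≤ subfieldSubgroup F₁ B)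
    (hP : ((B⁻¹ : GL ι F).val * P).map φ = (B⁻¹ : GL ι F).val * P)
    (hR : (R * (B : Matrix ι ι F)).map φ = R * (B : Matrix ι ι F)) (hcard : Fintype.card κ < Fintype.card ι)
    {X G : GL κ F} (hX : extG h X ∈ S) (hG : extG h G ∈ S) (hGφ : Matrix.GeneralLinearGroup.map φ G = G)
    (hGX : G * X * G⁻¹ = X⁻¹)
    (hc : Matrix.GeneralLinearGroup.map φ X * X = X * Matrix.GeneralLinearGroup.map φ X)
    (hX2 : Matrix.GeneralLinearGroup.map φ (X * X) ≠ X * X) : False := by
  refine kill_subfield hE m hφ hA hX hG (ext_mem h hP hR hφ hGφ) ?_ ?_ ?_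
  · rw [← map_mul, ← map_inv, ← map_mul, hGX, map_inv]
  · rw [Phi_ext h hP hR, ← map_mul, hc, map_mul]
  · intro h1
    rw [← map_mul] at h1
    exact hX2 (of_ext_mem h hP hR hφ hcard h1)

end kill

end Cfsg.Agent.H96.C5
end

-- part: H96/C5/Orth
section
/-!
# S3499-III-Om-C5: the subfield class of the orthogonal groups (helper96)

`om_C5` : `m.hat A ≤ subfieldSubgroup F₁ B` is impossible.
-/

set_option autoImplicit false
set_option linter.unusedSectionVars false

namespace Cfsg.Agent.H96.C5.Orth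

open Subgroup Cfsg.Geo Cfsg.Agent.H284 Cfsg.Agent.H419.EP QuadraticMap Cfsg.Agent.H96.C5
open scoped MatrixGroups Matrix commutatorElement

/-! ### The matrices of size four -/

section four

variable {F : Type*} [Field F]

/-- the hyperbolic quadratic form on `F ^ 4` -/
def q4 (u : Fin 4 → F) : F := u 0 * u 1 + u 2 * u 3

/-- `diag (c, c⁻¹, 1, 1)` -/
def tT (c : F) (hc : c ≠ 0) : GL (Fin 4) F where
  val := Matrix.diagonal ![c, c⁻¹, 1, 1]
  inv := Matrix.diagonal ![c⁻¹, c, 1, 1]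
  val_inv := by
    rw [Matrix.diagonal_mul_diagonal, ← Matrix.diagonal_one]
    congr 1
    funext i
    fin_cases i <;> simp [hc]
  inv_val := by
    rw [Matrix.diagonal_mul_diagonal, ← Matrix.diagonal_one]
    congr 1
    funext i
    fin_cases i <;> simp [hc]

/-- `diag (c, c⁻¹, c, c⁻¹)` -/
def tX (c : F) (hc : c ≠ 0) : GL (Fin 4) F where
  val := Matrix.diagonal ![c, c⁻¹, c, c⁻¹]
  inv := Matrix.diagonal ![c⁻¹, c, c⁻¹, c]
  val_inv := by
    rw [Matrix.diagonal_mul_diagonal, ← Matrix.diagonal_one]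
    congr 1
    funext i
    fin_cases i <;> simp [hc]
  inv_val := by
    rw [Matrix.diagonal_mul_diagonal, ← Matrix.diagonal_one]
    congr 1
    funext i
    fin_cases i <;> simp [hc]

/-- the reversal -/
def tS (F : Type*) [Field F] : GL (Fin 4) F where
  val := !![0, 0, 0, 1; 0, 0, 1, 0; 0, 1, 0, 0; 1, 0, 0, 0]
  inv := !![0, 0, 0, 1; 0, 0, 1, 0; 0, 1, 0, 0; 1, 0, 0, 0]
  val_inv := by
    ext i j
    (revert i j; simp only [Matrix.mul_apply, Fin.sum_univ_four, _root_.Fin.forall_fin_succ, _root_.Matrix.of_apply, _root_.Matrix.cons_val', _root_.Matrix.cons_val_fin_one, Fin.isValue, _root_.Matrix.cons_val_zero, _root_.Matrix.cons_val_one, _root_.Matrix.cons_val, _root_.MulZeroClass.mul_zero, _root_.add_zero, _root_.mul_one, _root_.zero_add, _root_.Matrix.cons_val_succ, _root_.IsEmpty.forall_iff, _root_.and_true, _root_.Matrix.one_apply_eq, Nat.reduceAdd, _root_.Fin.succ_zero_eq_one, _root_.ne_eq, _root_.zero_ne_one, _root_.not_false_eq_true, _root_.Matrix.one_apply_ne,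 _root_.Fin.succ_one_eq_two, Fin.reduceEq, Fin.reduceSucc, _root_.and_self, _root_.Fin.succ_ne_zero, _root_.true_and])
  inv_val := by
    ext i j
    (revert i j; simp only [Matrix.mul_apply, Fin.sum_univ_four, _root_.Fin.forall_fin_succ, _root_.Matrix.of_apply, _root_.Matrix.cons_val', _root_.Matrix.cons_val_fin_one, Fin.isValue, _root_.Matrix.cons_val_zero, _root_.Matrix.cons_val_one, _root_.Matrix.cons_val, _root_.MulZeroClass.mul_zero, _root_.add_zero, _root_.mul_one, _root_.zero_add, _root_.Matrix.cons_val_succ, _root_.IsEmpty.forall_iff, _root_.and_true, _root_.Matrix.one_apply_eq, Nat.reduceAdd, _root_.Fin.succ_zero_eq_one, _root_.ne_eq, _root_.zero_ne_one, _root_.not_false_eq_true, _root_.Matrix.one_apply_ne, _root_.Fin.succ_one_eq_two, Fin.reduceEq, Fin.reduceSucc, _root_.and_self, _root_.Fin.succ_ne_zero, _root_.true_and])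

/-- the interchange of the two planes -/
def tS2 (F : Type*) [Field F] : GL (Fin 4) F where
  val := !![0, 0, 1, 0; 0, 0, 0, 1; 1, 0, 0, 0; 0, 1, 0, 0]
  inv := !![0, 0, 1, 0; 0, 0, 0, 1; 1, 0, 0, 0; 0, 1, 0, 0]
  val_inv := by
    ext i j
    (revert i j; simp only [Matrix.mul_apply, Fin.sum_univ_four, _root_.Fin.forall_fin_succ, _root_.Matrix.of_apply, _root_.Matrix.cons_val', _root_.Matrix.cons_val_fin_one, Fin.isValue, _root_.Matrix.cons_val_zero, _root_.Matrix.cons_val_one, _root_.Matrix.cons_val, _root_.MulZeroClass.mul_zero, _root_.add_zero, _root_.mul_one, _root_.zero_add, _root_.Matrix.cons_val_succ, _root_.IsEmpty.forall_iff, _root_.and_true, _root_.Matrix.one_apply_eq, Nat.reduceAdd, _root_.Fin.succ_zero_eq_one, _root_.ne_eq, _root_.zero_ne_one, _root_.not_false_eq_true, _root_.Matrix.one_apply_ne, _root_.Fin.succ_one_eq_two, Fin.reduceEq, Fin.reduceSucc, _root_.and_self, _root_.Fin.succ_ne_zero, _root_.true_and])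
  inv_val := by
    ext i j
    (revert i j; simp only [Matrix.mul_apply, Fin.sum_univ_four, _root_.Fin.forall_fin_succ, _root_.Matrix.of_apply, _root_.Matrix.cons_val', _root_.Matrix.cons_val_fin_one, Fin.isValue, _root_.Matrix.cons_val_zero, _root_.Matrix.cons_val_one, _root_.Matrix.cons_val, _root_.MulZeroClass.mul_zero, _root_.add_zero, _root_.mul_one, _root_.zero_add, _root_.Matrix.cons_val_succ, _root_.IsEmpty.forall_iff, _root_.and_true, _root_.Matrix.one_apply_eq, Nat.reduceAdd, _root_.Fin.succ_zero_eq_one, _root_.ne_eq, _root_.zero_ne_one, _root_.not_false_eq_true, _root_.Matrix.one_apply_ne, _root_.Fin.succ_one_eq_two, Fin.reduceEq, Fin.reduceSucc, _root_.and_self, _root_.Fin.succ_ne_zero, _root_.true_and])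

/-- a reflection -/
def tR (F : Type*) [Field F] : GL (Fin 4) F where
  val := !![0, 1, 0, 0; 1, 0, 0, 0; 0, 0, 1, 0; 0, 0, 0, 1]
  inv := !![0, 1, 0, 0; 1, 0, 0, 0; 0, 0, 1, 0; 0, 0, 0, 1]
  val_inv := by
    ext i j
    (revert i j; simp only [Matrix.mul_apply, Fin.sum_univ_four, _root_.Fin.forall_fin_succ, _root_.Matrix.of_apply, _root_.Matrix.cons_val', _root_.Matrix.cons_val_fin_one, Fin.isValue, _root_.Matrix.cons_val_zero, _root_.Matrix.cons_val_one, _root_.Matrix.cons_val, _root_.MulZeroClass.mul_zero, _root_.mul_one, _root_.zero_add, _root_.add_zero, _root_.Matrix.cons_val_succ, _root_.IsEmpty.forall_iff, _root_.and_true, _root_.Matrix.one_apply_eq, Nat.reduceAdd, _root_.Fin.succ_zero_eq_one, _root_.ne_eq, _root_.zero_ne_one, _root_.not_false_eq_true, _root_.Matrix.one_apply_ne, _root_.Fin.succ_one_eq_two, Fin.reduceEq, Fin.reduceSucc, _root_.and_self, _root_.Fin.succ_ne_zero, _root_.true_and])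
  inv_val := by
    ext i j
    (revert i j; simp only [Matrix.mul_apply, Fin.sum_univ_four, _root_.Fin.forall_fin_succ, _root_.Matrix.of_apply, _root_.Matrix.cons_val', _root_.Matrix.cons_val_fin_one, Fin.isValue, _root_.Matrix.cons_val_zero, _root_.Matrix.cons_val_one, _root_.Matrix.cons_val, _root_.MulZeroClass.mul_zero, _root_.mul_one, _root_.zero_add, _root_.add_zero, _root_.Matrix.cons_val_succ, _root_.IsEmpty.forall_iff, _root_.and_true, _root_.Matrix.one_apply_eq, Nat.reduceAdd, _root_.Fin.succ_zero_eq_one, _root_.ne_eq, _root_.zero_ne_one, _root_.not_false_eq_true, _root_.Matrix.one_apply_ne, _root_.Fin.succ_one_eq_two, Fin.reduceEq, Fin.reduceSucc, _root_.and_self, _root_.Fin.succ_ne_zero, _root_.true_and])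

/-- the product of two reflections -/
def tG (F : Type*) [Field F] : GL (Fin 4) F where
  val := !![0, 1, 0, 0; 1, 0, 0, 0; 0, 0, 0, 1; 0, 0, 1, 0]
  inv := !![0, 1, 0, 0; 1, 0, 0, 0; 0, 0, 0, 1; 0, 0, 1, 0]
  val_inv := by
    ext i j
    (revert i j; simp only [Matrix.mul_apply, Fin.sum_univ_four, _root_.Fin.forall_fin_succ, _root_.Matrix.of_apply, _root_.Matrix.cons_val', _root_.Matrix.cons_val_fin_one, Fin.isValue, _root_.Matrix.cons_val_zero, _root_.Matrix.cons_val_one, _root_.Matrix.cons_val, _root_.MulZeroClass.mul_zero, _root_.mul_one, _root_.zero_add, _root_.add_zero, _root_.Matrix.cons_val_succ, _root_.IsEmpty.forall_iff, _root_.and_true, _root_.Matrix.one_apply_eq, Nat.reduceAdd, _root_.Fin.succ_zero_eq_one, _root_.ne_eq, _root_.zero_ne_one, _root_.not_false_eq_true, _root_.Matrix.one_apply_ne, _root_.Fin.succ_one_eq_two, Fin.reduceEq, Fin.reduceSucc, _root_.and_self, _root_.Fin.succ_ne_zero, _root_.true_and])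
  inv_val := by
    ext i j
    (revert i j; simp only [Matrix.mul_apply, Fin.sum_univ_four, _root_.Fin.forall_fin_succ, _root_.Matrix.of_apply, _root_.Matrix.cons_val', _root_.Matrix.cons_val_fin_one, Fin.isValue, _root_.Matrix.cons_val_zero, _root_.Matrix.cons_val_one, _root_.Matrix.cons_val, _root_.MulZeroClass.mul_zero, _root_.mul_one, _root_.zero_add, _root_.add_zero, _root_.Matrix.cons_val_succ, _root_.IsEmpty.forall_iff, _root_.and_true, _root_.Matrix.one_apply_eq, Nat.reduceAdd, _root_.Fin.succ_zero_eq_one, _root_.ne_eq, _root_.zero_ne_one, _root_.not_false_eq_true, _root_.Matrix.one_apply_ne, _root_.Fin.succ_one_eq_two, Fin.reduceEq, Fin.reduceSucc, _root_.and_self, _root_.Fin.succ_ne_zero, _root_.true_and])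

theorem comm_X (c : F) (hc : c ≠ 0) : ⁅tT c hc, tS F⁆ = tX c hc := by
  rw [commutatorElement_def, mul_inv_eq_iff_eq_mul, mul_inv_eq_iff_eq_mul]
  apply Units.ext
  ext i j
  (revert i j; simp only [tT, tS, tX, Matrix.mul_apply, Matrix.diagonal, hc, _root_.Fin.forall_fin_succ, _root_.Units.val_mul, _root_.Matrix.of_apply, _root_.Matrix.cons_val', _root_.Matrix.cons_val_fin_one, _root_.ite_mul, _root_.MulZeroClass.zero_mul, _root_.Finset.sum_ite_eq, _root_.Finset.mem_univ, ↓reduceIte, _root_.mul_ite, _root_.MulZeroClass.mul_zero, _root_.Finset.sum_ite_eq', Fin.isValue, _root_.Matrix.cons_val_zero, _root_.Matrix.cons_val_succ, _root_.mul_one, _root_.mul_eq_mul_right_iff, _root_.forall_const, _root_.or_self, _root_.one_ne_zero, _root_.or_false, _root_.and_self, _root_.ne_eq, _root_.not_false_eq_true, _root_.mul_inv_cancel₀, _root_.or_true, _root_.inv_mul_cancel₀, _root_.one_eq_inv, _root_.implies_true])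

theorem comm_G : ⁅tR F, tS2 F⁆ = tG F := by
  rw [commutatorElement_def, mul_inv_eq_iff_eq_mul, mul_inv_eq_iff_eq_mul]
  apply Units.ext
  ext i j
  (revert i j; simp only [tR, tS2, tG, Matrix.mul_apply, Fin.sum_univ_four, _root_.Fin.forall_fin_succ, _root_.Units.val_mul, _root_.Matrix.of_apply, _root_.Matrix.cons_val', _root_.Matrix.cons_val_fin_one, Fin.isValue, _root_.Matrix.cons_val_zero, _root_.Matrix.cons_val_one, _root_.Matrix.cons_val, _root_.Matrix.cons_mul, _root_.Nat.succ_eq_add_one, Nat.reduceAdd, _root_.Matrix.vecMul_cons, _root_.Matrix.head_cons, _root_.zero_smul, _root_.Matrix.tail_cons, _root_.one_smul, _root_.Matrix.empty_vecMul, _root_.add_zero, _root_.zero_add, _root_.Matrix.empty_mul, _root_.Equiv.symm_apply_apply, _root_.MulZeroClass.mul_zero, _root_.mul_one, _root_.Matrix.cons_val_succ, _root_.implies_true, _root_.and_self])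

theorem G_X (c : F) (hc : c ≠ 0) : tG F * tX c hc * (tG F)⁻¹ = (tX c hc)⁻¹ := by
  rw [mul_inv_eq_iff_eq_mul]
  apply Units.ext
  have h1 : (((tX c hc)⁻¹ : GL (Fin 4) F) : Matrix (Fin 4) (Fin 4) F) = Matrix.diagonal ![c⁻¹, c, c⁻¹, c] := rfl
  rw [Units.val_mul, Units.val_mul, h1]
  ext i j
  (revert i j; simp only [tX, tG, Matrix.mul_apply, Matrix.diagonal, _root_.Fin.forall_fin_succ, _root_.Matrix.of_apply, _root_.Matrix.cons_val', _root_.Matrix.cons_val_fin_one, _root_.mul_ite, _root_.MulZeroClass.mul_zero, _root_.Finset.sum_ite_eq', _root_.Finset.mem_univ, ↓reduceIte, _root_.Nat.succ_eq_add_one, Nat.reduceAdd, _root_.ite_mul, _root_.MulZeroClass.zero_mul, _root_.Finset.sum_ite_eq, Fin.isValue, _root_.Matrix.cons_val_zero, _root_.Matrix.cons_val_succ, _root_.forall_const, _root_.one_mul, _root_.mul_one, _root_.and_self, _root_.implies_true])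

theorem map_X (φ : F →+* F) (c : F) (hc : c ≠ 0) (hc' : φ c ≠ 0) :
    Matrix.GeneralLinearGroup.map φ (tX c hc) = tX (φ c) hc' := by
  apply Units.ext
  ext i j
  show φ ((tX c hc : Matrix (Fin 4) (Fin 4) F) i j) = _
  (revert i j; simp only [tX, Matrix.diagonal, _root_.Fin.forall_fin_succ, _root_.Matrix.of_apply, Fin.isValue, _root_.Fin.succ_zero_eq_one, _root_.Fin.succ_one_eq_two, Fin.reduceSucc, _root_.IsEmpty.forall_iff, _root_.and_true, ↓reduceIte, _root_.Matrix.cons_val_zero, _root_.zero_ne_one, _root_.map_zero, Fin.reduceEq, _root_.and_self, _root_.Fin.succ_ne_zero, _root_.Matrix.cons_val_succ, _root_.true_and, _root_.map_inv₀, _root_.Matrix.cons_val_fin_one])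

theorem map_G (φ : F →+* F) : Matrix.GeneralLinearGroup.map φ (tG F) = tG F := by
  apply Units.ext
  ext i j
  show φ ((tG F : Matrix (Fin 4) (Fin 4) F) i j) = _
  (revert i j; simp only [tG, _root_.Fin.forall_fin_succ, _root_.Matrix.of_apply, _root_.Matrix.cons_val', _root_.Matrix.cons_val_fin_one, Fin.isValue, _root_.Matrix.cons_val_zero, _root_.Matrix.cons_val_succ, _root_.forall_const, _root_.map_zero, _root_.map_one, _root_.and_self, _root_.and_self_left, _root_.implies_true])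

theorem X_comm (c d : F) (hc : c ≠ 0) (hd : d ≠ 0) : tX c hc * tX d hd = tX d hd * tX c hc := by
  apply Units.ext
  rw [Units.val_mul, Units.val_mul]
  show Matrix.diagonal _ * Matrix.diagonal _ = Matrix.diagonal _ * Matrix.diagonal _
  rw [Matrix.diagonal_mul_diagonal, Matrix.diagonal_mul_diagonal]
  congr 1
  funext i
  exact mul_comm _ _

theorem map_X2 (φ : F →+* F) (c : F) (hc : c ≠ 0)
    (h : Matrix.GeneralLinearGroup.map φ (tX c hc * tX c hc) = tX c hc * tX c hc) : φ (c * c) = c * c := by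
  have h1 := congrArg (fun g : GL (Fin 4) F => (g : Matrix (Fin 4) (Fin 4) F) 0 0) h
  have h2 : ((tX c hc * tX c hc : GL (Fin 4) F) : Matrix (Fin 4) (Fin 4) F) 0 0 = c * c := by
    simp only [tX, Matrix.mul_apply, Matrix.diagonal, _root_.Fin.isValue, _root_.Units.val_mul, _root_.Matrix.of_apply, _root_.Matrix.cons_val_zero, _root_.mul_ite, _root_.ite_mul, _root_.MulZeroClass.zero_mul, _root_.MulZeroClass.mul_zero, _root_.Finset.sum_ite_eq', _root_.Finset.mem_univ, ↓ _root_.reduceIte]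
  have h3 : ((Matrix.GeneralLinearGroup.map φ (tX c hc * tX c hc) : GL (Fin 4) F) : Matrix (Fin 4) (Fin 4) F) 0 0 =
      φ (((tX c hc * tX c hc : GL (Fin 4) F) : Matrix (Fin 4) (Fin 4) F) 0 0) := rfl
  rw [h3, h2] at h1
  exact h1

theorem iso_T (c : F) (hc : c ≠ 0) : tT c hc ∈ Cfsg.isometryGroup F (q4 (F := F)) := by
  rw [Cfsg.Agent.H925.mem_iso_iff]
  intro v
  simp only [q4, tT, Matrix.mulVec, dotProduct, Matrix.diagonal, _root_.Fin.isValue, _root_.Matrix.of_apply, _root_.Matrix.cons_val_zero, _root_.ite_mul, _root_.MulZeroClass.zero_mul, _root_.Finset.sum_ite_eq, _root_.Finset.mem_univ, ↓ _root_.reduceIte, _root_.Matrix.cons_val_one, _root_.Matrix.cons_val, _root_.one_mul, _root_.add_left_inj]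
  field_simp

theorem iso_S : tS F ∈ Cfsg.isometryGroup F (q4 (F := F)) := by
  rw [Cfsg.Agent.H925.mem_iso_iff]
  intro v
  simp only [q4, tS, Matrix.mulVec, dotProduct, Fin.sum_univ_four, _root_.Fin.isValue, _root_.Matrix.of_apply, _root_.Matrix.cons_val', _root_.Matrix.cons_val_fin_one, _root_.Matrix.cons_val_zero, _root_.MulZeroClass.zero_mul, _root_.Matrix.cons_val_one, _root_.add_zero, _root_.Matrix.cons_val, _root_.one_mul, _root_.zero_add]
  ring

theorem iso_S2 : tS2 F ∈ Cfsg.isometryGroup F (q4 (F := F)) := by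
  rw [Cfsg.Agent.H925.mem_iso_iff]
  intro v
  simp only [q4, tS2, Matrix.mulVec, dotProduct, Fin.sum_univ_four, _root_.Fin.isValue, _root_.Matrix.of_apply, _root_.Matrix.cons_val', _root_.Matrix.cons_val_fin_one, _root_.Matrix.cons_val_zero, _root_.MulZeroClass.zero_mul, _root_.Matrix.cons_val_one, _root_.add_zero, _root_.Matrix.cons_val, _root_.one_mul, _root_.zero_add]
  ring

theorem iso_R : tR F ∈ Cfsg.isometryGroup F (q4 (F := F)) := by
  rw [Cfsg.Agent.H925.mem_iso_iff]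
  intro v
  simp only [q4, tR, Matrix.mulVec, dotProduct, Fin.sum_univ_four, _root_.Fin.isValue, _root_.Matrix.of_apply, _root_.Matrix.cons_val', _root_.Matrix.cons_val_fin_one, _root_.Matrix.cons_val_zero, _root_.MulZeroClass.zero_mul, _root_.Matrix.cons_val_one, _root_.one_mul, _root_.zero_add, _root_.Matrix.cons_val, _root_.add_zero, _root_.add_left_inj]
  ring

end four

/-! ### Two hyperbolic pairs -/

section geo

variable {ι : Type} [Fintype ι] [DecidableEq ι] {F : Type*} [Field F] {Q : (ι → F) → F}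

/-- two orthogonal hyperbolic pairs, scaled by `k` -/
structure Hyp4 (Q : (ι → F) → F) (k : F) (b : Fin 4 → ι → F) : Prop where
  q : ∀ i, Q (b i) = 0
  p01 : polar Q (b 0) (b 1) = k
  p23 : polar Q (b 2) (b 3) = k
  p02 : polar Q (b 0) (b 2) = 0
  p03 : polar Q (b 0) (b 3) = 0
  p12 : polar Q (b 1) (b 2) = 0
  p13 : polar Q (b 1) (b 3) = 0

/-- the linear form `polar Q x` -/
def pl (hQ : IsNondegenerateQuadraticForm Q) (x : ι → F) : (ι → F) →ₗ[F] F where
  toFun := polar Q x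
  map_add' := hQ.polar_bilinear.add_right x
  map_smul' c y := hQ.polar_bilinear.smul_right c x y

theorem Q_add (Q : (ι → F) → F) (x y : ι → F) : Q (x + y) = Q x + Q y + polar Q x y := by
  unfold polar
  ring

theorem polar_self (hQ : IsNondegenerateQuadraticForm Q) {x : ι → F} (hx : Q x = 0) : polar Q x x = 0 := by
  unfold polar
  rw [← two_smul F x, hQ.smul, hx]
  ring

/-- the permutation of the indices -/
def tau : Fin 4 → Fin 4 := ![1, 0, 3, 2]

/-- the matrix of the coordinates -/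
def RR (hQ : IsNondegenerateQuadraticForm Q) (k : F) (b : Fin 4 → ι → F) : Matrix (Fin 4) ι F :=
  LinearMap.toMatrix' (LinearMap.pi fun j => k⁻¹ • pl hQ (b (tau j)))

/-- the matrix with columns `b j` -/
def PP (b : Fin 4 → ι → F) : Matrix ι (Fin 4) F := Matrix.of fun i j => b j i

theorem RR_mulVec (hQ : IsNondegenerateQuadraticForm Q) (k : F) (b : Fin 4 → ι → F) (v : ι → F) (j : Fin 4) :
    (RR hQ k b *ᵥ v) j = k⁻¹ * polar Q (b (tau j)) v := by
  unfold RR
  rw [LinearMap.toMatrix'_mulVec]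
  rfl

theorem PP_mulVec (b : Fin 4 → ι → F) (w : Fin 4 → F) :
    PP b *ᵥ w = w 0 • b 0 + w 1 • b 1 + w 2 • b 2 + w 3 • b 3 := by
  ext i
  show ∑ j, b j i * w j = _
  rw [Fin.sum_univ_four]
  simp only [Pi.add_apply, Pi.smul_apply, smul_eq_mul]
  ring

variable (hQ : IsNondegenerateQuadraticForm Q) {k : F} (hk : k ≠ 0) {b : Fin 4 → ι → F} (hb : Hyp4 Q k b)

include hQ hb

theorem polar_PP (v : ι → F) (w : Fin 4 → F) : polar Q v (PP b *ᵥ w) =
    w 0 * polar Q v (b 0) + w 1 * polar Q v (b 1) + w 2 * polar Q v (b 2) + w 3 * polar Q v (b 3) := by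
  rw [PP_mulVec, hQ.polar_bilinear.add_right, hQ.polar_bilinear.add_right, hQ.polar_bilinear.add_right,
    hQ.polar_bilinear.smul_right, hQ.polar_bilinear.smul_right, hQ.polar_bilinear.smul_right,
    hQ.polar_bilinear.smul_right]

theorem polar_b (w : Fin 4 → F) : polar Q (b 0) (PP b *ᵥ w) = k * w 1 ∧ polar Q (b 1) (PP b *ᵥ w) = k * w 0 ∧
    polar Q (b 2) (PP b *ᵥ w) = k * w 3 ∧ polar Q (b 3) (PP b *ᵥ w) = k * w 2 := by
  have hs := fun i => polar_self hQ (hb.q i)
  have c10 := hb.p01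
  have c32 := hb.p23
  have c20 := hb.p02
  have c30 := hb.p03
  have c21 := hb.p12
  have c31 := hb.p13
  rw [polar_comm] at c10 c32 c20 c30 c21 c31
  refine ⟨?_, ?_, ?_, ?_⟩
  · rw [polar_PP hQ hb, hs, hb.p01, hb.p02, hb.p03]; ring
  · rw [polar_PP hQ hb, hs, c10, hb.p12, hb.p13]; ring
  · rw [polar_PP hQ hb, hs, hb.p23, c20, c21]; ring
  · rw [polar_PP hQ hb, hs, c30, c31, c32]; ring

theorem Q_PP (w : Fin 4 → F) : Q (PP b *ᵥ w) = k * q4 w := by
  have hs := hb.q
  have e1 : Q (w 0 • b 0 + w 1 • b 1) = w 0 * w 1 * k := by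
    rw [Q_add Q, hQ.smul, hQ.smul, hs, hs, hQ.polar_bilinear.smul_left, hQ.polar_bilinear.smul_right, hb.p01]
    ring
  have e2 : Q (w 0 • b 0 + w 1 • b 1 + w 2 • b 2) = w 0 * w 1 * k := by
    rw [Q_add Q, e1, hQ.smul, hs, hQ.polar_bilinear.smul_right, hQ.polar_bilinear.add_left,
      hQ.polar_bilinear.smul_left, hQ.polar_bilinear.smul_left, hb.p02, hb.p12]
    ring
  rw [PP_mulVec, Q_add Q, e2, hQ.smul, hs, hQ.polar_bilinear.smul_right, hQ.polar_bilinear.add_left,
    hQ.polar_bilinear.add_left, hQ.polar_bilinear.smul_left, hQ.polar_bilinear.smul_left,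
    hQ.polar_bilinear.smul_left, hb.p03, hb.p13, hb.p23]
  unfold q4
  ring

include hk

theorem RR_PP : RR hQ k b * PP b = 1 := by
  apply Matrix.mulVec_injective
  funext w
  funext j
  rw [← Matrix.mulVec_mulVec, RR_mulVec, Matrix.one_mulVec]
  obtain ⟨h0, h1, h2, h3⟩ := polar_b hQ hb w
  fin_cases j
  · show k⁻¹ * polar Q (b 1) (PP b *ᵥ w) = w 0
    rw [h1, inv_mul_cancel_left₀ hk]
  · show k⁻¹ * polar Q (b 0) (PP b *ᵥ w) = w 1
    rw [h0, inv_mul_cancel_left₀ hk]
  · show k⁻¹ * polar Q (b 3) (PP b *ᵥ w) = w 2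
    rw [h3, inv_mul_cancel_left₀ hk]
  · show k⁻¹ * polar Q (b 2) (PP b *ᵥ w) = w 3
    rw [h2, inv_mul_cancel_left₀ hk]

/-- the extension of an isometry of `q4` -/
theorem ext_iso {T : GL (Fin 4) F} (hT : T ∈ Cfsg.isometryGroup F (q4 (F := F))) :
    extG (RR_PP hQ hk hb) T ∈ Cfsg.isometryGroup F Q := by
  rw [Cfsg.Agent.H925.mem_iso_iff] at hT ⊢
  intro v
  set u := RR hQ k b *ᵥ v with hu
  have hcoord : ∀ j, k * u j = polar Q v (b (tau j)) := by
    intro j
    rw [hu, RR_mulVec, mul_inv_cancel_left₀ hk, polar_comm]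
  have c0 : polar Q v (b 1) = k * u 0 := (hcoord 0).symm
  have c1 : polar Q v (b 0) = k * u 1 := (hcoord 1).symm
  have c2 : polar Q v (b 3) = k * u 2 := (hcoord 2).symm
  have c3 : polar Q v (b 2) = k * u 3 := (hcoord 3).symm
  rw [extG_mulVec, Q_add Q, Q_PP hQ hb, polar_PP hQ hb, c0, c1, c2, c3, ← hu]
  have h1 := hT u
  set w := (T : Matrix (Fin 4) (Fin 4) F) *ᵥ u with hw
  unfold q4 at h1 ⊢
  simp only [Pi.sub_apply]
  linear_combination k * h1

/-- commutators of isometries of `q4` -/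
theorem ext_omega {S T : GL (Fin 4) F} (hS : S ∈ Cfsg.isometryGroup F (q4 (F := F)))
    (hT : T ∈ Cfsg.isometryGroup F (q4 (F := F))) : extG (RR_PP hQ hk hb) ⁅S, T⁆ ∈ omegaGL Q := by
  refine ⟨⁅⟨extG (RR_PP hQ hk hb) S, ext_iso hQ hk hb hS⟩, ⟨extG (RR_PP hQ hk hb) T, ext_iso hQ hk hb hT⟩⁆,
    Subgroup.commutator_mem_commutator (Subgroup.mem_top _) (Subgroup.mem_top _), ?_⟩
  rw [map_commutatorElement, map_commutatorElement]
  rfl

end geo

/-! ### Rational hyperbolic pairs -/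

section rat

open Cfsg.Agent.H926

variable {ι : Type} [Fintype ι] [DecidableEq ι] {F : Type*} [Field F] [Finite F] {Q : (ι → F) → F}

theorem exists_hyp4 (hQ : IsNondegenerateQuadraticForm Q) (h5 : 5 ≤ Fintype.card ι) {F₁ : Subfield F} {B : GL ι F}
    {ζ : F} (hζ : ζ ≠ 0) (hR : IsQuadFormRationalStructure (fun v => ζ * Q v) F₁ B) :
    ∃ b' : Fin 4 → ι → F₁, Hyp4 Q ζ⁻¹ (fun i => jmap F₁ B (b' i)) := by
  have : Finite F₁ := inferInstance
  have hnd := ndOn_form0 hQ hζ hR
  have hfr : Module.finrank F₁ (⊤ : Submodule F₁ (ι → F₁)) = Fintype.card ι := by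
    rw [finrank_top, Module.finrank_fintype_fun_eq_card]
  obtain ⟨e, he, f, hf, hef⟩ := split hnd (by rw [hfr]; omega)
  have h2 := ndOn_cut hnd hef he hf
  have hfr2 := finrank_cut hef he hf
  rw [hfr] at hfr2
  obtain ⟨e', he', f', hf', hef'⟩ := split h2 (by omega)
  obtain ⟨-, h3, h4⟩ := mem_cut.1 he'
  obtain ⟨-, h5, h6⟩ := mem_cut.1 hf'
  have hq : ∀ u : ι → F₁, form0 hQ hR u = 0 → Q (jmap F₁ B u) = 0 := by
    intro u hu
    have h := form0_apply hQ hR u
    rw [hu] at h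
    exact (mul_eq_zero.1 h.symm).resolve_left hζ
  have hp : ∀ u v : ι → F₁, polar Q (jmap F₁ B u) (jmap F₁ B v) = ζ⁻¹ * ((polar (form0 hQ hR) u v : F₁) : F) := by
    intro u v
    rw [polar_form0, inv_mul_cancel_left₀ hζ]
  refine ⟨![e, f, e', f'], ?_, ?_, ?_, ?_, ?_, ?_, ?_⟩
  · intro i
    fin_cases i
    · exact hq e hef.left
    · exact hq f hef.right
    · exact hq e' hef'.left
    · exact hq f' hef'.right
  · show polar Q (jmap F₁ B e) (jmap F₁ B f) = ζ⁻¹
    rw [hp, hef.pair]; simp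
  · show polar Q (jmap F₁ B e') (jmap F₁ B f') = ζ⁻¹
    rw [hp, hef'.pair]; simp
  · show polar Q (jmap F₁ B e) (jmap F₁ B e') = 0
    rw [hp, h3]; simp
  · show polar Q (jmap F₁ B e) (jmap F₁ B f') = 0
    rw [hp, h5]; simp
  · show polar Q (jmap F₁ B f) (jmap F₁ B e') = 0
    rw [hp, h4]; simp
  · show polar Q (jmap F₁ B f) (jmap F₁ B f') = 0
    rw [hp, h6]; simp

/-- a nonzero element of `F` whose square is not in `F₁` -/
theorem exists_sq_notMem {F₁ : Subfield F} {r : ℕ} (hr : 2 ≤ r) (hcard : Nat.card F = Nat.card F₁ ^ r) :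
    ∃ c : F, c ≠ 0 ∧ c * c ∉ F₁ := by
  by_contra hcon
  push Not at hcon
  have := Fintype.ofFinite F
  have := Fintype.ofFinite F₁
  obtain ⟨g, hg⟩ := IsCyclic.exists_generator (α := Fˣ)
  have h1 : orderOf g = Nat.card F - 1 := by
    rw [orderOf_eq_card_of_forall_mem_zpowers hg, Nat.card_units]
  have hq1 : 1 < Nat.card F₁ := Finite.one_lt_card
  have h2 : g ^ (2 * (Nat.card F₁ - 1)) = 1 := by
    apply Units.ext
    rw [Units.val_pow_eq_pow_val, pow_mul, pow_two, Units.val_one]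
    have h3 := hcon g g.ne_zero
    have h4 : (⟨(g : F) * g, h3⟩ : F₁) ≠ 0 := by
      intro h5
      exact (mul_ne_zero g.ne_zero g.ne_zero) (congrArg Subtype.val h5)
    have h5 := FiniteField.pow_card_sub_one_eq_one _ h4
    rw [← Nat.card_eq_fintype_card] at h5
    exact congrArg Subtype.val h5
  have h3 := Nat.le_of_dvd (by omega) (orderOf_dvd_of_pow_eq_one h2)
  rw [h1, hcard] at h3
  have h4 : Nat.card F₁ ^ 2 ≤ Nat.card F₁ ^ r := Nat.pow_le_pow_right (by omega) hr
  set q := Nat.card F₁ with hq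
  have h5 : q ^ 2 - 1 ≤ 2 * (q - 1) := (Nat.sub_le_sub_right h4 1).trans h3
  obtain ⟨t, ht⟩ : ∃ t, q = t + 2 := ⟨q - 2, by omega⟩
  rw [ht] at h5
  have h6 : (t + 2) ^ 2 = t * t + 4 * t + 4 := by ring
  rw [h6] at h5
  have h7 : t + 2 - 1 = t + 1 := by (clear * -; omega)
  rw [h7] at h5
  have h8 : 0 ≤ t * t := Nat.zero_le _
  omega

end rat

/-- **S3499-III-Om-C5.** -/
theorem om_C5 {Q : Type*} [Group Q] [Finite Q] (_hs : IsSimpleGroup Q) {A : Subgroup Q} {Γ : Subgroup (MulAut Q)}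
    (h : EPT A Γ) {F : Type*} [Field F] [Fintype F] {ι : Type} [Fintype ι] [DecidableEq ι] {Qf : (ι → F) → F}
    (m : Model Q (omegaGL Qf)) (h7 : 7 ≤ Fintype.card ι) (hQ : IsNondegenerateQuadraticForm Qf)
    (hirr : ActsIrreducibly (matrixSet (m.hat A))) {F₁ : Subfield F} {r : ℕ} {B : GL ι F} {ζ : F} (hr : r.Prime)
    (hcard : Nat.card F = Nat.card F₁ ^ r) (hζ : ζ ≠ 0) (hB : IsFormRationalStructure (polar Qf) F₁ ζ B)
    (hA : m.hat A ≤ subfieldSubgroup F₁ B) : False := by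
  have hiso : m.hat A ≤ Cfsg.isometryGroup F Qf := by
    refine (m.hat_le A).trans ?_
    rintro _ ⟨g, -, rfl⟩
    exact g.2
  have hR := Cfsg.Agent.H926.quadRational_of_formRational hQ (by omega) hiso hirr hA hζ hB
  obtain ⟨b', hb⟩ := exists_hyp4 hQ (by omega) hζ hR
  obtain ⟨φ, hφ⟩ := exists_phi F₁
  obtain ⟨c, hc, hcc⟩ := exists_sq_notMem hr.two_le hcard
  have hk : ζ⁻¹ ≠ 0 := inv_ne_zero hζ
  have hφc : φ c ≠ 0 := (map_ne_zero φ).2 hc
  -- rationality of the two matrices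
  have hP : ((B⁻¹ : GL ι F).val * PP (fun i => Cfsg.Agent.H926.jmap F₁ B (b' i))).map φ =
      (B⁻¹ : GL ι F).val * PP (fun i => Cfsg.Agent.H926.jmap F₁ B (b' i)) := by
    have h1 : ∀ i j, ((B⁻¹ : GL ι F).val * PP (fun i => Cfsg.Agent.H926.jmap F₁ B (b' i))) i j = (b' j i : F) := by
      intro i j
      have h2 : ((B⁻¹ : GL ι F).val * PP (fun i => Cfsg.Agent.H926.jmap F₁ B (b' i))) i j =
          ((B⁻¹ : GL ι F).val *ᵥ (Cfsg.Agent.H926.jmap F₁ B (b' j))) i := rfl
      rw [h2]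
      unfold Cfsg.Agent.H926.jmap
      rw [Matrix.mulVec_mulVec, Units.inv_mul, Matrix.one_mulVec]
    ext i j
    rw [Matrix.map_apply, h1]
    exact (hφ _).1 (b' j i).2
  have hR' : (RR hQ ζ⁻¹ (fun i => Cfsg.Agent.H926.jmap F₁ B (b' i)) * (B : Matrix ι ι F)).map φ =
      RR hQ ζ⁻¹ (fun i => Cfsg.Agent.H926.jmap F₁ B (b' i)) * (B : Matrix ι ι F) := by
    ext j i
    rw [Matrix.map_apply]
    apply (hφ _).1
    have h2 : (RR hQ ζ⁻¹ (fun i => Cfsg.Agent.H926.jmap F₁ B (b' i)) * (B : Matrix ι ι F)) j i =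
        (RR hQ ζ⁻¹ (fun i => Cfsg.Agent.H926.jmap F₁ B (b' i)) *ᵥ ((B : Matrix ι ι F) *ᵥ (Pi.single i 1))) j := by
      rw [Matrix.mulVec_mulVec, Matrix.mulVec_single_one]
      rfl
    rw [h2, RR_mulVec, inv_inv]
    refine hB _ _ (fun t => (b' (tau j) t).2) (fun t => ?_)
    by_cases hti : t = i
    · subst hti
      rw [Pi.single_eq_same]
      exact F₁.one_mem
    · rw [Pi.single_eq_of_ne hti]
      exact F₁.zero_mem
  refine kill_ext (RR_PP hQ hk hb) h m hφ hA hP hR' (by rw [Fintype.card_fin]; omega)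
    (X := tX c hc) (G := tG F) ?_ ?_ (map_G φ) (G_X c hc) ?_ ?_
  · rw [← comm_X]
    exact ext_omega hQ hk hb (iso_T c hc) iso_S
  · rw [← comm_G]
    exact ext_omega hQ hk hb iso_R iso_S2
  · rw [map_X φ c hc hφc]
    exact X_comm _ _ _ _
  · intro h1
    exact hcc ((hφ _).2 (map_X2 φ c hc h1))

end Cfsg.Agent.H96.C5.Orth
end

-- part: H96/C5/OmRow
section
/-!
# S3499, row `OmC5` of helper778's assembly (helper96)
-/

set_option autoImplicit false

namespace Cfsg.Agent.H96.C5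

open Cfsg.Agent.H284 Cfsg.Agent.H419.EP

theorem omC5 : Cfsg.Agent.H778.EP.OmC5 := by
  intro Q _ _ hs A Γ h F _ _ ι _ _ Qf m h7 hQ hC
  obtain ⟨hirr, F₁, r, B, ζ, -, hr, hcard, hζ, hB, hA⟩ := hC
  exact Orth.om_C5 hs h m h7 hQ hirr hr hcard hζ hB hA

end Cfsg.Agent.H96.C5
end

-- part: H491/EP/OmC6
section
/-!
# S3499, orthogonal groups, class C6 (helper491)
-/

set_option autoImplicit false

namespace Cfsg.Agent.H491.EP

open Subgroup Module Cfsg Cfsg.Agent.H284 Cfsg.Agent.H419.EP Cfsg.Geo QuadraticMap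
open scoped MatrixGroups Matrix

variable {ι : Type} [Fintype ι] [DecidableEq ι] {F : Type*} [Field F]

/-- for an involution `v`, with `r v = -v r`, the fixed space has dimension at least `n / 2` -/
theorem finrank_fixed (h2 : (2 : F) ≠ 0) {v r : GL ι F} (h1 : v * v = 1) (hr : r * v = -1 * (v * r)) :
    ∃ W : Submodule F (ι → F), (∀ w ∈ W, (v : Matrix ι ι F) *ᵥ w = w) ∧ Fintype.card ι ≤ 2 * finrank F W := by
  let W : Submodule F (ι → F) :=
    { carrier := {w | (v : Matrix ι ι F) *ᵥ w = w}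
      add_mem' := fun {a b} ha hb => by
        rw [Set.mem_ofPred_eq] at ha hb ⊢
        rw [Matrix.mulVec_add, ha, hb]
      zero_mem' := Matrix.mulVec_zero _
      smul_mem' := fun c a ha => by
        rw [Set.mem_ofPred_eq] at ha ⊢
        rw [Matrix.mulVec_smul, ha] }
  let W' : Submodule F (ι → F) :=
    { carrier := {w | (v : Matrix ι ι F) *ᵥ w = -w}
      add_mem' := fun {a b} ha hb => by
        rw [Set.mem_ofPred_eq] at ha hb ⊢
        rw [Matrix.mulVec_add, ha, hb, neg_add]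
      zero_mem' := by rw [Set.mem_ofPred_eq, Matrix.mulVec_zero, neg_zero]
      smul_mem' := fun c a ha => by
        rw [Set.mem_ofPred_eq] at ha ⊢
        rw [Matrix.mulVec_smul, ha, smul_neg] }
  have hW : ∀ w, w ∈ W ↔ (v : Matrix ι ι F) *ᵥ w = w := fun w => Iff.rfl
  have hW' : ∀ w, w ∈ W' ↔ (v : Matrix ι ι F) *ᵥ w = -w := fun w => Iff.rfl
  have hvv : ∀ x, (v : Matrix ι ι F) *ᵥ ((v : Matrix ι ι F) *ᵥ x) = x := by
    intro x
    rw [Matrix.mulVec_mulVec, ← Units.val_mul, h1, Units.val_one, Matrix.one_mulVec]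
  have htop : W ⊔ W' = ⊤ := by
    rw [Submodule.eq_top_iff']
    intro x
    have h3 : x = (2 : F)⁻¹ • (x + (v : Matrix ι ι F) *ᵥ x) + (2 : F)⁻¹ • (x - (v : Matrix ι ι F) *ᵥ x) := by
      rw [← smul_add, add_add_sub_cancel, ← two_smul F x, inv_smul_smul₀ h2]
    rw [h3]
    refine Submodule.add_mem_sup (W.smul_mem _ ?_) (W'.smul_mem _ ?_)
    · rw [hW, Matrix.mulVec_add, hvv, add_comm]
    · rw [hW', Matrix.mulVec_sub, hvv, neg_sub]
  have hd := Submodule.finrank_add_le_finrank_add_finrank W W'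
  rw [htop, finrank_top, Module.finrank_fintype_fun_eq_card] at hd
  have hinj : Function.Injective (Matrix.toLin' (r : Matrix ι ι F)) := by
    intro x y hxy
    rw [Matrix.toLin'_apply, Matrix.toLin'_apply] at hxy
    have h3 := congrArg (fun z => ((r⁻¹ : GL ι F) : Matrix ι ι F) *ᵥ z) hxy
    simpa only [Matrix.mulVec_mulVec, ← Units.val_mul, inv_mul_cancel, Units.val_one, Matrix.one_mulVec] using h3
  have hle : W'.map (Matrix.toLin' (r : Matrix ι ι F)) ≤ W := by
    rintro _ ⟨x, hx, rfl⟩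
    have hx' : (v : Matrix ι ι F) *ᵥ x = -x := hx
    rw [hW, Matrix.toLin'_apply, Matrix.mulVec_mulVec, ← Units.val_mul]
    have h3 : v * r = -1 * (r * v) := by rw [hr, ← mul_assoc, neg_one_sq, one_mul]
    rw [h3, Units.val_mul, Units.val_neg, Units.val_one, neg_one_mul, Matrix.neg_mulVec, Units.val_mul,
      ← Matrix.mulVec_mulVec, hx', Matrix.mulVec_neg, neg_neg]
  have hd' : finrank F W' ≤ finrank F W := by
    rw [(Submodule.equivMapOfInjective _ hinj W').finrank_eq]
    exact Submodule.finrank_mono hle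
  exact ⟨W, fun w hw => hw, by omega⟩

/-- powers of a Siegel transformation -/
theorem siegel_pow {q : QuadraticForm F (ι → F)} {u w : ι → F} (hu : q u = 0) (hw : polar q u w = 0) {t : GL ι F}
    (ht : ∀ x, (t : Matrix ι ι F) *ᵥ x = x + polar q u x • w - polar q w x • u - (q w * polar q u x) • u) (n : ℕ)
    (x : ι → F) : ((t ^ n : GL ι F) : Matrix ι ι F) *ᵥ x =
      x + ((n : F) * polar q u x) • w - ((n : F) * polar q w x) • u - ((n : F) * n * (q w * polar q u x)) • u := by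
  have huu : polar q u u = 0 := by rw [QuadraticMap.polar_self, hu, smul_zero]
  have hww : polar q w w = 2 * q w := by rw [QuadraticMap.polar_self, two_nsmul, two_mul]
  have hwu : polar q w u = 0 := by rw [QuadraticMap.polar_comm, hw]
  induction n with
  | zero =>
    rw [pow_zero, Units.val_one, Matrix.one_mulVec, Nat.cast_zero]
    simp only [zero_mul, zero_smul, add_zero, sub_zero]
  | succ n ih =>
    have h1 : polar q u (((t ^ n : GL ι F) : Matrix ι ι F) *ᵥ x) = polar q u x := by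
      rw [ih]
      simp only [sub_eq_add_neg, ← neg_smul, QuadraticMap.polar_add_right, QuadraticMap.polar_smul_right, hw, huu, smul_zero,
        add_zero]
    have h2 : polar q w (((t ^ n : GL ι F) : Matrix ι ι F) *ᵥ x) = polar q w x + (n : F) * polar q u x * (2 * q w) := by
      rw [ih]
      simp only [sub_eq_add_neg, ← neg_smul, QuadraticMap.polar_add_right, QuadraticMap.polar_smul_right, hww, hwu,
        mul_zero, add_zero, smul_eq_mul]
    rw [pow_succ', Units.val_mul, ← Matrix.mulVec_mulVec, ht, h1, h2, ih, Nat.cast_succ]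
    module

/-- a Siegel transformation which normalises `R` does not exist -/
theorem siegel_not_norm [Fintype F] {R : Subgroup (GL ι F)} (hn : 5 ≤ Fintype.card ι) (h2 : (2 : F) ≠ 0)
    (habs : ActsAbsolutelyIrreducibly (matrixSet R)) (h : PM R) {q : QuadraticForm F (ι → F)}
    (hnd : ∀ x, x ≠ 0 → ∃ y, polar q x y ≠ 0) {u w : ι → F}
    (hu : q u = 0) (hu0 : u ≠ 0) (hw : polar q u w = 0) (hwu : ∀ c : F, w ≠ c • u) {t : GL ι F}
    (ht : ∀ x, (t : Matrix ι ι F) *ᵥ x = x + polar q u x • w - polar q w x • u - (q w * polar q u x) • u)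
    (htn : ∀ x ∈ R, t * x * t⁻¹ ∈ R) : False := by
  have hpo : Odd (ringChar F) := by
    rcases (CharP.char_is_prime F (ringChar F)).eq_two_or_odd' with h3 | h3
    · exfalso
      apply h2
      have := CharP.cast_eq_zero F (ringChar F)
      rw [h3] at this
      exact_mod_cast this
    · exact h3
  have hp0 : ((ringChar F : ℕ) : F) = 0 := CharP.cast_eq_zero F (ringChar F)
  have htp : t ^ ringChar F = 1 := by
    apply Units.ext
    apply Matrix.toLin'.injective
    apply LinearMap.ext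
    intro x
    rw [Matrix.toLin'_apply, Matrix.toLin'_apply, siegel_pow hu hw ht, hp0, Units.val_one, Matrix.one_mulVec]
    simp only [zero_mul, zero_smul, add_zero, sub_zero]
  let φ : (ι → F) →ₗ[F] F × F := (polarBilin q u).prod (polarBilin q w)
  have hfix : ∀ x ∈ LinearMap.ker φ, (t : Matrix ι ι F) *ᵥ x = x := by
    intro x hx
    have h3 : (polar q u x, polar q w x) = (0, 0) := hx
    have h4 := congrArg Prod.fst h3
    have h5 := congrArg Prod.snd h3
    simp only at h4 h5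
    rw [ht, h4, h5]
    simp only [mul_zero, zero_smul, add_zero, sub_zero]
  have hdim : Fintype.card ι < 2 * finrank F (LinearMap.ker φ) := by
    have h1 := LinearMap.finrank_range_add_finrank_ker φ
    have h3 : finrank F (LinearMap.range φ) ≤ 2 := by
      have := Submodule.finrank_le (LinearMap.range φ)
      rwa [finrank_prod, finrank_self] at this
    rw [Module.finrank_fintype_fun_eq_card] at h1
    omega
  have hs := scalar_of_fix h2 habs h (t := t) htn hpo htp _ hfix hdim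
  obtain ⟨c, hc⟩ := (mem_scalars_iff _).1 hs
  have hval : ∀ x, x + polar q u x • w - polar q w x • u - (q w * polar q u x) • u = (c : F) • x := by
    intro x
    rw [← ht, hc, Matrix.smul_mulVec, Matrix.one_mulVec]
  have huu : polar q u u = 0 := by rw [QuadraticMap.polar_self, hu, smul_zero]
  have hwu' : polar q w u = 0 := by rw [QuadraticMap.polar_comm, hw]
  have h1 := hval u
  rw [huu, hwu'] at h1
  simp only [mul_zero, zero_smul, add_zero, sub_zero] at h1
  have hc1 : (c : F) = 1 := by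
    have h3 : ((1 : F) - c) • u = 0 := by rw [sub_smul, one_smul, ← h1, sub_self]
    have h4 := (smul_eq_zero.1 h3).resolve_right hu0
    exact (sub_eq_zero.1 h4).symm
  obtain ⟨y, hy⟩ := hnd u hu0
  have h3 := hval y
  rw [hc1, one_smul] at h3
  apply hwu ((polar q u y)⁻¹ * (polar q w y + q w * polar q u y))
  have h4 : polar q u y • w = (polar q w y + q w * polar q u y) • u := by
    rw [add_smul]
    rw [← sub_eq_zero, ← sub_eq_zero.2 h3]
    abel
  rw [mul_smul, ← h4, inv_smul_smul₀ hy]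

/-- **S3499-III-Om-C6** -/
theorem om_c6 {Q : Type*} [Group Q] [Finite Q] {A : Subgroup Q} {Γ : Subgroup (MulAut Q)} (h : EPT A Γ)
    {F : Type*} [Field F] [Fintype F] {ι : Type} [Fintype ι] [DecidableEq ι] {Qf : (ι → F) → F}
    (hQ : IsNondegenerateQuadraticForm Qf) (hn : 7 ≤ Fintype.card ι) (m : Model Q (omegaGL Qf)) {r j : ℕ}
    {R : Subgroup (GL ι F)} (hRA : R ≤ m.hat A) (hRn : ∀ g ∈ m.hat A, ∀ x ∈ R, g * x * g⁻¹ ∈ R)
    (habs : ActsAbsolutelyIrreducibly (matrixSet R)) (hR : IsSymplecticTypeGroup r R) (hchar : ringChar F ≠ r)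
    (hcard : Fintype.card ι = r ^ j) (hc : center R = (scalars ι F).subgroupOf R)
    (ht : (Odd r ∧ Nat.card (center R) = r ∧ Nat.card R = r ^ (1 + 2 * j)) ∨
      (r = 2 ∧ Nat.card (center R) = 4 ∧ Nat.card R = 2 ^ (2 + 2 * j)) ∨
      (r = 2 ∧ Nat.card (center R) = 2 ∧ Nat.card R = 2 ^ (1 + 2 * j))) : False := by
  classical
  have hne : Nonempty ι := Fintype.card_pos_iff.1 (by omega)
  have hiso : ∀ g ∈ m.hat A, ∀ x, Qf ((g : Matrix ι ι F) *ᵥ x) = Qf x := by
    intro g hg x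
    exact Cfsg.Agent.H925.omegaGL_le_iso Qf (m.hat_le A hg) x x
  have hpol : ∀ g ∈ m.hat A, ∀ x y, polar Qf ((g : Matrix ι ι F) *ᵥ x) ((g : Matrix ι ι F) *ᵥ y) = polar Qf x y := by
    intro g hg x y
    simp only [polar, ← Matrix.mulVec_add, hiso g hg]
  -- the centre
  have hZ2 : Nat.card (center R) ≤ 2 := by
    obtain ⟨x, hx⟩ : ∃ x, Qf x ≠ 0 := by
      by_contra hcon
      push Not at hcon
      obtain ⟨x, hx0⟩ : ∃ x : ι → F, x ≠ 0 := exists_ne 0
      obtain ⟨y, hy⟩ := (hQ.nondegenerate x hx0).1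
      apply hy
      simp only [polar, hcon, sub_zero]
    have h1 : ∀ z : center R, ((z : R) : GL ι F) = 1 ∨ ((z : R) : GL ι F) = -1 := by
      intro z
      have h3 : (z : R) ∈ (scalars ι F).subgroupOf R := hc ▸ z.2
      rw [mem_subgroupOf, mem_scalars_iff] at h3
      obtain ⟨c, hc'⟩ := h3
      have h4 := hiso _ (hRA (z : R).2) x
      rw [hc', Matrix.smul_mulVec, Matrix.one_mulVec, hQ.smul] at h4
      have h5 : (c : F) ^ 2 = 1 := mul_right_cancel₀ hx (h4.trans (one_mul _).symm)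
      rcases mul_self_eq_one_iff.1 ((pow_two _).symm.trans h5) with h6 | h6
      · left
        apply Units.ext
        rw [hc', h6, one_smul, Units.val_one]
      · right
        apply Units.ext
        rw [hc', h6, Units.val_neg, Units.val_one, neg_smul, one_smul]
    have h3 : Nat.card (center R) ≤ Nat.card ({1, -1} : Set (GL ι F)) :=
      Nat.card_le_card_of_injective (fun z => (⟨((z : R) : GL ι F), by
        rcases h1 z with h | h
        · exact Or.inl h
        · exact Or.inr h⟩ : ({1, -1} : Set (GL ι F)))) (fun z z' hz => by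
        have h5 := congrArg (fun x : ({1, -1} : Set (GL ι F)) => (x : GL ι F)) hz
        exact Subtype.ext (Subtype.ext h5))
    refine h3.trans ?_
    change ({1, -1} : Set (GL ι F)).ncard ≤ 2
    exact (Set.ncard_insert_le _ _).trans (by rw [Set.ncard_singleton])
  obtain ⟨rfl, hZ, hRc⟩ : r = 2 ∧ Nat.card (center R) = 2 ∧ Nat.card R = 2 ^ (1 + 2 * j) := by
    rcases ht with ⟨h1, h3, -⟩ | ⟨-, h3, -⟩ | h3
    · exfalso
      have h4 := hR.prime.two_le
      obtain ⟨i, hi⟩ := h1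
      omega
    · omega
    · exact h3
  have h2 : (2 : F) ≠ 0 := by
    intro h2
    apply hchar
    have h3 : CharP F 2 := CharTwo.of_one_ne_zero_of_two_eq_zero one_ne_zero h2
    exact ringChar.eq F 2 ▸ rfl
  have hPM := pm_of hR habs hZ
  have hj : 3 ≤ j := by
    by_contra h3
    have h4 : 2 ^ j ≤ 2 ^ 2 := Nat.pow_le_pow_right (by norm_num) (by omega)
    omega
  have hcard8 : 8 < Nat.card R := by
    have h3 : 2 ^ 7 ≤ Nat.card R := by
      rw [hRc]
      exact Nat.pow_le_pow_right (by norm_num) (by omega)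
    omega
  have hn8 : 8 ≤ Fintype.card ι := by
    rw [hcard]
    exact Nat.pow_le_pow_right (n := 2) (by norm_num) hj
  obtain ⟨v, hv, hv1, hv2, hv3⟩ := exists_invol hPM hcard8
  have hvs := not_scalar_of_invol hv1 hv2 hv3
  -- `r v = -v r`
  obtain ⟨s, hs, hsv⟩ : ∃ s ∈ R, s * v = -1 * (v * s) := by
    by_contra hcon
    push Not at hcon
    apply hvs
    have h3 : (⟨v, hv⟩ : R) ∈ center R := by
      rw [mem_center_iff]
      rintro ⟨s, hs⟩
      apply Subtype.ext
      rcases hPM.comm s hs v hv with h4 | h4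
      · exact h4
      · exact absurd h4 (hcon s hs)
    rw [hc, mem_subgroupOf] at h3
    exact h3
  obtain ⟨W, hW, hWd⟩ := finrank_fixed h2 hv1 hsv
  set q := Cfsg.Agent.H925.qf hQ with hq
  have hqc : (q : (ι → F) → F) = Qf := rfl
  obtain ⟨u', hu'0, hu'⟩ := Cfsg.Agent.H181.StdBasis.exists_singular (q.comp W.subtype) (by omega)
  set u : ι → F := (u' : ι → F) with hu
  have hu0 : u ≠ 0 := fun e => hu'0 (Subtype.ext e)
  have hqu : q u = 0 := hu'
  -- the second vector
  obtain ⟨w, hwW, hwu, hwc⟩ : ∃ w ∈ W, polar q u w = 0 ∧ ∀ c : F, w ≠ c • u := by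
    by_contra hcon
    push Not at hcon
    let ψ : W →ₗ[F] F := (polarBilin q u).comp W.subtype
    have h3 := LinearMap.finrank_range_add_finrank_ker ψ
    have h4 : finrank F (LinearMap.range ψ) ≤ 1 := by
      have := Submodule.finrank_le (LinearMap.range ψ)
      rwa [finrank_self] at this
    have h5 : LinearMap.ker ψ ≤ Submodule.span F {u'} := by
      intro x hx
      obtain ⟨c, hc⟩ := hcon x x.2 hx
      rw [Submodule.mem_span_singleton]
      exact ⟨c, Subtype.ext hc.symm⟩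
    have h6 := Submodule.finrank_mono h5
    have h7 := finrank_span_singleton (K := F) hu'0
    omega
  obtain ⟨t, htO, ht'⟩ := Cfsg.Agent.H925.exists_siegel hQ (by omega) (u := u) (w := w) hqu hwu
  have htA : t ∈ m.hat A := by
    refine mem_hat_of_comm m h Nat.prime_two hRA hRn hR.pGroup hv hvs htO ?_
    apply Units.ext
    apply Matrix.toLin'.injective
    apply LinearMap.ext
    intro x
    have h3 : polar Qf u ((v : Matrix ι ι F) *ᵥ x) = polar Qf u x := by
      rw [← hpol v (hRA hv) u x, hW u u'.2]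
    have h4 : polar Qf w ((v : Matrix ι ι F) *ᵥ x) = polar Qf w x := by
      rw [← hpol v (hRA hv) w x, hW w hwW]
    rw [Matrix.toLin'_apply, Matrix.toLin'_apply, Units.val_mul, Units.val_mul, ← Matrix.mulVec_mulVec,
      ← Matrix.mulVec_mulVec, ht', ht', h3, h4, Matrix.mulVec_sub, Matrix.mulVec_sub, Matrix.mulVec_add, Matrix.mulVec_smul,
      Matrix.mulVec_smul, Matrix.mulVec_smul, hW u u'.2, hW w hwW]
  exact siegel_not_norm (by omega) h2 habs hPM (q := q) (fun x hx => (hQ.nondegenerate x hx).2) hqu hu0 hwu hwc ht'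
    (hRn t htA)

end Cfsg.Agent.H491.EP
end

-- part: H681/EP/OmThree
section
/-!
# S3499, class C4, a factor `SL₂(3)` (helper681)

`kill_three`: `|F| = 3`, `A` in the stabiliser of a tensor decomposition with a symplectic factor of dimension two. The
normal subgroup `1 ⊗ Q₈` of `A` is elementary abelian modulo scalars, and one of its elements lies in another conjugate
of `A`.
-/

set_option autoImplicit false
set_option linter.unusedSectionVars false

namespace Cfsg.Agent.H681.EP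

open Matrix Subgroup Cfsg.Agent.H284 Cfsg.Agent.H419.EP Cfsg.Agent.H487.EP Cfsg.Geo
open scoped MatrixGroups Kronecker

section q8
variable {F : Type*} [Field F] [Fintype F]

theorem three_claim (h3 : Fintype.card F = 3) {a b c x y z : F} (h1 : a * a + b * c = -1) (h2 : x * x + y * z = -1) :
    2 * a * x + b * z + c * y = 0 ∨ (a = x ∧ b = y ∧ c = z) ∨ (a = -x ∧ b = -y ∧ c = -z) := by
  have key : ∀ a b c x y z : ZMod 3, a * a + b * c = -1 → x * x + y * z = -1 →
      2 * a * x + b * z + c * y = 0 ∨ (a = x ∧ b = y ∧ c = z) ∨ (a = -x ∧ b = -y ∧ c = -z) := by decide +kernel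
  let φ : F ≃+* ZMod 3 := (ZMod.ringEquivOfPrime F Nat.prime_three h3).symm
  have h := key (φ a) (φ b) (φ c) (φ x) (φ y) (φ z) (by rw [← map_mul, ← map_mul, ← map_add, h1, map_neg, map_one])
    (by rw [← map_mul, ← map_mul, ← map_add, h2, map_neg, map_one])
  rcases h with h | ⟨e1, e2, e3⟩ | ⟨e1, e2, e3⟩
  · left
    apply φ.injective
    rw [map_add, map_add, map_mul, map_mul, map_mul, map_mul, map_ofNat, map_zero]
    exact h
  · exact Or.inr (Or.inl ⟨φ.injective e1, φ.injective e2, φ.injective e3⟩)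
  · refine Or.inr (Or.inr ⟨φ.injective ?_, φ.injective ?_, φ.injective ?_⟩) <;> rw [map_neg] <;> assumption

theorem three_zero (h3 : Fintype.card F = 3) : (3 : F) = 0 := by
  let φ : ZMod 3 ≃+* F := ZMod.ringEquivOfPrime F Nat.prime_three h3
  have h : φ 3 = 3 := map_ofNat φ 3
  rw [← h, show (3 : ZMod 3) = 0 by decide, map_zero]

/-- the matrices of `Q₈` -/
def T8 (M : Matrix (Fin 2) (Fin 2) F) : Prop := M.det = 1 ∧ (M = 1 ∨ M = -1 ∨ M 0 0 + M 1 1 = 0)

theorem T8.cases {M : Matrix (Fin 2) (Fin 2) F} (h : T8 M) :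
    M = 1 ∨ M = -1 ∨ ∃ a b c : F, M = !![a, b; c, -a] ∧ a * a + b * c = -1 := by
  obtain ⟨hd, h1 | h1 | h1⟩ := h
  · exact Or.inl h1
  · exact Or.inr (Or.inl h1)
  · refine Or.inr (Or.inr ⟨M 0 0, M 0 1, M 1 0, ?_, ?_⟩)
    · have e : M 1 1 = -M 0 0 := by linear_combination h1
      rw [← e]
      exact Matrix.eta_fin_two M
    · rw [Matrix.det_fin_two] at hd
      linear_combination (M 0 0) * h1 - hd

theorem T8.of {a b c : F} (h : a * a + b * c = -1) : T8 !![a, b; c, -a] := by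
  refine ⟨?_, Or.inr (Or.inr ?_)⟩
  · rw [Matrix.det_fin_two_of]
    linear_combination -h
  · simp

theorem T8.one : T8 (1 : Matrix (Fin 2) (Fin 2) F) := ⟨Matrix.det_one, Or.inl rfl⟩

theorem T8.neg {M : Matrix (Fin 2) (Fin 2) F} (h : T8 M) : T8 (-M) := by
  obtain ⟨hd, h1⟩ := h
  refine ⟨?_, ?_⟩
  · rw [Matrix.det_fin_two] at hd ⊢
    rw [← hd]
    simp
  · rcases h1 with h1 | h1 | h1
    · exact Or.inr (Or.inl (by rw [h1]))
    · exact Or.inl (by rw [h1, neg_neg])
    · refine Or.inr (Or.inr ?_)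
      rw [Matrix.neg_apply, Matrix.neg_apply, ← neg_add, h1, neg_zero]

theorem sq8 {a b c : F} (h : a * a + b * c = -1) : !![a, b; c, -a] * !![a, b; c, -a] = -1 := by
  ext i j
  (revert i j; simp only [Matrix.mul_apply, Fin.sum_univ_two, _root_.Fin.forall_fin_succ, _root_.Matrix.of_apply, _root_.Matrix.cons_val', _root_.Matrix.cons_val_fin_one, Fin.isValue, _root_.Matrix.cons_val_zero, _root_.Matrix.cons_val_one, _root_.Matrix.neg_apply, _root_.Matrix.cons_val_succ, _root_.mul_neg, _root_.IsEmpty.forall_iff, _root_.Matrix.one_apply_eq, Nat.reduceAdd, _root_.Fin.succ_zero_eq_one, _root_.ne_eq, _root_.zero_ne_one, _root_.not_false_eq_true, _root_.Matrix.one_apply_ne, _root_.neg_zero, _root_.neg_mul, _root_.Fin.succ_ne_zero, _root_.neg_neg, _root_.and_true, _root_.true_and]) <;> (repeat' with_reducible apply And.intro)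
  · exact h
  · ring
  · ring
  · linear_combination h

theorem T8.mul_comm (h3 : Fintype.card F = 3) {M N : Matrix (Fin 2) (Fin 2) F} (hM : T8 M) (hN : T8 N) :
    T8 (M * N) ∧ (M * N = N * M ∨ M * N = -(N * M)) := by
  rcases hM.cases with rfl | rfl | ⟨a, b, c, rfl, h1⟩
  · rw [one_mul, mul_one]
    exact ⟨hN, Or.inl rfl⟩
  · rw [neg_one_mul, mul_neg_one]
    exact ⟨hN.neg, Or.inl rfl⟩
  · rcases hN.cases with rfl | rfl | ⟨x, y, z, rfl, h2⟩
    · rw [one_mul, mul_one]
      exact ⟨hM, Or.inl rfl⟩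
    · rw [neg_one_mul, mul_neg_one]
      exact ⟨hM.neg, Or.inl rfl⟩
    · rcases three_claim h3 h1 h2 with h | ⟨rfl, rfl, rfl⟩ | ⟨rfl, rfl, rfl⟩
      · refine ⟨⟨by rw [Matrix.det_mul, hM.1, hN.1, mul_one], Or.inr (Or.inr ?_)⟩, Or.inr ?_⟩
        · simp only [Matrix.mul_apply, Fin.sum_univ_two, _root_.Fin.isValue, _root_.Matrix.of_apply, _root_.Matrix.cons_val', _root_.Matrix.cons_val_fin_one, _root_.Matrix.cons_val_zero, _root_.Matrix.cons_val_one, _root_.mul_neg, _root_.neg_mul, _root_.neg_neg]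
          linear_combination h
        · ext i j
          (revert i j; simp only [Matrix.mul_apply, Fin.sum_univ_two, _root_.Fin.forall_fin_succ, _root_.Matrix.of_apply, _root_.Matrix.cons_val', _root_.Matrix.cons_val_fin_one, Fin.isValue, _root_.Matrix.cons_val_zero, _root_.Matrix.cons_val_one, _root_.Matrix.cons_mul, _root_.Nat.succ_eq_add_one, Nat.reduceAdd, _root_.Matrix.vecMul_cons, _root_.Matrix.head_cons, _root_.Matrix.smul_cons, _root_.smul_eq_mul, _root_.Matrix.smul_empty, _root_.Matrix.tail_cons, _root_.mul_neg, _root_.Matrix.empty_vecMul, _root_.add_zero, _root_.Matrix.add_cons, _root_.Matrix.empty_add_empty, _root_.neg_smul, _root_.Matrix.neg_cons, _root_.neg_neg, _root_.Matrix.neg_empty, _root_.Matrix.empty_mul, _root_.Equiv.symm_apply_apply, _root_.Matrix.neg_apply, _root_.Matrix.cons_val_succ, _root_.forall_const, _root_.neg_add_rev, _root_.neg_mul, _root_.and_true, _root_.true_and]) <;> (repeat' with_reducible apply And.intro)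
          · linear_combination h
          · ring
          · ring
          · linear_combination h
      · rw [sq8 h1]
        exact ⟨T8.one.neg, Or.inl rfl⟩
      · have e : !![-x, -y; -z, - -x] = -!![x, y; z, -x] := by
          ext i j
          (revert i j; simp only [_root_.Fin.forall_fin_succ, _root_.neg_neg, _root_.Matrix.of_apply, _root_.Matrix.cons_val', _root_.Matrix.cons_val_fin_one, _root_.Matrix.neg_apply, Fin.isValue, _root_.Matrix.cons_val_zero, _root_.Matrix.cons_val_succ, _root_.forall_const, _root_.and_self, _root_.implies_true])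
        rw [e, neg_mul, mul_neg, sq8 h2, neg_neg]
        exact ⟨T8.one, Or.inl rfl⟩

/-- `Q₈` -/
def q8 (h3 : Fintype.card F = 3) : Subgroup (GL (Fin 2) F) where
  carrier := {v | T8 (v : Matrix (Fin 2) (Fin 2) F)}
  mul_mem' {a b} ha hb := (T8.mul_comm h3 ha hb).1
  one_mem' := T8.one
  inv_mem' {v} hv := by
    have key : ∀ w : Matrix (Fin 2) (Fin 2) F, w * (v : Matrix (Fin 2) (Fin 2) F) = 1 →
        ((v⁻¹ : GL (Fin 2) F) : Matrix (Fin 2) (Fin 2) F) = w := by
      intro w hw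
      calc ((v⁻¹ : GL (Fin 2) F) : Matrix (Fin 2) (Fin 2) F) =
          w * (v : Matrix (Fin 2) (Fin 2) F) * ((v⁻¹ : GL (Fin 2) F) : Matrix (Fin 2) (Fin 2) F) := by rw [hw, one_mul]
        _ = w := by rw [mul_assoc, Units.mul_inv, mul_one]
    change T8 _ at hv
    change T8 _
    rcases hv.cases with h | h | ⟨a, b, c, h, h1⟩
    · rw [key 1 (by rw [h, one_mul])]
      exact T8.one
    · rw [key (-1) (by rw [h, neg_mul_neg, one_mul])]
      exact T8.one.neg
    · rw [key (-(v : Matrix (Fin 2) (Fin 2) F)) (by rw [neg_mul, h, sq8 h1, neg_neg])]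
      exact hv.neg

theorem mem_q8 {h3 : Fintype.card F = 3} {v : GL (Fin 2) F} : v ∈ q8 h3 ↔ T8 (v : Matrix (Fin 2) (Fin 2) F) := Iff.rfl

/-- `Q₈` is normal in `GL₂` -/
theorem q8_conj {h3 : Fintype.card F = 3} (g : GL (Fin 2) F) {v : GL (Fin 2) F} (hv : v ∈ q8 h3) :
    g * v * g⁻¹ ∈ q8 h3 := by
  obtain ⟨hd, h1⟩ := mem_q8.1 hv
  rw [mem_q8, Units.val_mul, Units.val_mul]
  refine ⟨?_, ?_⟩
  · rw [Matrix.det_mul, Matrix.det_mul, hd, mul_one, ← Matrix.det_mul, Units.mul_inv, Matrix.det_one]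
  · rcases h1 with h1 | h1 | h1
    · left
      rw [h1, mul_one, Units.mul_inv]
    · right; left
      rw [h1, mul_neg_one, neg_mul, Units.mul_inv]
    · right; right
      have h2 : ((g : Matrix (Fin 2) (Fin 2) F) * (v : Matrix (Fin 2) (Fin 2) F) *
          ((g⁻¹ : GL (Fin 2) F) : Matrix (Fin 2) (Fin 2) F)).trace = (v : Matrix (Fin 2) (Fin 2) F).trace := by
        rw [Matrix.trace_mul_comm, ← mul_assoc, Units.inv_mul, one_mul]
      rw [Matrix.trace_fin_two, Matrix.trace_fin_two, h1] at h2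
      exact h2

end q8


section kill
variable {Q : Type*} [Group Q] [Finite Q] {A : Subgroup Q} {Γ : Subgroup (MulAut Q)} (h : EPT A Γ)
variable {ι : Type} [Fintype ι] [DecidableEq ι] {F : Type*} [Field F] {S : Subgroup (GL ι F)} (m : Model Q S)

include h

/-- a normal subgroup `R` of `Â`, abelian modulo scalars, `z ∈ R` not scalar : `z` lies in no other conjugate of `Â` -/
theorem fit_kill_mod {R : Subgroup (GL ι F)} (hRA : R ≤ m.hat A) (hRn : ∀ a ∈ m.hat A, ∀ n ∈ R, a * n * a⁻¹ ∈ R)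
    (hRab : ∀ a ∈ R, ∀ b ∈ R, a * b * (b * a)⁻¹ ∈ Cfsg.Geo.scalars ι F) {z x : GL ι F} (hz : z ∈ R)
    (hz1 : z ∉ Cfsg.Geo.scalars ι F) (hxS : x ∈ S) (hx : x ∉ m.hat A) : x⁻¹ * z * x ∉ m.hat A := by
  intro hzx
  have hRS : R ≤ S := hRA.trans (m.hat_le A)
  have hx' : m.π ⟨x, hxS⟩ ∉ A := fun e => hx ((m.mem_hat_iff ⟨x, hxS⟩).2 e)
  refine Cfsg.Agent.H523.EP.fit_kill h (N := (R.subgroupOf S).map m.π) ?_ ?_ ?_ (z := m.π ⟨z, hRS hz⟩)
    (x := m.π ⟨x, hxS⟩) ?_ ?_ hx' ?_
  · rintro _ ⟨r, hr, rfl⟩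
    exact (m.mem_hat_iff r).1 (hRA hr)
  · rintro a ha _ ⟨r, hr, rfl⟩
    obtain ⟨s, rfl⟩ := m.surj a
    refine ⟨s * r * s⁻¹, hRn s ((m.mem_hat_iff s).2 ha) r hr, ?_⟩
    rw [map_mul, map_mul, map_inv]
  · apply Cfsg.Agent.H523.EP.ab_nil
    rintro ⟨_, r, hr, rfl⟩ ⟨_, t, ht, rfl⟩
    apply Subtype.ext
    show m.π r * m.π t = m.π t * m.π r
    have h1 : m.π (r * t * (t * r)⁻¹) = 1 := (m.ker _).2 (hRab r hr t ht)
    rw [map_mul, map_inv, mul_inv_eq_one, map_mul, map_mul] at h1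
    exact h1
  · exact ⟨⟨z, hRS hz⟩, hz, rfl⟩
  · intro e
    exact hz1 ((m.ker _).1 e)
  · obtain ⟨hg, h1⟩ := m.mem_hat.1 hzx
    have e : (⟨x⁻¹ * z * x, hg⟩ : S) = ⟨x, hxS⟩⁻¹ * ⟨z, hRS hz⟩ * ⟨x, hxS⟩ := rfl
    rw [e, map_mul, map_mul, map_inv] at h1
    rw [mem_cj]
    exact h1

end kill

section elts
variable {F : Type*} [Field F] (h3 : (3 : F) = 0)

/-- a transvection -/
def tU (F : Type*) [Field F] : GL (Fin 2) F :=
  ⟨!![1, 1; 0, 1], !![1, -1; 0, 1], by ext i j; (revert i j; simp only [Matrix.mul_apply, Fin.sum_univ_two, _root_.Fin.forall_fin_succ, _root_.Matrix.of_apply, _root_.Matrix.cons_val', _root_.Matrix.cons_val_fin_one, Fin.isValue, _root_.Matrix.cons_val_zero, _root_.Matrix.cons_val_one, _root_.mul_one, _root_.MulZeroClass.mul_zero, _root_.add_zero, _root_.Matrix.cons_val_succ, _root_.mul_neg, _root_.IsEmpty.forall_iff, _root_.and_true, _root_.Matrix.one_apply_eq, _root_.neg_add_cancel, Nat.reduceAdd, _root_.Fin.succ_zero_eq_one, _root_.ne_eq,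 _root_.zero_ne_one, _root_.not_false_eq_true, _root_.Matrix.one_apply_ne, _root_.and_self, _root_.Fin.succ_ne_zero, _root_.neg_zero, _root_.zero_add, _root_.true_and]),
    by ext i j; (revert i j; simp only [Matrix.mul_apply, Fin.sum_univ_two, _root_.Fin.forall_fin_succ, _root_.Matrix.of_apply, _root_.Matrix.cons_val', _root_.Matrix.cons_val_fin_one, Fin.isValue, _root_.Matrix.cons_val_zero, _root_.Matrix.cons_val_one, _root_.mul_one, _root_.MulZeroClass.mul_zero, _root_.add_zero, _root_.Matrix.cons_val_succ, _root_.IsEmpty.forall_iff, _root_.and_true, _root_.Matrix.one_apply_eq, _root_.add_neg_cancel, Nat.reduceAdd, _root_.Fin.succ_zero_eq_one, _root_.ne_eq, _root_.zero_ne_one, _root_.not_false_eq_true, _root_.Matrix.one_apply_ne, _root_.and_self, _root_.Fin.succ_ne_zero, _root_.zero_add, _root_.true_and])⟩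

/-- an element of order four -/
def iU (F : Type*) [Field F] : GL (Fin 2) F :=
  ⟨!![0, 1; -1, 0], !![0, -1; 1, 0], by ext i j; (revert i j; simp only [Matrix.mul_apply, Fin.sum_univ_two, _root_.Fin.forall_fin_succ, _root_.Matrix.of_apply, _root_.Matrix.cons_val', _root_.Matrix.cons_val_fin_one, Fin.isValue, _root_.Matrix.cons_val_zero, _root_.Matrix.cons_val_one, _root_.MulZeroClass.mul_zero, _root_.mul_one, _root_.zero_add, _root_.Matrix.cons_val_succ, _root_.mul_neg, _root_.add_zero, _root_.IsEmpty.forall_iff, _root_.and_true, _root_.Matrix.one_apply_eq, _root_.neg_zero, Nat.reduceAdd, _root_.Fin.succ_zero_eq_one, _root_.ne_eq, _root_.zero_ne_one, _root_.not_false_eq_true, _root_.Matrix.one_apply_ne, _root_.and_self, _root_.Fin.succ_ne_zero, _root_.neg_neg, _root_.true_and]),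
    by ext i j; (revert i j; simp only [Matrix.mul_apply, Fin.sum_univ_two, _root_.Fin.forall_fin_succ, _root_.Matrix.of_apply, _root_.Matrix.cons_val', _root_.Matrix.cons_val_fin_one, Fin.isValue, _root_.Matrix.cons_val_zero, _root_.Matrix.cons_val_one, _root_.MulZeroClass.mul_zero, _root_.mul_neg, _root_.mul_one, _root_.zero_add, _root_.Matrix.cons_val_succ, _root_.add_zero, _root_.IsEmpty.forall_iff, _root_.and_true, _root_.neg_neg, _root_.Matrix.one_apply_eq, Nat.reduceAdd, _root_.Fin.succ_zero_eq_one, _root_.ne_eq, _root_.zero_ne_one, _root_.not_false_eq_true, _root_.Matrix.one_apply_ne, _root_.and_self, _root_.neg_zero, _root_.Fin.succ_ne_zero, _root_.true_and])⟩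

include h3 in
theorem jU_aux : !![1, 1; 1, -1] * !![-1, -1; -1, 1] = (1 : Matrix (Fin 2) (Fin 2) F) ∧
    !![-1, -1; -1, 1] * !![1, 1; 1, -1] = (1 : Matrix (Fin 2) (Fin 2) F) := by
  constructor
  · ext i j
    (revert i j; simp only [Matrix.mul_apply, Fin.sum_univ_two, _root_.Fin.forall_fin_succ, _root_.Matrix.of_apply, _root_.Matrix.cons_val', _root_.Matrix.cons_val_fin_one, Fin.isValue, _root_.Matrix.cons_val_zero, _root_.Matrix.cons_val_one, _root_.mul_neg, _root_.mul_one, _root_.Matrix.cons_val_succ, _root_.IsEmpty.forall_iff, _root_.Matrix.one_apply_eq, _root_.neg_add_cancel, Nat.reduceAdd, _root_.Fin.succ_zero_eq_one, _root_.ne_eq, _root_.zero_ne_one, _root_.not_false_eq_true, _root_.Matrix.one_apply_ne, _root_.neg_neg, _root_.Fin.succ_ne_zero, _root_.and_true, _root_.true_and]) <;> (repeat' with_reducible apply And.intro)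
    · linear_combination -h3
    · linear_combination -h3
  · ext i j
    (revert i j; simp only [Matrix.mul_apply, Fin.sum_univ_two, _root_.Fin.forall_fin_succ, _root_.Matrix.of_apply, _root_.Matrix.cons_val', _root_.Matrix.cons_val_fin_one, Fin.isValue, _root_.Matrix.cons_val_zero, _root_.Matrix.cons_val_one, _root_.mul_one, _root_.Matrix.cons_val_succ, _root_.mul_neg, _root_.IsEmpty.forall_iff, _root_.Matrix.one_apply_eq, _root_.neg_neg, _root_.neg_add_cancel, Nat.reduceAdd, _root_.Fin.succ_zero_eq_one, _root_.ne_eq, _root_.zero_ne_one, _root_.not_false_eq_true, _root_.Matrix.one_apply_ne, _root_.Fin.succ_ne_zero, _root_.and_true, _root_.true_and]) <;> (repeat' with_reducible apply And.intro)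
    · linear_combination -h3
    · linear_combination -h3

/-- an element of order four -/
def jU : GL (Fin 2) F := ⟨!![1, 1; 1, -1], !![-1, -1; -1, 1], (jU_aux h3).1, (jU_aux h3).2⟩

/-- `z₀` -/
def zU (F : Type*) [Field F] : GL (Fin 2) F := tU F * iU F * (tU F)⁻¹ * (iU F)⁻¹

/-- `x₀` -/
def xU : GL (Fin 2) F := tU F * jU h3 * (tU F)⁻¹ * (jU h3)⁻¹

include h3 in
theorem zU_val : (zU F : Matrix (Fin 2) (Fin 2) F) = !![-1, 1; 1, 1] := by
  change !![1, 1; 0, 1] * !![0, 1; -1, 0] * !![1, -1; 0, 1] * !![0, -1; 1, 0] = _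
  ext i j
  (revert i j; simp only [Matrix.mul_apply, Fin.sum_univ_two, _root_.Fin.forall_fin_succ, _root_.Matrix.cons_mul, _root_.Nat.succ_eq_add_one, Nat.reduceAdd, _root_.Matrix.vecMul_cons, _root_.Matrix.head_cons, _root_.one_smul, _root_.Matrix.tail_cons, _root_.Matrix.empty_vecMul, _root_.add_zero, _root_.Matrix.add_cons, _root_.zero_add, _root_.Matrix.empty_add_empty, _root_.zero_smul, _root_.Matrix.empty_mul, _root_.Equiv.symm_apply_apply, _root_.neg_smul, _root_.Matrix.neg_cons, _root_.neg_neg, _root_.Matrix.neg_empty, _root_.Matrix.of_apply, _root_.Matrix.cons_val', _root_.Matrix.cons_val_fin_one, Fin.isValue, _root_.Matrix.cons_val_zero, _root_.Matrix.cons_val_one, _root_.MulZeroClass.mul_zero, _root_.mul_one, _root_.Matrix.cons_val_succ, _root_.mul_neg, _root_.forall_const, _root_.implies_true, _root_.and_true, _root_.true_and]) <;> (repeat' with_reducible apply And.intro)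
  linear_combination h3

theorem xU_val : (xU h3 : Matrix (Fin 2) (Fin 2) F) = !![0, -1; 1, 0] := by
  change !![1, 1; 0, 1] * !![1, 1; 1, -1] * !![1, -1; 0, 1] * !![-1, -1; -1, 1] = _
  ext i j
  (revert i j; simp only [Matrix.mul_apply, Fin.sum_univ_two, _root_.Fin.forall_fin_succ, _root_.Matrix.cons_mul, _root_.Nat.succ_eq_add_one, Nat.reduceAdd, _root_.Matrix.vecMul_cons, _root_.Matrix.head_cons, _root_.one_smul, _root_.Matrix.tail_cons, _root_.Matrix.empty_vecMul, _root_.add_zero, _root_.Matrix.add_cons, _root_.add_neg_cancel, _root_.Matrix.empty_add_empty, _root_.zero_smul, _root_.zero_add, _root_.Matrix.empty_mul, _root_.Equiv.symm_apply_apply, _root_.Matrix.smul_cons, _root_.smul_eq_mul, _root_.mul_one, _root_.mul_neg, _root_.neg_add_rev, _root_.Matrix.smul_empty, _root_.neg_smul, _root_.Matrix.neg_cons, _root_.neg_zero, _root_.Matrix.neg_empty, _root_.Matrix.of_apply, _root_.Matrix.cons_val', _root_.Matrix.cons_val_fin_one, Fin.isValue, _root_.Matrix.cons_val_zero,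 _root_.Matrix.cons_val_one, _root_.Matrix.cons_val_succ, _root_.forall_const, _root_.neg_neg, _root_.add_neg_add_add_cancel, _root_.neg_add_cancel, _root_.neg_add_cancel_left, _root_.and_true, _root_.true_and]) <;> (repeat' with_reducible apply And.intro)
  all_goals first
    | linear_combination h3
    | linear_combination -h3
    | linear_combination 2 * h3
    | linear_combination (-2 : F) * h3
    | ring

/-- the isometry group of a symplectic Gram matrix -/
theorem mem_isoG_of_det {G : Matrix (Fin 2) (Fin 2) F} (h00 : G 0 0 = 0) (h11 : G 1 1 = 0) (h10 : G 1 0 = -G 0 1)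
    {c : GL (Fin 2) F} (hc : (c : Matrix (Fin 2) (Fin 2) F).det = 1) : c ∈ IsoG G := by
  rw [mem_isoG]
  rw [Matrix.det_fin_two] at hc
  ext i j
  (revert i j; simp only [Matrix.mul_apply, Fin.sum_univ_two, h00, h11, h10, _root_.Fin.forall_fin_succ, _root_.Matrix.transpose_apply, Fin.isValue, _root_.MulZeroClass.mul_zero, _root_.mul_neg, _root_.zero_add, _root_.neg_mul, _root_.add_zero, _root_.Fin.succ_zero_eq_one, _root_.IsEmpty.forall_iff, _root_.and_true, _root_.true_and]) <;> (repeat' with_reducible apply And.intro)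
  · ring
  · linear_combination (G 0 1) * hc
  · linear_combination (-(G 0 1)) * hc
  · ring

end elts


/-- **[Om-C4, a factor `SL₂(3)`]** -/
theorem kill_three {Q : Type} [Group Q] [Finite Q] {A : Subgroup Q} {Γ : Subgroup (MulAut Q)} (h : EPT A Γ) {F : Type}
    [Field F] [Fintype F] (h3 : Fintype.card F = 3) {ι : Type} [Fintype ι] [DecidableEq ι] {Qf : (ι → F) → F}
    (m : Model Q (Geo.omegaGL Qf)) {n₁ : ℕ} (e : ι ≃ Fin n₁ × Fin 2) (P : GL ι F)
    {f₁ : (Fin n₁ → F) → (Fin n₁ → F) → F} {f₂ : (Fin 2 → F) → (Fin 2 → F) → F} (hf₂ : IsSymplecticForm f₂)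
    (hfr : Fr Qf (sL e P) (sR e P) (gramMatrix f₁) (gramMatrix f₂)) (hp : PP (gramMatrix f₁))
    (hA : m.hat A ≤ tensorProductSubgroup n₁ 2 e P) : False := by
  classical
  obtain ⟨p, hp, hp0, hp1, hpa⟩ := hp
  have h30 : (3 : F) = 0 := three_zero h3
  set s := sL e P with hs
  set r := sR e P with hr
  have hts := hfr.ts
  -- the commutators
  have h00 : gramMatrix f₂ 0 0 = 0 := hf₂.alternating _
  have h11 : gramMatrix f₂ 1 1 = 0 := hf₂.alternating _
  have h10 : gramMatrix f₂ 1 0 = - gramMatrix f₂ 0 1 := hf₂.skew _ _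
  have hiso : ∀ c : GL (Fin 2) F, (c : Matrix (Fin 2) (Fin 2) F).det = 1 → c ∈ IsoG (gramMatrix f₂) :=
    fun c hc => mem_isoG_of_det h00 h11 h10 hc
  have htU : tU F ∈ IsoG (gramMatrix f₂) := hiso _ (by
    change Matrix.det !![1, 1; 0, 1] = (1 : F)
    rw [Matrix.det_fin_two_of]
    ring)
  have hiU : iU F ∈ IsoG (gramMatrix f₂) := hiso _ (by
    change Matrix.det !![0, 1; -1, 0] = (1 : F)
    rw [Matrix.det_fin_two_of]
    ring)
  have hjU : jU h30 ∈ IsoG (gramMatrix f₂) := hiso _ (by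
    change Matrix.det !![1, 1; 1, -1] = (1 : F)
    rw [Matrix.det_fin_two_of]
    linear_combination -h30)
  have hzK : zU F ∈ KG (gramMatrix f₂) := comm_mem_KG htU hiU
  have hxK : xU h30 ∈ KG (gramMatrix f₂) := comm_mem_KG htU hjU
  obtain ⟨z, hzS, hzv⟩ := hfr.w_mem hzK
  rw [Units.val_one, map_one, one_mul] at hzv
  let x : GL ι F := psi hts.comm hp (xU h30)
  have hxS : x ∈ omegaGL Qf := comm_le_omega Qf (hfr.psi_omega hp hpa hxK)
  have hxv : (x : Matrix ι ι F) = s p * r (xU h30 : Matrix (Fin 2) (Fin 2) F) + s (1 - p) := psi_val _ _ _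
  have hpp' : p * (1 - p) = 0 := by rw [mul_sub, hp, mul_one, sub_self]
  have hnsx : NonSc (xU h30 : Matrix (Fin 2) (Fin 2) F) := by
    intro c hc
    rw [xU_val] at hc
    have := congrFun (congrFun hc 1) 0
    simp at this
  -- `x` is not in the stabiliser
  have hxM : x ∉ tensorProductSubgroup n₁ 2 e P := by
    intro hx
    obtain ⟨a, b, hab⟩ := (mem_tensor e P).1 hx
    have ha0 : (a : Matrix (Fin n₁) (Fin n₁) F) ≠ 0 := by
      intro h0
      apply hp0
      have h1 : (1 : Matrix (Fin n₁) (Fin n₁) F) = 0 := by rw [← Units.mul_inv a, h0, zero_mul]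
      rw [← mul_one p, h1, mul_zero]
    obtain ⟨α, β, e1, e2, -⟩ := hts.key (u := (a : Matrix (Fin n₁) (Fin n₁) F)) (v1 := p) (v2 := 1 - p)
      (d := (b : Matrix (Fin 2) (Fin 2) F)) (w1 := (xU h30 : Matrix (Fin 2) (Fin 2) F)) (w2 := 1)
      (by rw [← hab, hxv, map_one, mul_one]) ha0 (fun α β hαβ => hnsx.lin α β hαβ)
    have e3 : (α * β) • ((a : Matrix (Fin n₁) (Fin n₁) F) * (a : Matrix (Fin n₁) (Fin n₁) F)) = 0 := by
      calc (α * β) • ((a : Matrix (Fin n₁) (Fin n₁) F) * (a : Matrix (Fin n₁) (Fin n₁) F)) =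
          (α • (a : Matrix (Fin n₁) (Fin n₁) F)) * (β • (a : Matrix (Fin n₁) (Fin n₁) F)) := by
            rw [Matrix.smul_mul, Matrix.mul_smul, smul_smul]
        _ = 0 := by rw [← e1, ← e2, hpp']
    have haa : (a : Matrix (Fin n₁) (Fin n₁) F) * (a : Matrix (Fin n₁) (Fin n₁) F) ≠ 0 := by
      intro h0
      apply ha0
      rw [← mul_one (a : Matrix (Fin n₁) (Fin n₁) F), ← Units.mul_inv a, ← mul_assoc, h0, zero_mul]
    rcases mul_eq_zero.1 ((smul_eq_zero.1 e3).resolve_right haa) with h4 | h4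
    · exact hp0 (by rw [e1, h4, zero_smul])
    · rw [h4, zero_smul, sub_eq_zero] at e2
      exact hp1 e2.symm
  have hhat : m.hat A = tensorProductSubgroup n₁ 2 e P ⊓ omegaGL Qf :=
    Cfsg.Agent.H458.EP.hat_eq m h.max hA (fun hS => hxM (hS hxS))
  -- the normal subgroup
  have hRval : ∀ v : GL (Fin 2) F, ((Units.map (r : Matrix (Fin 2) (Fin 2) F →* Matrix ι ι F) v : GL ι F) :
      Matrix ι ι F) = r (v : Matrix (Fin 2) (Fin 2) F) := fun v => rfl
  refine fit_kill_mod h m (R := (q8 h3).map (Units.map (r : Matrix (Fin 2) (Fin 2) F →* Matrix ι ι F)) ⊓ omegaGL Qf)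
    (z := z) (x := x) ?_ ?_ ?_ ?_ ?_ hxS ?_ ?_
  · rw [hhat]
    refine inf_le_inf_right _ ?_
    rintro _ ⟨v, -, rfl⟩
    rw [mem_tensor]
    exact ⟨1, v, by rw [hRval, Units.val_one, ← hs, map_one, one_mul]⟩
  · rintro a ha _ ⟨⟨v, hv, rfl⟩, hn⟩
    rw [hhat] at ha
    refine Subgroup.mem_inf.2 ⟨?_, (omegaGL Qf).mul_mem ((omegaGL Qf).mul_mem ha.2 hn) ((omegaGL Qf).inv_mem ha.2)⟩
    obtain ⟨a₁, a₂, ha12⟩ := (mem_tensor e P).1 ha.1
    have hact := Acts.of_pure (ts e P) ha12
    refine ⟨a₂ * v * a₂⁻¹, q8_conj a₂ hv, ?_⟩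
    apply Units.ext
    have h5 := hact.right (v : Matrix (Fin 2) (Fin 2) F)
    rw [hRval]
    exact h5.symm
  · rintro _ ⟨⟨u, hu, rfl⟩, -⟩ _ ⟨⟨v, hv, rfl⟩, -⟩
    rw [← map_mul, ← map_mul, ← map_inv, ← map_mul]
    rcases (T8.mul_comm h3 (mem_q8.1 hu) (mem_q8.1 hv)).2 with h5 | h5
    · have h6 : u * v = v * u := Units.ext h5
      rw [h6, mul_inv_cancel, map_one]
      exact one_mem _
    · rw [mem_scalars_iff]
      refine ⟨-1, ?_⟩
      have h6 : ((u * v * (v * u)⁻¹ : GL (Fin 2) F) : Matrix (Fin 2) (Fin 2) F) = -1 := by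
        rw [Units.val_mul, Units.val_mul, h5, ← Units.val_mul, neg_mul, Units.mul_inv]
      rw [hRval, h6, map_neg, map_one, Units.val_neg, Units.val_one, neg_one_smul]
  · refine ⟨⟨zU F, ?_, ?_⟩, hzS⟩
    · change T8 _
      rw [zU_val h30]
      have := T8.of (F := F) (a := -1) (b := 1) (c := 1) (by linear_combination h30)
      rwa [neg_neg] at this
    · exact Units.ext (by rw [hRval, hzv])
  · intro hz
    obtain ⟨c, hc⟩ := (mem_scalars_iff z).1 hz
    rw [hzv] at hc
    have h5 : s (1 : Matrix (Fin n₁) (Fin n₁) F) * r (zU F : Matrix (Fin 2) (Fin 2) F) =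
        s 1 * r ((c : F) • 1) := by
      rw [map_one, one_mul, one_mul, hc, map_smul, map_one]
    obtain ⟨i, j, hij⟩ : ∃ i j, p i j ≠ 0 := by
      by_contra hcon
      push Not at hcon
      exact hp0 (by ext i j; exact hcon i j)
    have h6 := hts.ind2 h5 i i 0 1
    rw [zU_val h30] at h6
    simp at h6
  · rw [hhat]
    exact fun hx => hxM hx.1
  · rw [hhat]
    refine Subgroup.mem_inf.2
      ⟨?_, (omegaGL Qf).mul_mem ((omegaGL Qf).mul_mem ((omegaGL Qf).inv_mem hxS) hzS) hxS⟩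
    have hinv : (1 - (p + p)) * (1 - (p + p)) = 1 := by
      have : (1 - (p + p)) * (1 - (p + p)) = 1 - (p + p) - (p + p) + (p * p + p * p + (p * p + p * p)) := by
        noncomm_ring
      rw [this, hp]
      abel
    let y₁ : GL (Fin n₁) F := ⟨1 - (p + p), 1 - (p + p), hinv, hinv⟩
    rw [mem_tensor]
    refine ⟨y₁, zU F, ?_⟩
    have hzx : (zU F : Matrix (Fin 2) (Fin 2) F) * (xU h30 : Matrix (Fin 2) (Fin 2) F) =
        -((xU h30 : Matrix (Fin 2) (Fin 2) F) * (zU F : Matrix (Fin 2) (Fin 2) F)) := by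
      rw [zU_val h30, xU_val]
      ext i j
      (revert i j; simp only [Matrix.mul_apply, Fin.sum_univ_two, _root_.Fin.forall_fin_succ, _root_.Matrix.of_apply, _root_.Matrix.cons_val', _root_.Matrix.cons_val_fin_one, Fin.isValue, _root_.Matrix.cons_val_zero, _root_.Matrix.cons_val_one, _root_.Matrix.cons_mul, _root_.Nat.succ_eq_add_one, Nat.reduceAdd, _root_.Matrix.vecMul_cons, _root_.Matrix.head_cons, _root_.zero_smul, _root_.Matrix.tail_cons, _root_.neg_smul, _root_.one_smul, _root_.Matrix.neg_cons, _root_.Matrix.neg_empty, _root_.Matrix.empty_vecMul, _root_.add_zero, _root_.zero_add, _root_.Matrix.empty_mul, _root_.Equiv.symm_apply_apply, _root_.Matrix.neg_apply, _root_.MulZeroClass.mul_zero, _root_.mul_one, _root_.Matrix.cons_val_succ, _root_.mul_neg, _root_.implies_true, _root_.and_true, _root_.neg_neg, _root_.and_self])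
    have key : (z : Matrix ι ι F) * (x : Matrix ι ι F) =
        (x : Matrix ι ι F) * (s (1 - (p + p)) * r (zU F : Matrix (Fin 2) (Fin 2) F)) := by
      have e1 : p * (1 - (p + p)) = -p := by rw [mul_sub, mul_add, hp, mul_one]; abel
      have e2 : (1 - p) * (1 - (p + p)) = 1 - p := by
        rw [sub_mul, one_mul, e1]; abel
      rw [hzv, hxv, mul_add, add_mul, ← mul_assoc (r _) (s p), ← hts.comm, mul_assoc (s p), ← map_mul r, hzx,
        ← hts.comm, mul_assoc (s p), ← mul_assoc (r _) (s _) (r _), ← hts.comm (1 - (p + p)), mul_assoc (s _) (r _) (r _),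
        ← map_mul r, ← mul_assoc (s p), ← map_mul s, e1, ← mul_assoc (s (1 - p)), ← map_mul s, e2, map_neg, map_neg,
        mul_neg, neg_mul]
    change ((x⁻¹ : GL ι F) : Matrix ι ι F) * (z : Matrix ι ι F) * (x : Matrix ι ι F) = s (1 - (p + p)) * _
    rw [mul_assoc, key, ← mul_assoc, Units.inv_mul, one_mul]

end Cfsg.Agent.H681.EP
end

-- part: H487/EP/OmC4
section
/-!
# S3499, task Om-C4C7, first part: tensor products in orthogonal groups (helper487)
-/

set_option autoImplicit false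

namespace Cfsg.Agent.H487.EP

open Cfsg.Agent.H284 Cfsg.Agent.H419.EP

theorem killThree : KillThree := fun h _ _ _ h3 _ _ _ _ m _ e P _ _ hf₂ hfr hp hA =>
  Cfsg.Agent.H681.EP.kill_three h h3 m e P hf₂ hfr hp hA

/-- **[Om-C4C7, first part]** -/
theorem omC4 (hC2b : Cfsg.Agent.H778.EP.OmC2b) (hC3 : Cfsg.Agent.H778.EP.OmC3) : Cfsg.Agent.H778.EP.OmC4 :=
  omC4_of killThree hC2b hC3

end Cfsg.Agent.H487.EP
end

-- part: H91/EP/OmN
section
/-!
# S3499-III: `OrthNonRes`
-/

set_option autoImplicit false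

namespace Cfsg.Agent.H91.EP

open Subgroup Cfsg.Agent.H284 Cfsg.Agent.H419.EP Cfsg.Agent.H778.EP QuadraticMap

/-- [Om-C6] -/
theorem omC6 : OmC6 := by
  rintro Q _ _ hs A Γ h F _ _ ι _ _ Qf m h7 hQ
    ⟨hirr, r, j, R, hRA, hRn, _, habs, hR, hchar, _, hcard, hc, ht, _⟩
  exact Cfsg.Agent.H491.EP.om_c6 h hQ h7 m hRA hRn habs hR hchar hcard hc ht

/-- `OrthNonRes` from the rows C3, C4, C7 -/
theorem orthNonRes_of_rest (hC3 : OmC3) (hC4 : OmC4) (hC7 : OmC7) : OrthNonRes :=
  @orthNonRes_of @Cfsg.Agent.H567.EP.omRed @Cfsg.Agent.H371.EP.omPoint @Cfsg.Agent.H112.OC2.omC2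
    @Cfsg.Agent.H807.EP.omC2t2 @Cfsg.Agent.H807.EP.omC2b @hC3 @hC4 @Cfsg.Agent.H96.C5.omC5 @omC6 @hC7

/-- [Om-C3] -/
theorem omC3 : OmC3 := by
  exact @Cfsg.Agent.H681.EP.omC3_of @Cfsg.Agent.H571.EP.omC3Q

/-- **The geometric layer of the orthogonal groups.** -/
theorem orthNonRes : OrthNonRes := by
  exact @orthNonRes_of_rest @omC3 (@Cfsg.Agent.H487.EP.omC4 @Cfsg.Agent.H807.EP.omC2b @omC3)
    @Cfsg.Agent.H487.EP.omC7

end Cfsg.Agent.H91.EP
end

private theorem dce_32c2c3920548 : _root_.True := by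
  try have : _root_.True := by simp only [_root_.Cfsg.Agent.H96.C5.Orth.tR.eq_1]
  try have : _root_.True := by simp only [_root_.Cfsg.Agent.H807.EP.Frm.y₁.eq_1]
  try have : _root_.True := by simp only [_root_.Cfsg.Agent.H96.C5.Orth.tS2.eq_1]
  try have : _root_.True := by simp only [_root_.Cfsg.Agent.H807.EP.Frm.z₁.congr_simp]
  try have : _root_.True := by simp only [_root_.Cfsg.Agent.H807.EP.Frm.t.congr_simp]
  try have : _root_.True := by simp only [_root_.Cfsg.Agent.H807.EP.Frm.y₁.congr_simp]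
  try have : _root_.True := by simp only [_root_.Cfsg.Agent.H96.C5.Orth.tG.eq_1]
  try have : _root_.True := by simp only [_root_.Cfsg.Agent.H807.EP.Frm.z₁.eq_1]
  try have : _root_.True := by simp only [_root_.Cfsg.Agent.H807.EP.Frm.z₂.eq_1]
  try have : _root_.True := by simp only [_root_.Cfsg.Agent.H807.EP.Frm.y₂.congr_simp]
  try have : _root_.True := by simp only [_root_.Cfsg.Agent.H96.C5.Orth.q4.eq_1]
  try have : _root_.True := by simp only [_root_.Cfsg.Agent.H96.C5.Orth.tX.eq_1]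
  try have : _root_.True := by simp only [_root_.Cfsg.Agent.H96.C5.Orth.tT.eq_1]
  try have : _root_.True := by simp only [_root_.Cfsg.Agent.H807.EP.Frm.y₂.eq_1]
  try have : _root_.True := by simp only [_root_.Cfsg.Agent.H807.EP.Frm.z₂.congr_simp]
  try have : _root_.True := by simp only [_root_.Cfsg.Agent.H96.C5.Orth.tS.eq_1]
  exact _root_.True.intro
end

-- part: H419/EP/PsuN
section
prune_inst 0x100040001a2000000008084810000000000042000000800000300000000000000008040000000055000000000040020014400804040000004200000000401001000000000000008400080000000000000000000000000000000000000010000000000000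
set_option linter.all false
open scoped Cfsg.Agent.FastGrp

-- part: H29/EP/SU
section
/-!
# S3499-III-SU-C1: reducible subgroups of `SU_n(q)` (helper29)

`su_c1`: if `Â` leaves a subspace `0 ≠ W ≠ F^n` invariant then `A` is no point stabiliser of an extremely primitive group with
socle `PSU_n(q)`, `n ≥ 3`, `(n, q) ≠ (3, 2)`.

* `W` totally isotropic: the unipotent radical is a normal `p`-subgroup of `Â`; it is not abelian for `dim W = 1`, and
  contains a transvection of `Â^x` for some `x` when `dim W ≥ 2`.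
* `W` not degenerate: for the element `x` with `x v = v + d h(v, w) u` on `W` (`w ∈ W` a unit vector, `u ∈ W^⊥` isotropic)
  the group `Â ∩ Â^x` is normalised by every element of `Â` which has `w` and `u` as eigenvectors.
-/

set_option autoImplicit false

namespace Cfsg.Agent.H29.EP.SU

open Matrix Module Subgroup Cfsg Cfsg.Agent.H284 Cfsg.Agent.H419.EP Cfsg.Agent.LieClassical.HermBasic
open Cfsg.Agent.ClassicalGeometry.HermOrtho Cfsg.Agent.ClassicalGeometry.UnitTransv
open scoped MatrixGroups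

section basic

variable {F : Type*} [Field F] {n q : ℕ}

/-- the action on column vectors -/
def ac (g : GL (Fin n) F) : (Fin n → F) →ₗ[F] (Fin n → F) := Matrix.mulVecLin (g : Matrix (Fin n) (Fin n) F)

theorem ac_apply (g : GL (Fin n) F) (v : Fin n → F) : ac g v = (g : Matrix (Fin n) (Fin n) F) *ᵥ v := rfl

theorem ac_mul (g h : GL (Fin n) F) (v : Fin n → F) : ac (g * h) v = ac g (ac h v) := by
  rw [ac_apply, ac_apply, ac_apply, Matrix.mulVec_mulVec]; rfl

theorem ac_one (v : Fin n → F) : ac (1 : GL (Fin n) F) v = v := by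
  rw [ac_apply, Units.val_one, Matrix.one_mulVec]

theorem ac_inv_ac (g : GL (Fin n) F) (v : Fin n → F) : ac g⁻¹ (ac g v) = v := by
  rw [← ac_mul, inv_mul_cancel, ac_one]

theorem ac_ac_inv (g : GL (Fin n) F) (v : Fin n → F) : ac g (ac g⁻¹ v) = v := by
  rw [← ac_mul, mul_inv_cancel, ac_one]

theorem ac_inj (g : GL (Fin n) F) : Function.Injective (ac g) := by
  intro x y h
  rw [← ac_inv_ac g x, h, ac_inv_ac]

theorem ext_ac {g h : GL (Fin n) F} (e : ∀ v, ac g v = ac h v) : g = h := by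
  apply Units.ext
  exact Matrix.ext_of_mulVec_single fun i => e _

theorem ac_inv_eq {g : GL (Fin n) F} {v w : Fin n → F} (h : ac g v = w) : ac g⁻¹ w = v := by
  rw [← h, ac_inv_ac]

theorem herm_ac {g : GL (Fin n) F} (hg : g ∈ GU n F q) (u v : Fin n → F) :
    hermForm n F q (ac g u) (ac g v) = hermForm n F q u v := hg u v

theorem herm_ac_left {g : GL (Fin n) F} (hg : g ∈ GU n F q) (u v : Fin n → F) :
    hermForm n F q (ac g u) v = hermForm n F q u (ac g⁻¹ v) := by
  rw [← herm_ac hg u, ac_ac_inv]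

theorem ac_scalar {g : GL (Fin n) F} (hg : g ∈ Geo.scalars (Fin n) F) : ∃ c : F, ∀ v, ac g v = c • v := by
  obtain ⟨c, hc⟩ := (Geo.mem_scalars_iff g).1 hg
  refine ⟨c, fun v => ?_⟩
  rw [ac_apply, hc, Matrix.smul_mulVec, Matrix.one_mulVec]

theorem eq_one_of_scalar {g : GL (Fin n) F} (hg : g ∈ Geo.scalars (Fin n) F) {w : Fin n → F} (hw : w ≠ 0)
    (h : ac g w = w) : g = 1 := by
  obtain ⟨c, hc⟩ := ac_scalar hg
  have h1 : (c - 1) • w = 0 := by rw [sub_smul, one_smul, ← hc, h, sub_self]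
  have h2 : c = 1 := by
    rcases smul_eq_zero.1 h1 with h2 | h2
    · exact sub_eq_zero.1 h2
    · exact absurd h2 hw
  apply ext_ac
  intro v
  rw [hc, h2, one_smul, ac_one]

theorem mem_stab {W : Submodule F (Fin n → F)} {g : GL (Fin n) F} (h : ∀ v ∈ W, ac g v ∈ W) :
    g ∈ Geo.subspaceStabilizer W := by
  have h1 : W.map (ac g) = W := by
    apply Submodule.eq_of_le_of_finrank_eq
    · rintro _ ⟨v, hv, rfl⟩
      exact h v hv
    · exact (Submodule.equivMapOfInjective (ac g) (ac_inj g) W).finrank_eq.symm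
  intro v
  constructor
  · intro hv
    exact h v hv
  · intro hv
    have h2 : ac g v ∈ W.map (ac g) := by rw [h1]; exact hv
    obtain ⟨v', hv', e⟩ := h2
    rw [← ac_inj g e]
    exact hv'

end basic

/-! ### Elements of `SU` -/

section elements

variable {F : Type*} [Field F] [Fintype F] {n q : ℕ} (hF : Fintype.card F = q ^ 2)

/-- `SU_n(q)` in `GL_n` -/
abbrev SS (n : ℕ) (F : Type*) [Field F] (q : ℕ) : Subgroup (GL (Fin n) F) := GU n F q ⊓ Geo.specialLinear (Fin n) F

omit [Fintype F] in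
theorem mem_SS {g : GL (Fin n) F} (h : g ∈ GU n F q) (hd : (g : Matrix (Fin n) (Fin n) F).det = 1) : g ∈ SS n F q := by
  exact mem_inf.2 ⟨h, MonoidHom.mem_ker.2 (Units.ext hd)⟩

include hF

theorem exists_T {y : Fin n → F} {c : F} (hc : c + c ^ q + c * c ^ q * hermForm n F q y y = 0) :
    ∃ g ∈ GU n F q, (∀ v, ac g v = v + (c * hermForm n F q v y) • y) ∧
      (g : Matrix (Fin n) (Fin n) F).det = 1 + c * hermForm n F q y y := by
  obtain ⟨g, hg, e⟩ := exists_GU_of_isometry hF (M := unitaryTransvection n q y c) (by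
    intro u v
    rw [unitaryTransvection_mulVec, unitaryTransvection_mulVec, herm_add_left, herm_add_right hF, herm_add_right hF,
      herm_smul_left, herm_smul_right, herm_smul_left, herm_smul_right, mul_pow]
    have e : hermForm n F q y v = (hermForm n F q v y) ^ q := herm_swap hF v y
    rw [e]
    linear_combination (hermForm n F q u y * (hermForm n F q v y) ^ q) * hc)
  refine ⟨g, hg, fun v => ?_, ?_⟩
  · rw [ac_apply, e, unitaryTransvection_mulVec]
  · rw [e, unitaryTransvection_eq, det_rankOne, herm_smul_left]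

/-- quasi-reflections -/
theorem exists_qr {y : Fin n → F} (hy : hermForm n F q y y = 1) {β : F} (hβ : β * β ^ q = 1) :
    ∃ g ∈ GU n F q, (∀ v, ac g v = v + ((β - 1) * hermForm n F q v y) • y) ∧
      (g : Matrix (Fin n) (Fin n) F).det = β := by
  obtain ⟨g, hg, h1, h2⟩ := exists_T hF (y := y) (c := β - 1) (by
    rw [hy, sub_pow_q hF, one_pow]
    linear_combination hβ)
  refine ⟨g, hg, h1, ?_⟩
  rw [h2, hy]
  ring

/-- transvections -/
theorem exists_tv {u : Fin n → F} (hu : hermForm n F q u u = 0) {c : F} (hc : c + c ^ q = 0) :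
    ∃ g ∈ SS n F q, ∀ v, ac g v = v + (c * hermForm n F q v u) • u := by
  obtain ⟨g, hg, h1, h2⟩ := exists_T hF (y := u) (c := c) (by rw [hu, mul_zero, add_zero]; exact hc)
  refine ⟨g, mem_SS hg ?_, h1⟩
  rw [h2, hu, mul_zero, add_zero]

/-- products of two quasi-reflections -/
theorem exists_qq {y z : Fin n → F} (hy : hermForm n F q y y = 1) (hz : hermForm n F q z z = 1) {β : F}
    (hβ : β * β ^ q = 1) : ∃ g ∈ SS n F q, ∀ v, ac g v = v + ((β ^ q - 1) * hermForm n F q v z) • z +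
      ((β - 1) * hermForm n F q (v + ((β ^ q - 1) * hermForm n F q v z) • z) y) • y := by
  obtain ⟨g, hg, h1, h2⟩ := exists_qr hF hy hβ
  obtain ⟨k, hk, h3, h4⟩ := exists_qr hF hz (β := β ^ q) (by rw [pow_q_pow_q hF, mul_comm]; exact hβ)
  refine ⟨g * k, mem_SS (mul_mem hg hk) ?_, fun v => ?_⟩
  · rw [Units.val_mul, Matrix.det_mul, h2, h4, hβ]
  · rw [ac_mul, h1, h3]

/-- Siegel elements -/
theorem exists_sieg {w u : Fin n → F} (hw : hermForm n F q w w = 1) (hu : hermForm n F q u u = 0)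
    (huw : hermForm n F q u w = 0) {β : F} (hβ : β * β ^ q = 1) :
    ∃ x ∈ SS n F q, ∀ v, ac x v = v + ((1 - β ^ q) * hermForm n F q v w) • u +
      ((β - 1) * hermForm n F q v u) • (w + u) := by
  have hwu := herm_eq_zero_swap hF huw
  obtain ⟨x, hx, h1⟩ := exists_qq hF (y := w + u) (z := w) (by
    rw [herm_add_left, herm_add_right hF, herm_add_right hF, hw, hu, huw, hwu]; ring) hw hβ
  refine ⟨x, hx, fun v => ?_⟩
  rw [h1]
  simp only [herm_add_left, herm_add_right hF, herm_smul_left, hw, hwu]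
  ext i
  simp only [Pi.add_apply, Pi.smul_apply, smul_eq_mul]
  linear_combination ((w i + u i) * hermForm n F q v w) * hβ

omit hF in
/-- scalars -/
theorem exists_sc {b : F} (hb : b * b ^ q = 1) (hF : Fintype.card F = q ^ 2) :
    ∃ g ∈ GU n F q, (∀ v, ac g v = b • v) ∧ (g : Matrix (Fin n) (Fin n) F).det = b ^ n := by
  obtain ⟨g, hg, e⟩ := exists_GU_of_isometry hF (M := b • (1 : Matrix (Fin n) (Fin n) F)) (by
    intro u v
    rw [Matrix.smul_mulVec, Matrix.smul_mulVec, Matrix.one_mulVec, Matrix.one_mulVec, herm_smul_left,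
      herm_smul_right, ← mul_assoc, hb, one_mul])
  refine ⟨g, hg, fun v => ?_, ?_⟩
  · rw [ac_apply, e, Matrix.smul_mulVec, Matrix.one_mulVec]
  · rw [e, Matrix.det_smul, Matrix.det_one, mul_one, Fintype.card_fin]

/-- a vector with `H y v ≠ 0`, moved to an isotropic one by `v` -/
theorem exists_iso {v y : Fin n → F} (hv : hermForm n F q v v = 0) (h : hermForm n F q y v ≠ 0) :
    ∃ l : F, hermForm n F q (y + l • v) (y + l • v) = 0 := by
  obtain ⟨t, ht⟩ := exists_trace_eq hF (c := - hermForm n F q y y) (by rw [neg_pow_q hF, herm_self_pow hF])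
  have hvy : hermForm n F q v y ≠ 0 := fun e => h (herm_eq_zero_swap hF e)
  refine ⟨t / hermForm n F q v y, ?_⟩
  have e1 : hermForm n F q y v = (hermForm n F q v y) ^ q := herm_swap hF v y
  rw [herm_add_left, herm_add_right hF, herm_add_right hF, herm_smul_left, herm_smul_right, herm_smul_left,
    herm_smul_right, hv, e1, div_pow]
  have h2 : (hermForm n F q v y) ^ q ≠ 0 := by rw [← e1]; exact h
  rw [div_mul_cancel₀ _ h2, div_mul_cancel₀ _ hvy]
  linear_combination ht

theorem dbl {w v : Fin n → F} (hw : w ≠ 0) (h : ∀ y, hermForm n F q y w = 0 → hermForm n F q y v = 0) :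
    ∃ c : F, v = c • w := by
  obtain ⟨y0, hy0⟩ := exists_herm_ne_zero hF hw
  have hy : hermForm n F q y0 w ≠ 0 := fun e => hy0 (herm_eq_zero_swap hF e)
  refine ⟨(hermForm n F q y0 v / hermForm n F q y0 w) ^ q, ?_⟩
  rw [← sub_eq_zero]
  refine herm_nondeg hF (q := q) fun y => ?_
  apply herm_eq_zero_swap hF
  rw [herm_sub_right hF, herm_smul_right, pow_q_pow_q hF]
  have h1 := h (y - (hermForm n F q y w / hermForm n F q y0 w) • y0) (by
    rw [herm_sub_left, herm_smul_left, div_mul_cancel₀ _ hy, sub_self])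
  rw [herm_sub_left, herm_smul_left] at h1
  rw [← h1]
  field_simp

end elements

/-! ### The rows -/

section rows

variable {Q : Type*} [Group Q] [Finite Q] {A : Subgroup Q} {Γ : Subgroup (MulAut Q)} (h : EPT A Γ)
variable {F : Type*} [Field F] [Fintype F] {n q : ℕ} (hF : Fintype.card F = q ^ 2) (m : Model Q (SS n F q))

omit [Finite Q] [Fintype F] in
include h in
theorem hat_iff {W : Submodule F (Fin n → F)} (hA : ∀ g ∈ m.hat A, ∀ v ∈ W, ac g v ∈ W) {x : GL (Fin n) F}
    (hx : x ∈ SS n F q) {w : Fin n → F} (hw : w ∈ W) (hxw : ac x w ∉ W) {g : GL (Fin n) F} :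
    g ∈ m.hat A ↔ g ∈ SS n F q ∧ ∀ v ∈ W, ac g v ∈ W := by
  constructor
  · intro hg
    exact ⟨m.hat_le A hg, hA g hg⟩
  · rintro ⟨h1, h2⟩
    have h3 : m.hat A ≤ Geo.subspaceStabilizer W ⊓ SS n F q := fun g hg => mem_inf.2 ⟨mem_stab (hA g hg), m.hat_le A hg⟩
    rcases (m.isMaximalIn h.max).2 _ h3 inf_le_right with h4 | h4
    · rw [← h4]
      exact mem_inf.2 ⟨mem_stab h2, h1⟩
    · exfalso
      have h5 : x ∈ Geo.subspaceStabilizer W ⊓ SS n F q := by rw [h4]; exact hx
      exact hxw (((mem_inf.1 h5).1 w).1 hw)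

/-! #### totally isotropic subspaces -/

variable {W : Submodule F (Fin n → F)}

/-- the unipotent radical -/
def Rad (W : Submodule F (Fin n → F)) (hW : ∀ u ∈ W, ∀ v ∈ W, hermForm n F q u v = 0) :
    Subgroup (GL (Fin n) F) where
  carrier := {g | g ∈ SS n F q ∧ (∀ v ∈ W, ac g v = v) ∧ (∀ v ∈ hermPerp q (W : Set (Fin n → F)), ac g v - v ∈ W) ∧
    ∀ v, ac g v - v ∈ hermPerp q (W : Set (Fin n → F))}
  one_mem' := by
    refine ⟨one_mem _, fun v _ => ac_one v, fun v _ => ?_, fun v => ?_⟩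
    · rw [ac_one, sub_self]; exact zero_mem _
    · rw [ac_one, sub_self]; exact zero_mem _
  mul_mem' := by
    rintro g k ⟨g1, g2, g3, g4⟩ ⟨k1, k2, k3, k4⟩
    refine ⟨mul_mem g1 k1, fun v hv => ?_, fun v hv => ?_, fun v => ?_⟩
    · rw [ac_mul, k2 v hv, g2 v hv]
    · have e : ac (g * k) v - v = (ac g v - v) + ac g (ac k v - v) := by rw [ac_mul, map_sub]; abel
      rw [e, g2 _ (k3 v hv)]
      exact add_mem (g3 v hv) (k3 v hv)
    · have e : ac (g * k) v - v = (ac g v - v) + ((ac g (ac k v - v) - (ac k v - v)) + (ac k v - v)) := by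
        rw [ac_mul, map_sub]; abel
      rw [e]
      refine add_mem (g4 v) (add_mem ?_ (k4 v))
      exact fun w hw => hW _ (g3 _ (k4 v)) w hw
  inv_mem' := by
    rintro g ⟨g1, g2, g3, g4⟩
    have gi : ∀ v ∈ W, ac g⁻¹ v = v := fun v hv => ac_inv_eq (g2 v hv)
    refine ⟨inv_mem g1, gi, fun v hv => ?_, fun v => ?_⟩
    · have h1 : ac g⁻¹ v ∈ hermPerp q (W : Set (Fin n → F)) := by
        intro w hw
        rw [herm_ac_left (inv_mem (mem_inf.1 g1).1), inv_inv, g2 w hw]
        exact hv w hw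
      have h2 := neg_mem (g3 _ h1)
      rwa [ac_ac_inv, neg_sub] at h2
    · have h2 := neg_mem (g4 (ac g⁻¹ v))
      rwa [ac_ac_inv, neg_sub] at h2

variable (hW : ∀ u ∈ W, ∀ v ∈ W, hermForm n F q u v = 0)

omit [Fintype F] in
theorem rad_normal {a r : GL (Fin n) F} (ha : a ∈ SS n F q) (haW : ∀ v ∈ W, ac a v ∈ W) (haW' : ∀ v ∈ W, ac a⁻¹ v ∈ W)
    (hr : r ∈ Rad W hW) : a * r * a⁻¹ ∈ Rad W hW := by
  obtain ⟨r1, r2, r3, r4⟩ := hr
  have hP : ∀ v ∈ hermPerp q (W : Set (Fin n → F)), ac a v ∈ hermPerp q (W : Set (Fin n → F)) := by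
    intro v hv w hw
    rw [herm_ac_left (mem_inf.1 ha).1]
    exact hv _ (haW' w hw)
  have hP' : ∀ v ∈ hermPerp q (W : Set (Fin n → F)), ac a⁻¹ v ∈ hermPerp q (W : Set (Fin n → F)) := by
    intro v hv w hw
    rw [herm_ac_left (inv_mem (mem_inf.1 ha).1), inv_inv]
    exact hv _ (haW w hw)
  have e : ∀ v, ac (a * r * a⁻¹) v - v = ac a (ac r (ac a⁻¹ v) - ac a⁻¹ v) := by
    intro v
    rw [ac_mul, ac_mul, map_sub, ac_ac_inv]
  refine ⟨mul_mem (mul_mem ha r1) (inv_mem ha), fun v hv => ?_, fun v hv => ?_, fun v => ?_⟩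
  · rw [← sub_eq_zero, e, r2 _ (haW' v hv), sub_self, map_zero]
  · rw [e]
    exact haW _ (r3 _ (hP' v hv))
  · rw [e]
    exact hP _ (r4 _)

omit [Fintype F] in
theorem rad_p {p : ℕ} [Fact p.Prime] [CharP F p] {r : GL (Fin n) F} (hr : r ∈ Rad W hW) : r ^ p ^ 2 = 1 := by
  obtain ⟨r1, r2, r3, r4⟩ := hr
  set N : Matrix (Fin n) (Fin n) F := (r : Matrix (Fin n) (Fin n) F) - 1 with hN
  have hNv : ∀ v, N *ᵥ v = ac r v - v := by
    intro v
    rw [hN, Matrix.sub_mulVec, Matrix.one_mulVec, ac_apply]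
  have h3 : N ^ 3 = 0 := by
    apply Matrix.ext_of_mulVec_single
    intro i
    rw [pow_succ, pow_two, ← Matrix.mulVec_mulVec, ← Matrix.mulVec_mulVec, Matrix.zero_mulVec]
    rw [hNv (Pi.single i 1), hNv, hNv, r2 _ (r3 _ (r4 _)), sub_self]
  apply Units.ext
  rw [Units.val_pow_eq_pow_val, Units.val_one]
  have e : (r : Matrix (Fin n) (Fin n) F) = 1 + N := by rw [hN]; abel
  have hp2 : 3 ≤ p ^ 2 := by
    have := (Fact.out : p.Prime).two_le
    nlinarith only [this]
  rcases isEmpty_or_nonempty (Fin n) with he | he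
  · exact Subsingleton.elim _ _
  rw [e, add_pow_char_pow_of_commute (p := p) (n := 2) (Commute.one_left N), one_pow, pow_eq_zero_of_le hp2 h3, add_zero]

include hF in
theorem exists_move (hW0 : W ≠ ⊥) (hW : ∀ u ∈ W, ∀ v ∈ W, hermForm n F q u v = 0) :
    ∃ x ∈ SS n F q, ∃ w ∈ W, ac x w ∉ W := by
  obtain ⟨v, hv, hv0⟩ := (Submodule.ne_bot_iff _).1 hW0
  obtain ⟨y, hy⟩ := exists_herm_ne_zero hF hv0
  have hy' : hermForm n F q y v ≠ 0 := fun e => hy (herm_eq_zero_swap hF e)
  obtain ⟨l, hl⟩ := exists_iso hF (hW v hv v hv) hy'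
  obtain ⟨c, hc0, hc⟩ := exists_trace_zero_ne hF
  obtain ⟨x, hx, hxa⟩ := exists_tv hF hl hc
  have h1 : hermForm n F q (y + l • v) v ≠ 0 := by
    rw [herm_add_left, herm_smul_left, hW v hv v hv, mul_zero, add_zero]
    exact hy'
  have h2 : hermForm n F q v (y + l • v) ≠ 0 := fun e => h1 (herm_eq_zero_swap hF e)
  refine ⟨x, hx, v, hv, fun h3 => ?_⟩
  rw [hxa] at h3
  have h4 := (Submodule.add_mem_iff_right W hv).1 h3
  have h5 := (Submodule.smul_mem_iff W (mul_ne_zero hc0 h2)).1 h4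
  exact h1 (hW _ h5 v hv)

include hF in
/-- a nonisotropic vector orthogonal to `w` -/
theorem exists_unit (hn : 3 ≤ n) {w : Fin n → F} (hw : w ≠ 0) :
    ∃ z, hermForm n F q z w = 0 ∧ hermForm n F q z z = 1 := by
  obtain ⟨z, hz, hzz⟩ : ∃ z, hermForm n F q z w = 0 ∧ hermForm n F q z z ≠ 0 := by
    by_contra hcon
    push Not at hcon
    have h1 : ∀ v ∈ LinearMap.ker (hermLeft q w), hermForm n F q v v = 0 := fun v hv => hcon v hv
    have h2 : LinearMap.ker (hermLeft q w) ≤ Submodule.span F {w} := by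
      intro v hv
      rw [Submodule.mem_span_singleton]
      obtain ⟨c, hc⟩ := dbl hF hw (v := v) (fun y hy => herm_eq_zero_of_isotropic hF _ h1 hy hv)
      exact ⟨c, hc.symm⟩
    have h3 := Submodule.finrank_mono h2
    have h4 := finrank_span_singleton (K := F) hw
    have h5 := LinearMap.finrank_range_add_finrank_ker (hermLeft (F := F) (n := n) q w)
    have h6 : finrank F (LinearMap.range (hermLeft (F := F) (n := n) q w)) ≤ 1 := by
      have := Submodule.finrank_le (LinearMap.range (hermLeft (F := F) (n := n) q w))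
      rwa [finrank_self] at this
    rw [finrank_fin_fun] at h5
    omega
  obtain ⟨a, ha⟩ := _root_.Cfsg.Agent.LieClassical.HermBasic.exists_norm_eq hF (c := (hermForm n F q z z)⁻¹) (by rw [inv_pow, herm_self_pow hF])
  refine ⟨a • z, ?_, ?_⟩
  · rw [herm_smul_left, hz, mul_zero]
  · rw [herm_smul_left, herm_smul_right, ← mul_assoc, ha, inv_mul_cancel₀ hzz]

include h hF in
/-- **totally isotropic subspaces** -/
theorem iso_false (hn : 3 ≤ n) (hW : ∀ u ∈ W, ∀ v ∈ W, hermForm n F q u v = 0) (hW0 : W ≠ ⊥)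
    (hA : ∀ g ∈ m.hat A, ∀ v ∈ W, ac g v ∈ W) : False := by
  obtain ⟨x₀, hx₀, w₀, hw₀, hxw₀⟩ := exists_move hF hW0 hW
  have hiff := fun g => hat_iff h m hA hx₀ hw₀ hxw₀ (g := g)
  obtain ⟨p, hp⟩ := CharP.exists F
  have hpp : Fact p.Prime := ⟨CharP.char_is_prime F p⟩
  have hR : Rad (q := q) W hW ≤ m.hat A := by
    rintro r ⟨r1, r2, -, -⟩
    rw [hiff]
    exact ⟨r1, fun v hv => by rw [r2 v hv]; exact hv⟩
  have hRn : ∀ a ∈ m.hat A, ∀ r ∈ Rad (q := q) W hW, a * r * a⁻¹ ∈ Rad (q := q) W hW := by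
    intro a ha r hr
    exact rad_normal hW (m.hat_le A ha) (hA a ha) (hA _ (inv_mem ha)) hr
  have hRp : ∀ r ∈ Rad (q := q) W hW, ∃ k : ℕ, r ^ p ^ k = 1 := fun r hr => ⟨2, rad_p hW hr⟩
  obtain ⟨w, hw, hw0⟩ := (Submodule.ne_bot_iff _).1 hW0
  have hww := hW w hw w hw
  obtain ⟨c, hc0, hc⟩ := exists_trace_zero_ne hF
  by_cases h2 : ∃ v ∈ W, ∀ a : F, v ≠ a • w
  · -- dimension at least two
    obtain ⟨v, hv, hvw⟩ := h2
    obtain ⟨y, hyw, hyv⟩ : ∃ y, hermForm n F q y w = 0 ∧ hermForm n F q y v ≠ 0 := by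
      by_contra hcon
      push Not at hcon
      obtain ⟨a, ha⟩ := dbl hF hw0 hcon
      exact hvw a ha
    obtain ⟨l, hl⟩ := exists_iso hF (hW v hv v hv) hyv
    set u := y + l • v with hu
    have huw : hermForm n F q u w = 0 := by rw [hu, herm_add_left, herm_smul_left, hyw, hW v hv w hw]; ring
    have hwu := herm_eq_zero_swap hF huw
    have huv : hermForm n F q u v ≠ 0 := by
      rw [hu, herm_add_left, herm_smul_left, hW v hv v hv, mul_zero, add_zero]
      exact hyv
    have hvu : hermForm n F q v u ≠ 0 := fun e => huv (herm_eq_zero_swap hF e)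
    obtain ⟨x, hx, hxa⟩ := exists_tv hF hl hc
    obtain ⟨t, ht, hta⟩ := exists_tv hF hww hc
    have hxA : x ∉ m.hat A := by
      intro h3
      have h4 := hA x h3 v hv
      rw [hxa] at h4
      have h5 := (Submodule.smul_mem_iff W (mul_ne_zero hc0 hvu)).1 ((Submodule.add_mem_iff_right W hv).1 h4)
      exact huv (hW _ h5 v hv)
    have htR : t ∈ Rad (q := q) W hW := by
      refine ⟨ht, fun v' hv' => ?_, fun v' hv' => ?_, fun v' => ?_⟩
      · rw [hta, hW v' hv' w hw, mul_zero, zero_smul, add_zero]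
      · rw [hta, add_sub_cancel_left]
        exact W.smul_mem _ hw
      · rw [hta, add_sub_cancel_left]
        exact Submodule.smul_mem _ _ fun w' hw' => hW w hw w' hw'
    have hcomm : x⁻¹ * t * x = t := by
      rw [mul_assoc, inv_mul_eq_iff_eq_mul]
      apply ext_ac
      intro z
      rw [ac_mul, ac_mul, hta, hxa, hxa, hta]
      simp only [herm_add_left, herm_smul_left, huw, hwu]
      ext i
      simp only [Pi.add_apply, Pi.smul_apply, smul_eq_mul]
      ring
    have h3 := kill_p_conj h m hR hRn hRp hx hxA htR (by rw [hcomm]; exact hR htR)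
    have h4 := eq_one_of_scalar h3 hw0 (htR.2.1 w hw)
    apply hw0
    refine herm_nondeg hF (q := q) fun z => ?_
    apply herm_eq_zero_swap hF
    have h5 := hta z
    rw [h4, ac_one] at h5
    have h6 : (c * hermForm n F q z w) • w = 0 := by
      have := congrArg (fun y => y - z) h5
      simpa only [_root_.smul_eq_zero, _root_.mul_eq_zero, _root_.add_sub_cancel_left, _root_.sub_self] using this.symm
    rcases smul_eq_zero.1 h6 with h7 | h7
    · rcases mul_eq_zero.1 h7 with h8 | h8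
      · exact absurd h8 hc0
      · exact h8
    · exact absurd h7 hw0
  · -- dimension one
    push Not at h2
    obtain ⟨z, hzw, hzz⟩ := exists_unit hF hn hw0
    have hwz := herm_eq_zero_swap hF hzw
    obtain ⟨β, hβ1, hβ2⟩ := Cfsg.Agent.ClassicalGeometry.GUBasic.exists_norm_one hF
    have hβ : β * β ^ q = 1 := by rw [← pow_succ']; exact hβ1
    have hX : ∀ a : F, ∃ g ∈ Rad (q := q) W hW, ∀ v, ac g v = v + ((β - 1) * a ^ q * hermForm n F q v w) • z +
        ((1 - β ^ q) * a * hermForm n F q v z + (β - 1) * a ^ q * a * hermForm n F q v w) • w := by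
      intro a
      obtain ⟨g, hg, hga⟩ := exists_sieg hF (w := z) (u := a • w) hzz (by
        rw [herm_smul_left, hW w hw _ (W.smul_mem a hw), mul_zero]) (by rw [herm_smul_left, hwz, mul_zero]) hβ
      have e : ∀ v, ac g v = v + ((β - 1) * a ^ q * hermForm n F q v w) • z +
          ((1 - β ^ q) * a * hermForm n F q v z + (β - 1) * a ^ q * a * hermForm n F q v w) • w := by
        intro v
        rw [hga, herm_smul_right]
        ext i
        simp only [Pi.add_apply, Pi.smul_apply, smul_eq_mul]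
        ring
      refine ⟨g, ⟨hg, fun v hv => ?_, fun v hv => ?_, fun v => ?_⟩, e⟩
      · obtain ⟨b, rfl⟩ := h2 v hv
        rw [e, herm_smul_left, herm_smul_left, hww, hwz]
        simp
      · rw [e, hv w hw, add_sub_right_comm]
        simp only [mul_zero, zero_smul, add_zero, sub_self, zero_add]
        exact W.smul_mem _ hw
      · have e2 : ac g v - v = ((β - 1) * a ^ q * hermForm n F q v w) • z +
            ((1 - β ^ q) * a * hermForm n F q v z + (β - 1) * a ^ q * a * hermForm n F q v w) • w := by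
          rw [e]; abel
        rw [e2]
        refine add_mem (Submodule.smul_mem _ _ ?_) (Submodule.smul_mem _ _ fun w' hw' => hW w hw w' hw')
        intro w' hw'
        obtain ⟨b, rfl⟩ := h2 w' hw'
        rw [herm_smul_right, hzw, mul_zero]
    obtain ⟨b, hb⟩ := exists_not_fixed hF
    obtain ⟨g, hg, hga⟩ := hX 1
    obtain ⟨k, hk, hka⟩ := hX b
    obtain ⟨s, hs, hgk⟩ := kill_p_comm h m hR hRn hRp hg hk
    have hs1 : s = 1 := by
      apply eq_one_of_scalar hs hw0
      have h3 : ac (g * k) w = ac (k * g * s) w := by rw [hgk]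
      obtain ⟨a, ha⟩ := ac_scalar hs
      rw [ac_mul, ac_mul, ac_mul, hk.2.1 w hw, hg.2.1 w hw, ha, map_smul, map_smul, hg.2.1 w hw, hk.2.1 w hw] at h3
      rw [ha, ← h3]
    rw [hs1, mul_one] at hgk
    obtain ⟨v, hv⟩ := exists_herm_ne_zero hF hw0
    have hv' : hermForm n F q v w ≠ 0 := fun e => hv (herm_eq_zero_swap hF e)
    have h3 : ac (g * k) v = ac (k * g) v := by rw [hgk]
    have hzz' : ∀ a : F, a * 1 = a := fun a => mul_one a
    have e1 : ac (g * k) v - ac (k * g) v = ((β - 1) * (1 - β ^ q) * hermForm n F q v w * (b ^ q - b)) • w := by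
      rw [ac_mul, ac_mul, hka, hga (v + _ + _), hga v, hka (v + _ + _)]
      simp only [herm_add_left, herm_smul_left, hzz, hzw, hwz, hww, one_pow]
      ext i
      simp only [Pi.add_apply, Pi.sub_apply, Pi.smul_apply, smul_eq_mul]
      ring
    rw [h3, sub_self] at e1
    rcases smul_eq_zero.1 e1.symm with h4 | h4
    · have hb' : b ^ q - b ≠ 0 := sub_ne_zero.2 hb
      have hβ3 : β - 1 ≠ 0 := sub_ne_zero.2 hβ2
      have hβ4 : 1 - β ^ q ≠ 0 := by
        intro e
        apply hβ2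
        have : β ^ q = 1 := (sub_eq_zero.1 e).symm
        rw [this, mul_one] at hβ
        exact hβ
      exact mul_ne_zero (mul_ne_zero (mul_ne_zero hβ3 hβ4) hv') hb' h4
    · exact hw0 h4

/-! #### nondegenerate subspaces -/

include h hF in
theorem nondeg_kill (hWn : ∀ u ∈ W, (∀ v ∈ W, hermForm n F q u v = 0) → u = 0)
    (hA : ∀ g ∈ m.hat A, ∀ v ∈ W, ac g v ∈ W) {w u : Fin n → F} (hw : w ∈ W) (hww : hermForm n F q w w = 1)
    (hu : ∀ v ∈ W, hermForm n F q u v = 0) (huu : hermForm n F q u u = 0) (hu0 : u ≠ 0) {p : GL (Fin n) F}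
    (hp : p ∈ SS n F q) (hpW : ∀ v ∈ W, ac p v ∈ W) {α δ : F} (hpw : ac p w = α • w) (hpu : ac p u = δ • u)
    (hαδ : α ≠ δ) : False := by
  have hu' : ∀ v ∈ W, hermForm n F q v u = 0 := fun v hv => herm_eq_zero_swap hF (hu v hv)
  obtain ⟨β, hβ1, hβ2⟩ := Cfsg.Agent.ClassicalGeometry.GUBasic.exists_norm_one hF
  have hβ : β * β ^ q = 1 := by rw [← pow_succ']; exact hβ1
  obtain ⟨x, hx, hxa⟩ := exists_sieg hF hww huu (hu w hw) hβ
  set d : F := 1 - β ^ q with hd
  have hd0 : d ≠ 0 := by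
    intro e
    apply hβ2
    have : β ^ q = 1 := (sub_eq_zero.1 e).symm
    rw [this, mul_one] at hβ
    exact hβ
  have hxW : ∀ v ∈ W, ac x v = v + (d * hermForm n F q v w) • u := by
    intro v hv
    rw [hxa, hu' v hv, mul_zero, zero_smul, add_zero]
  have hnW : ∀ a : F, ∀ v ∈ W, v + a • u ∈ W → a = 0 := by
    intro a v hv h1
    have h2 := (Submodule.add_mem_iff_right W hv).1 h1
    by_contra ha
    have h3 := (Submodule.smul_mem_iff W ha).1 h2
    exact hu0 (hWn u h3 hu)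
  have hxw : ac x w ∉ W := by
    rw [hxW w hw, hww, mul_one]
    intro h1
    exact hd0 (hnW _ w hw h1)
  have hxA : x ∉ m.hat A := fun h1 => hxw (hA x h1 w hw)
  have hiff := fun g => hat_iff h m hA hx hw hxw (g := g)
  -- decomposition
  have hdec : ∀ a ∈ W, ∀ b ∈ W, ∀ c d : Fin n → F, (∀ v ∈ W, hermForm n F q c v = 0) →
      (∀ v ∈ W, hermForm n F q d v = 0) → a + c = b + d → a = b ∧ c = d := by
    intro a ha b hb c d hc hd e
    have h1 : a - b = d - c := by rw [sub_eq_sub_iff_add_eq_add, e, add_comm]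
    have h2 : a - b = 0 := by
      apply hWn _ (sub_mem ha hb)
      intro v hv
      rw [h1, herm_sub_left, hc v hv, hd v hv, sub_zero]
    have h3 := sub_eq_zero.1 h2
    refine ⟨h3, ?_⟩
    rw [h3] at e
    exact add_left_cancel e
  have hperp : ∀ g ∈ m.hat A, ∀ c : Fin n → F, (∀ v ∈ W, hermForm n F q c v = 0) →
      ∀ v ∈ W, hermForm n F q (ac g c) v = 0 := by
    intro g hg c hc v hv
    rw [herm_ac_left (mem_inf.1 (m.hat_le A hg)).1]
    exact hc _ (hA _ (inv_mem hg) v hv)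
  have hsm : ∀ (a : F) (c : Fin n → F), (∀ v ∈ W, hermForm n F q c v = 0) → ∀ v ∈ W, hermForm n F q (a • c) v = 0 := by
    intro a c hc v hv
    rw [herm_smul_left, hc v hv, mul_zero]
  -- the condition
  have star : ∀ g ∈ m.hat A, (x⁻¹ * g * x ∈ m.hat A ↔
      ∀ v ∈ W, hermForm n F q v w • ac g u = hermForm n F q (ac g v) w • u) := by
    intro g hg
    constructor
    · intro h1 v hv
      have h2 := hA _ h1 v hv
      set v1 := ac (x⁻¹ * g * x) v with hv1
      have h3 : ac g (ac x v) = ac x v1 := by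
        rw [hv1, ← ac_mul, ← ac_mul]
        congr 1
        group
      rw [hxW v hv, hxW v1 h2, map_add, map_smul] at h3
      obtain ⟨h4, h5⟩ := hdec _ (hA g hg v hv) _ h2 _ _ (hsm _ _ (hperp g hg u hu)) (hsm _ _ hu) h3
      rw [h4]
      have h6 : d • (hermForm n F q v w • ac g u) = d • (hermForm n F q v1 w • u) := by
        rw [smul_smul, smul_smul]; exact h5
      exact smul_right_injective _ hd0 h6
    · intro h1
      rw [hiff]
      refine ⟨mul_mem (mul_mem (inv_mem hx) (m.hat_le A hg)) hx, fun v hv => ?_⟩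
      have h2 : ac g (ac x v) = ac x (ac g v) := by
        rw [hxW v hv, hxW _ (hA g hg v hv), map_add, map_smul, mul_smul, h1 v hv, ← mul_smul]
      rw [ac_mul, ac_mul, h2, ac_inv_ac]
      exact hA g hg v hv
  have hpA : p ∈ m.hat A := (hiff p).2 ⟨hp, hpW⟩
  have hα : α ≠ 0 := by
    rintro rfl
    rw [zero_smul] at hpw
    have h1 : w = 0 := ac_inj p (by rw [hpw, map_zero])
    rw [h1, herm_zero_left] at hww
    exact zero_ne_one hww
  have hδ : δ ≠ 0 := by
    rintro rfl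
    rw [zero_smul] at hpu
    exact hu0 (ac_inj p (by rw [hpu, map_zero]))
  have hpw' : ac p⁻¹ w = α⁻¹ • w := ac_inv_eq (by rw [map_smul, hpw, smul_smul, inv_mul_cancel₀ hα, one_smul])
  have hpu' : ac p⁻¹ u = δ⁻¹ • u := ac_inv_eq (by rw [map_smul, hpu, smul_smul, inv_mul_cancel₀ hδ, one_smul])
  have hpG := (mem_inf.1 hp).1
  have key := kill_norm h m hx hxA hpA (fun g hg hgx => by
    have hpg : p * g * p⁻¹ ∈ m.hat A := mul_mem (mul_mem hpA hg) (inv_mem hpA)
    rw [star _ hpg]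
    rw [star g hg] at hgx
    intro v hv
    have hv' := hA _ (inv_mem hpA) v hv
    have h1 := hgx _ hv'
    have e1 : hermForm n F q v w = (α⁻¹) ^ q * hermForm n F q (ac p⁻¹ v) w := by
      have : v = ac p (ac p⁻¹ v) := (ac_ac_inv p v).symm
      conv_lhs => rw [this]
      rw [herm_ac_left hpG, hpw', herm_smul_right]
    have e2 : hermForm n F q (ac (p * g * p⁻¹) v) w = (α⁻¹) ^ q * hermForm n F q (ac g (ac p⁻¹ v)) w := by
      rw [ac_mul, ac_mul, herm_ac_left hpG, hpw', herm_smul_right]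
    have h3 : ac p (ac g u) = δ • ac p (ac g (δ⁻¹ • u)) := by
      rw [map_smul, map_smul, smul_smul, mul_inv_cancel₀ hδ, one_smul]
    have h4 : hermForm n F q (ac p⁻¹ v) w • ac p (ac g u) = hermForm n F q (ac g (ac p⁻¹ v)) w • (δ • u) := by
      rw [← map_smul (ac p), h1, map_smul, hpu]
    rw [e1, e2, ac_mul, ac_mul, hpu', mul_smul, mul_smul]
    congr 1
    rw [h3, smul_comm, smul_comm (hermForm n F q (ac g (ac p⁻¹ v)) w) δ] at h4
    exact smul_right_injective _ hδ h4)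
  have h2 := (star p hpA).1 key w hw
  rw [hww, hpw, herm_smul_left, hww, one_smul, mul_one, hpu] at h2
  apply hαδ
  have h3 : (δ - α) • u = 0 := by rw [sub_smul, h2, sub_self]
  rcases smul_eq_zero.1 h3 with h4 | h4
  · exact (sub_eq_zero.1 h4).symm
  · exact absurd h4 hu0

include hF in
theorem exists_cube (hq : q ≠ 2) : ∃ b : F, b * b ^ q = 1 ∧ b ^ 3 ≠ 1 := by
  by_contra hcon
  push Not at hcon
  have h1 := card_norm_eq_one hF
  have h2 := two_le hF
  let f : {x : F // x * x ^ q = 1} → rootsOfUnity 3 F := fun x => rootsOfUnity.mkOfPowEq x.1 (hcon x.1 x.2)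
  have hf : Function.Injective f := by
    intro x y hxy
    apply Subtype.ext
    have := congrArg (fun z : rootsOfUnity 3 F => ((z : Fˣ) : F)) hxy
    exact this
  have h3 := Nat.card_le_card_of_injective f hf
  have h4 : Nat.card (rootsOfUnity 3 F) ≤ 3 := card_rootsOfUnity F 3
  omega

include h hF in
theorem nondeg_core (hq : ¬ (n = 3 ∧ q = 2)) (hWn : ∀ u ∈ W, (∀ v ∈ W, hermForm n F q u v = 0) → u = 0)
    (hW0 : W ≠ ⊥) (h2 : 2 ≤ finrank F (hermPerp q (W : Set (Fin n → F)) : Submodule F (Fin n → F)))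
    (hA : ∀ g ∈ m.hat A, ∀ v ∈ W, ac g v ∈ W) : False := by
  obtain ⟨b, hb, hbb⟩ := exists_orthonormal hF W hWn rfl
  obtain ⟨c, hc, hcc⟩ := exists_orthonormal hF _ (hermPerp_nondeg hF W hWn) rfl
  have hsum := finrank_hermPerp_of_nondeg hF W hWn
  have hk : 0 < finrank F W := Submodule.one_le_finrank_iff.2 hW0
  obtain ⟨a, ha⟩ := _root_.Cfsg.Agent.LieClassical.HermBasic.exists_norm_eq hF (c := (-1 : F)) (by rw [neg_pow_q hF, one_pow])
  obtain ⟨β, hβ1, hβ2⟩ := Cfsg.Agent.ClassicalGeometry.GUBasic.exists_norm_one hF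
  have hβ : β * β ^ q = 1 := by rw [← pow_succ']; exact hβ1
  set w := b ⟨0, hk⟩ with hw
  set e1 := c ⟨0, by omega⟩ with he1
  set e2 := c ⟨1, by omega⟩ with he2
  have hww : hermForm n F q w w = 1 := by rw [hw, hbb, if_pos rfl]
  have h11 : hermForm n F q e1 e1 = 1 := by rw [he1, hcc, if_pos rfl]
  have h22 : hermForm n F q e2 e2 = 1 := by rw [he2, hcc, if_pos rfl]
  have h12 : hermForm n F q e1 e2 = 0 := by rw [he1, he2, hcc, if_neg (by simp)]
  have h21 : hermForm n F q e2 e1 = 0 := herm_eq_zero_swap hF h12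
  have hwW : w ∈ W := hb _
  have he1W : ∀ v ∈ W, hermForm n F q e1 v = 0 := fun v hv => hc _ v hv
  have he2W : ∀ v ∈ W, hermForm n F q e2 v = 0 := fun v hv => hc _ v hv
  set u := e1 + a • e2 with hu
  have huW : ∀ v ∈ W, hermForm n F q u v = 0 := by
    intro v hv
    rw [hu, herm_add_left, herm_smul_left, he1W v hv, he2W v hv, mul_zero, add_zero]
  have huu : hermForm n F q u u = 0 := by
    rw [hu, herm_add_left, herm_add_right hF, herm_add_right hF, herm_smul_left, herm_smul_right, herm_smul_left,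
      herm_smul_right, h11, h22, h12, h21]
    linear_combination ha
  have hu0 : u ≠ 0 := by
    intro e
    have : hermForm n F q u e1 = 1 := by rw [hu, herm_add_left, herm_smul_left, h11, h21]; ring
    rw [e, herm_zero_left] at this
    exact zero_ne_one this
  have kill := fun p hp hpW α δ hpw hpu hne => nondeg_kill h hF m hWn hA hwW hww huW huu hu0 (p := p) hp hpW (α := α)
    (δ := δ) hpw hpu hne
  -- with a further unit vector
  have case1 : ∀ z : Fin n → F, hermForm n F q z z = 1 → hermForm n F q w z = 0 → hermForm n F q u z = 0 →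
      (z ∈ W ∨ ∀ v ∈ W, hermForm n F q v z = 0) → False := by
    intro z hzz hwz huz hzW
    obtain ⟨p, hp, hpa⟩ := exists_qq hF hww hzz hβ
    refine kill p hp ?_ β 1 ?_ ?_ hβ2
    · intro v hv
      rw [hpa]
      refine add_mem (add_mem hv ?_) (W.smul_mem _ hwW)
      rcases hzW with hz | hz
      · exact W.smul_mem _ hz
      · rw [hz v hv, mul_zero, zero_smul]; exact zero_mem _
    · rw [hpa, hwz]
      simp only [mul_zero, zero_smul, add_zero, hww, mul_one]
      rw [sub_smul, one_smul]; abel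
    · rw [hpa, huz]
      simp only [mul_zero, zero_smul, add_zero, huW w hwW, one_smul]
  rcases Nat.lt_or_ge 1 (finrank F W) with h3 | h3
  · -- `z` in `W`
    refine case1 (b ⟨1, h3⟩) (by rw [hbb, if_pos rfl]) (by rw [hw, hbb, if_neg (by simp)]) (huW _ (hb _)) (Or.inl (hb _))
  · rcases Nat.lt_or_ge 2 (finrank F (hermPerp q (W : Set (Fin n → F)) : Submodule F (Fin n → F))) with h4 | h4
    · refine case1 (c ⟨2, h4⟩) (by rw [hcc, if_pos rfl]) (herm_eq_zero_swap hF (hc _ w hwW)) ?_ (Or.inr fun v hv =>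
        herm_eq_zero_swap hF (hc _ v hv))
      rw [hu, herm_add_left, herm_smul_left, he1, he2, hcc, hcc, if_neg (by simp), if_neg (by simp)]
      ring
    · -- `n = 3`
      have hn3 : n = 3 := by omega
      obtain ⟨s, hs1, hs3⟩ := exists_cube hF (fun e => hq ⟨hn3, e⟩)
      have hs0 : s ≠ 0 := by
        rintro rfl
        rw [zero_mul] at hs1
        exact zero_ne_one hs1
      have ht : (s ^ 3)⁻¹ * ((s ^ 3)⁻¹) ^ q = 1 := by
        have e : s ^ 3 * (s ^ 3) ^ q = 1 := by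
          rw [← pow_mul, mul_comm 3 q, pow_mul, ← mul_pow, hs1, one_pow]
        rw [inv_pow, ← mul_inv, e, inv_one]
      obtain ⟨g, hg, hga, hgd⟩ := exists_sc (n := n) hs1 hF
      obtain ⟨k, hk', hka, hkd⟩ := exists_qr hF hww ht
      have hkw : ac k w = (s ^ 3)⁻¹ • w := by
        rw [hka, hww, mul_one, sub_smul, one_smul]; abel
      have hku : ac k u = u := by
        rw [hka, huW w hwW, mul_zero, zero_smul, add_zero]
      refine kill (g * k) (mem_SS (mul_mem hg hk') ?_) ?_ (s * (s ^ 3)⁻¹) s ?_ ?_ ?_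
      · rw [Units.val_mul, Matrix.det_mul, hgd, hkd, hn3, mul_inv_cancel₀ (pow_ne_zero _ hs0)]
      · intro v hv
        rw [ac_mul, hga, hka]
        exact W.smul_mem _ (add_mem hv (W.smul_mem _ hwW))
      · rw [ac_mul, hkw, hga, smul_smul]
      · rw [ac_mul, hku, hga]
      · intro e
        apply hs3
        have h5 : (s ^ 3)⁻¹ = 1 := mul_left_cancel₀ hs0 (by rw [e, mul_one])
        rwa [inv_eq_one] at h5

/-- **reducible subgroups of `SU_n(q)`** -/
theorem su_c1 {Q : Type*} [Group Q] [Finite Q] {A : Subgroup Q} {Γ : Subgroup (MulAut Q)} (h : EPT A Γ)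
    {F : Type*} [Field F] [Fintype F] {n q : ℕ} (hF : Fintype.card F = q ^ 2) (hn : 3 ≤ n) (hq : ¬ (n = 3 ∧ q = 2))
    (m : Model Q (GU n F q ⊓ Geo.specialLinear (Fin n) F)) {W : Submodule F (Fin n → F)} (hW0 : W ≠ ⊥) (hW1 : W ≠ ⊤)
    (hA : m.hat A ≤ Geo.subspaceStabilizer W) : False := by
  have hA' : ∀ g ∈ m.hat A, ∀ v ∈ W, ac g v ∈ W := fun g hg v hv => ((hA hg) v).1 hv
  have hP : ∀ g ∈ m.hat A, ∀ v ∈ hermPerp q (W : Set (Fin n → F)), ac g v ∈ hermPerp q (W : Set (Fin n → F)) := by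
    intro g hg v hv w hw
    rw [herm_ac_left (mem_inf.1 (m.hat_le A hg)).1]
    exact hv _ (hA' _ (inv_mem hg) w hw)
  by_cases hD : W ⊓ hermPerp q (W : Set (Fin n → F)) = ⊥
  · have hWn : ∀ u ∈ W, (∀ v ∈ W, hermForm n F q u v = 0) → u = 0 := by
      intro u hu hu'
      have h1 : u ∈ W ⊓ hermPerp q (W : Set (Fin n → F)) := ⟨hu, hu'⟩
      rw [hD] at h1
      exact (Submodule.mem_bot F).1 h1
    have hsum := finrank_hermPerp_of_nondeg hF W hWn
    have hlt : finrank F W < n := by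
      have := Submodule.finrank_lt hW1
      rwa [finrank_fin_fun] at this
    rcases Nat.lt_or_ge 1 (finrank F (hermPerp q (W : Set (Fin n → F)) : Submodule F (Fin n → F))) with h2 | h2
    · exact nondeg_core h hF m hq hWn hW0 h2 hA'
    · have hPn := hermPerp_nondeg hF W hWn
      refine nondeg_core h hF m hq (W := hermPerp q (W : Set (Fin n → F))) hPn ?_ ?_ hP
      · intro e
        rw [e, finrank_bot] at hsum
        omega
      · have hsum' := finrank_hermPerp_of_nondeg hF _ hPn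
        omega
  · refine iso_false h hF m hn (W := W ⊓ hermPerp q (W : Set (Fin n → F))) ?_ hD ?_
    · intro u hu v hv
      exact hu.2 v hv.1
    · intro g hg v hv
      exact ⟨hA' g hg v hv.1, hP g hg v hv.2⟩

end rows

end Cfsg.Agent.H29.EP.SU
end

-- part: H29/EP/SUK
section
/-!
# S3499-III-SU-C1 in the form of `H588.EPU.Asm` (helper29)
-/

set_option autoImplicit false

namespace Cfsg.Agent.H29.EP.SU

open Matrix Module Subgroup Cfsg Cfsg.Geo Cfsg.Agent.H284 Cfsg.Agent.H419.EP Cfsg.Agent.H588.EPU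
open Cfsg.Agent.LieClassical.HermBasic
open scoped MatrixGroups

/-- totally singular subspaces -/
theorem kills_C1a : Kills C1a := by
  intro Q _ _ _ A Γ h F _ _ n q m hF hn hq _ M hM hle
  obtain ⟨W, hW0, hW, rfl⟩ := hM
  refine su_c1 h hF hn hq m hW0 ?_ (hle.trans inf_le_left)
  rintro rfl
  have h1 := hW (Pi.single ⟨0, by omega⟩ 1) Submodule.mem_top (Pi.single ⟨0, by omega⟩ 1) Submodule.mem_top
  rw [herm_single_right hF, Pi.single_eq_same, one_pow, mul_one] at h1
  exact one_ne_zero h1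

/-- nondegenerate subspaces -/
theorem kills_C1b : Kills C1b := by
  intro Q _ _ _ A Γ h F _ _ n q m hF hn hq _ M hM hle
  obtain ⟨W, hW0, -, hW, rfl⟩ := hM
  refine su_c1 h hF hn hq m hW0 ?_ (hle.trans inf_le_left)
  rintro rfl
  rw [finrank_top, finrank_fin_fun] at hW
  omega

end Cfsg.Agent.H29.EP.SU
end

-- part: H932/EP/C6
section
/-!
# S3499, unitary groups, class 6 (helper932)

`su_c6` : `A` is not contained in the normaliser of a group `R` of symplectic type. By (T1) the elements of `SU` which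
commute with a non-scalar element `v` of `R ∩ SU` normalise `R`. If `n > r`, some eigenspace of `v` contains an
isotropic vector, and a transvection normalises `R`; if `n = r`, then `diag(a, a⁻¹, 1, ..)` normalises `R`.
-/

set_option autoImplicit false
set_option linter.unusedSectionVars false

namespace Cfsg.Agent.H932.EP

open Subgroup Cfsg Cfsg.Geo Cfsg.Agent.H284 Cfsg.Agent.H419.EP Cfsg.Agent.LieClassical.HermBasic
open scoped MatrixGroups Matrix

/-! ### (T1) -/

section T1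

variable {Q : Type*} [Group Q] [Finite Q] {A : Subgroup Q} {Γ : Subgroup (MulAut Q)} (h : EPT A Γ)
variable {ι : Type} [Fintype ι] [DecidableEq ι] {F : Type*} [Field F] {S : Subgroup (GL ι F)} (m : Model Q S)

include h

/-- an automorphism in `Γ` preserves `O_r(A)` -/
theorem pCore_inv (r : ℕ) {σ : MulAut Q} (hσ : σ ∈ Γ) {k : Q} (hk : k ∈ (pCore r A).map A.subtype) :
    σ k ∈ (pCore r A).map A.subtype := by
  let τ : A ≃* A :=
    { toFun := fun a => ⟨σ a, (h.inv σ hσ a).2 a.2⟩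
      invFun := fun a => ⟨σ⁻¹ a, (h.inv σ⁻¹ (Γ.inv_mem hσ) a).2 a.2⟩
      left_inv := fun a => Subtype.ext (MulAut.inv_apply_self Q σ _)
      right_inv := fun a => Subtype.ext (MulAut.apply_inv_self Q σ _)
      map_mul' := fun a b => Subtype.ext (map_mul σ _ _) }
  obtain ⟨a, ha, rfl⟩ := hk
  refine ⟨τ a, ?_, rfl⟩
  rw [← Lib.Cores.map_equiv_pCore τ r]
  exact ⟨a, ha, rfl⟩

/-- elements of `S` commuting with a non-scalar element of a normal `r`-subgroup of `Â` lie in `Â` -/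
theorem mem_hat_of_comm {R0 : Subgroup (GL ι F)} (hRA : R0 ≤ m.hat A)
    (hRn : ∀ g ∈ m.hat A, ∀ x ∈ R0, g * x * g⁻¹ ∈ R0) {r : ℕ} [Fact r.Prime] (hp : IsPGroup r R0) {v : GL ι F}
    (hv : v ∈ R0) (hvs : v ∉ Cfsg.Geo.scalars ι F) {x : GL ι F} (hx : x ∈ S) (hxv : x * v = v * x) :
    x ∈ m.hat A := by
  by_contra hxA
  have hx' : m.π ⟨x, hx⟩ ∉ A := fun e => hxA ((m.mem_hat_iff ⟨x, hx⟩).2 e)
  set K : Subgroup Q := (pCore r A).map A.subtype with hK
  have hvS : v ∈ S := m.hat_le A (hRA hv)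
  have hvA : m.π ⟨v, hvS⟩ ∈ A := (m.mem_hat_iff ⟨v, hvS⟩).1 (hRA hv)
  -- the image of `R0` is in `K`
  have hR0 : ((R0.subgroupOf S).map m.π).subgroupOf A ≤ pCore r A := by
    apply Lib.Cores.le_pCore
    · refine ⟨?_⟩
      rintro ⟨b, hbA⟩ ⟨s, hs, hb⟩ ⟨g, hg⟩
      obtain ⟨t, rfl⟩ := m.surj g
      refine ⟨t * s * t⁻¹, hRn _ ((m.mem_hat_iff t).2 hg) _ hs, ?_⟩
      rw [map_mul, map_mul, map_inv]
      show m.π t * m.π s * (m.π t)⁻¹ = m.π t * b * (m.π t)⁻¹
      rw [hb]
      rfl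
    · refine IsPGroup.comap_subtype (IsPGroup.map ?_ m.π)
      rintro ⟨s, hs⟩
      obtain ⟨k, hk⟩ := hp ⟨s, hs⟩
      exact ⟨k, Subtype.ext (Subtype.ext (congrArg (fun y : R0 => (y : GL ι F)) hk))⟩
  have hvK : m.π ⟨v, hvS⟩ ∈ K := ⟨⟨_, hvA⟩, hR0 ⟨⟨v, hvS⟩, hv, rfl⟩, rfl⟩
  have hv1 : m.π ⟨v, hvS⟩ ≠ 1 := fun e => hvs ((m.ker ⟨v, hvS⟩).1 e)
  have hKp : IsPGroup r K := (Lib.Cores.pCore_isPGroup r).map _
  have hKn : Group.IsNilpotent K := hKp.isNilpotent
  obtain ⟨-, -, -, h4, -⟩ := h.nilp K (by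
    rintro _ ⟨a, _, rfl⟩
    exact a.2) (fun σ hσ k hk => pCore_inv h r hσ hk) hKn (fun e => hv1 (by rw [e] at hvK; exact hvK))
  have h5 := (h4 _ hx').1
  have h6 : m.π ⟨v, hvS⟩ ∈ K ⊓ cj (m.π ⟨x, hx⟩) A := by
    refine ⟨hvK, mem_cj.2 ?_⟩
    have e1 : (⟨x, hx⟩ : S) * ⟨v, hvS⟩ = ⟨v, hvS⟩ * ⟨x, hx⟩ := Subtype.ext hxv
    have e2 : (m.π ⟨x, hx⟩)⁻¹ * m.π ⟨v, hvS⟩ * m.π ⟨x, hx⟩ = m.π ⟨v, hvS⟩ := by
      rw [mul_assoc, ← map_mul, ← e1, map_mul, inv_mul_cancel_left]
    rw [e2]
    exact hvA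
  rw [h5, Subgroup.mem_bot] at h6
  exact hv1 h6

end T1

/-! ### numbers -/

theorem z_dvd {F : Type*} [Field F] [Fintype F] {q z p e : ℕ} (hF : Fintype.card F = q ^ 2)
    (hmin : IsMinimalFieldFor z p e F) (hz : z.Prime ∨ z = 4) :
    z ∣ q + 1 ∧ ¬ z ∣ q - 1 := by
  obtain ⟨hp, hchar, hcard, hd, hm⟩ := hmin
  obtain ⟨p', j, hp', hchar', hq, hj⟩ := exists_prime_pow hF
  have hpp : p = p' := CharP.eq F hchar hchar'
  subst hpp
  have he : e = 2 * j := by
    have h1 : p ^ e = p ^ (2 * j) := by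
      rw [← hcard, hF, hq, ← pow_mul, mul_comm]
    exact Nat.pow_right_injective hp.two_le h1
  have h1 : ¬ z ∣ q - 1 := by
    rw [hq]
    exact hm j hj (by omega)
  refine ⟨?_, h1⟩
  have hq0 := q_pos hF
  have h2 : z ∣ (q + 1) * (q - 1) := by
    have h3 : p ^ e - 1 = (q + 1) * (q - 1) := by
      rw [← hcard, hF]
      obtain ⟨m, rfl⟩ : ∃ m, q = m + 1 := ⟨q - 1, by omega⟩
      have : (m + 1) ^ 2 = (m + 1 + 1) * m + 1 := by ring
      rw [this]
      simp only [_root_.add_tsub_cancel_right]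
    rw [← h3]
    exact hd
  rcases hz with hz | rfl
  · exact (hz.dvd_mul.1 h2).resolve_right h1
  · have h4 : q % 4 = 0 ∨ q % 4 = 1 ∨ q % 4 = 2 ∨ q % 4 = 3 := by (clear * -; omega)
    obtain ⟨m, rfl⟩ : ∃ m, q = m + 1 := ⟨q - 1, by (clear * - hq hq0 h4; omega)⟩
    simp only [Nat.add_sub_cancel] at h1 h2
    have h5 := Nat.mod_eq_zero_of_dvd h2
    rw [Nat.mul_mod] at h5
    have h6 : m % 4 = 0 ∨ m % 4 = 1 ∨ m % 4 = 2 ∨ m % 4 = 3 := by (clear * -; omega)
    rcases h6 with h6 | h6 | h6 | h6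
    · omega
    · have : (m + 1 + 1) % 4 = 3 := by omega
      rw [h6, this] at h5
      omega
    · omega
    · have : (m + 1 + 1) % 4 = 1 := by omega
      rw [h6, this] at h5
      omega

/-! ### the hermitian space -/

section Herm

variable {F : Type*} [Field F] [Fintype F] {n q : ℕ} (hF : Fintype.card F = q ^ 2)

include hF

theorem exists_span {V : Submodule F (Fin n → F)} (h : ∀ w ∈ V, hermForm n F q w w = 0 → w = 0) :
    ∃ w : Fin n → F, V ≤ Submodule.span F {w} := by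
  by_cases hV : V = ⊥
  · exact ⟨0, by rw [hV]; exact bot_le⟩
  obtain ⟨w, hw, hw0⟩ := Submodule.exists_mem_ne_zero_of_ne_bot hV
  refine ⟨w, ?_⟩
  intro w' hw'
  set d := hermForm n F q w w with hd
  have hd0 : d ≠ 0 := fun e => hw0 (h w hw e)
  set c := hermForm n F q w' w / d with hc
  set w'' := w' - c • w with hw''
  have hwV : w'' ∈ V := V.sub_mem hw' (V.smul_mem _ hw)
  have ho : hermForm n F q w'' w = 0 := by
    rw [hw'', herm_sub_left, herm_smul_left, hc, ← hd, div_mul_cancel₀ _ hd0, sub_self]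
  by_cases h0 : w'' = 0
  · rw [Submodule.mem_span_singleton]
    exact ⟨c, (sub_eq_zero.1 h0).symm⟩
  exfalso
  set d' := hermForm n F q w'' w'' with hd'
  have hd'0 : d' ≠ 0 := fun e => h0 (h w'' hwV e)
  obtain ⟨x, hx⟩ := _root_.Cfsg.Agent.LieClassical.HermBasic.exists_norm_eq hF (c := -d / d') (by
    rw [div_pow, neg_pow_q hF, hd, hd', herm_self_pow hF, herm_self_pow hF])
  have hv : hermForm n F q (w + x • w'') (w + x • w'') = 0 := by
    rw [herm_add_left, herm_add_right hF, herm_add_right hF, herm_smul_left, herm_smul_left, herm_smul_right,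
      herm_smul_right, ho, herm_eq_zero_swap hF ho, ← hd, ← hd']
    have : x * (x ^ q * d') = (x * x ^ q) * d' := by ring
    rw [this, hx, div_mul_cancel₀ _ hd'0]
    ring
  have hv0 := h _ (V.add_mem hw (V.smul_mem x hwV)) hv
  have h2 : hermForm n F q (w + x • w'') w = d := by
    rw [herm_add_left, herm_smul_left, ho, mul_zero, add_zero]
  rw [hv0, herm_zero_left] at h2
  exact hd0 h2.symm

/-- the reflection with centre `w` -/
noncomputable def refl (q : ℕ) (w : Fin n → F) (a : F) : Matrix (Fin n) (Fin n) F :=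
  Cfsg.Agent.ClassicalGeometry.UnitTransv.rankOne q (((a - 1) / hermForm n F q w w) • w) w

omit [Fintype F] hF in
theorem refl_mulVec (w : Fin n → F) (a : F) (x : Fin n → F) :
    refl q w a *ᵥ x = x + (hermForm n F q x w * ((a - 1) / hermForm n F q w w)) • w := by
  rw [refl, Cfsg.Agent.ClassicalGeometry.UnitTransv.rankOne_mulVec, smul_smul]

theorem refl_herm {w : Fin n → F} (hw : hermForm n F q w w ≠ 0) {a : F} (ha : a * a ^ q = 1) (x y : Fin n → F) :
    hermForm n F q (refl q w a *ᵥ x) (refl q w a *ᵥ y) = hermForm n F q x y := by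
  rw [refl_mulVec, refl_mulVec]
  set d := hermForm n F q w w with hd
  have hdq : d ^ q = d := herm_self_pow hF w
  rw [herm_add_left, herm_add_right hF, herm_add_right hF, herm_smul_left, herm_smul_left, herm_smul_right,
    herm_smul_right, ← hd, mul_pow, div_pow, hdq, sub_pow_q hF, one_pow, ← herm_swap hF y w]
  have : ∀ A B : F, hermForm n F q x y + B * ((a ^ q - 1) / d) * A + (A * ((a - 1) / d) * B +
      A * ((a - 1) / d) * (B * ((a ^ q - 1) / d) * d)) = hermForm n F q x y + A * B * (a * a ^ q - 1) / d := by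
    intro A B
    field_simp
    ring
  rw [this, ha, sub_self, mul_zero, zero_div, add_zero]

omit [Fintype F] hF in
theorem refl_det {w : Fin n → F} (hw : hermForm n F q w w ≠ 0) (a : F) : (refl q w a).det = a := by
  rw [refl, Cfsg.Agent.ClassicalGeometry.UnitTransv.det_rankOne, herm_smul_left, div_mul_cancel₀ _ hw]
  ring

omit [Fintype F] hF in
theorem refl_self {w : Fin n → F} (hw : hermForm n F q w w ≠ 0) (a : F) : refl q w a *ᵥ w = a • w := by
  rw [refl_mulVec, mul_div_cancel₀ _ hw]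
  module

omit [Fintype F] hF in
theorem refl_orth {w : Fin n → F} (a : F) {x : Fin n → F} (hx : hermForm n F q x w = 0) :
    refl q w a *ᵥ x = x := by
  rw [refl_mulVec, hx, zero_mul, zero_smul, add_zero]


omit [Fintype F] hF in
theorem ext_mulVec {M N : Matrix (Fin n) (Fin n) F} (h : ∀ x, M *ᵥ x = N *ᵥ x) : M = N :=
  Matrix.toLin'.injective (LinearMap.ext fun x => by rw [Matrix.toLin'_apply, Matrix.toLin'_apply, h])

theorem herm_eig {u : GL (Fin n) F} (hu : u ∈ Cfsg.GU n F q) {w : Fin n → F} {l : F} (hl : l * l ^ q = 1)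
    (hw : (u : Matrix (Fin n) (Fin n) F) *ᵥ w = l • w) (x : Fin n → F) :
    hermForm n F q ((u : Matrix (Fin n) (Fin n) F) *ᵥ x) w = l * hermForm n F q x w := by
  have h1 := H918.mem_GU.1 hu x w
  rw [hw, herm_smul_right] at h1
  rw [← h1, ← mul_assoc, hl, one_mul]

theorem tv_comm {u : GL (Fin n) F} (hu : u ∈ Cfsg.GU n F q) {w : Fin n → F} {l : F} (hl : l * l ^ q = 1)
    (hw : (u : Matrix (Fin n) (Fin n) F) *ᵥ w = l • w) {c : F} (hv : hermForm n F q w w = 0) (hc : c + c ^ q = 0) :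
    H918.tv hF w c hv hc * u = u * H918.tv hF w c hv hc := by
  apply Units.ext
  apply ext_mulVec
  intro x
  rw [Units.val_mul, Units.val_mul, ← Matrix.mulVec_mulVec, ← Matrix.mulVec_mulVec, H918.tv_mulVec, H918.tv_mulVec,
    herm_eig hF hu hl hw, Matrix.mulVec_add, Matrix.mulVec_smul, hw]
  module

theorem refl_comm {u : GL (Fin n) F} (hu : u ∈ Cfsg.GU n F q) {w : Fin n → F} {l : F} (hl : l * l ^ q = 1)
    (hw : (u : Matrix (Fin n) (Fin n) F) *ᵥ w = l • w) (a : F) :
    refl q w a * (u : Matrix (Fin n) (Fin n) F) = u * refl q w a := by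
  apply ext_mulVec
  intro x
  rw [← Matrix.mulVec_mulVec, ← Matrix.mulVec_mulVec, refl_mulVec, refl_mulVec,
    herm_eig hF hu hl hw, Matrix.mulVec_add, Matrix.mulVec_smul, hw]
  module

theorem isTv_tv {v : Fin n → F} {c : F} (hv : hermForm n F q v v = 0)
    (hc : c + c ^ q = 0) (hv0 : v ≠ 0) (hc0 : c ≠ 0) : H262.El.IsTv (H918.tv hF v c hv hc) := by
  refine ⟨v, c • (fun j => v j ^ q), hv0, ?_, ?_, ?_⟩
  · intro h
    apply hv0
    funext j
    have := congrFun h j
    rw [Pi.smul_apply, smul_eq_mul, Pi.zero_apply] at this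
    exact (pow_q_eq_zero hF).1 ((mul_eq_zero.1 this).resolve_left hc0)
  · rw [smul_dotProduct]
    have : (fun j => v j ^ q) ⬝ᵥ v = hermForm n F q v v :=
      Finset.sum_congr rfl fun i _ => mul_comm _ _
    rw [this, hv, smul_zero]
  · rw [H918.coe_tv, Matrix.vecMulVec_smul]

omit [Fintype F] hF in
theorem eig_aux {u : Matrix (Fin n) (Fin n) F} {r : ℕ} (hur : u ^ r = 1) {ρ : F} (hρ : ρ ^ r = 1) (x : Fin n → F) :
    ρ • (u *ᵥ ∑ j ∈ Finset.range r, ρ ^ j • (u ^ j *ᵥ x)) = ∑ j ∈ Finset.range r, ρ ^ j • (u ^ j *ᵥ x) := by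
  have h1 : ρ • (u *ᵥ ∑ j ∈ Finset.range r, ρ ^ j • (u ^ j *ᵥ x)) =
      ∑ j ∈ Finset.range r, ρ ^ (j + 1) • (u ^ (j + 1) *ᵥ x) := by
    rw [Matrix.mulVec_sum, Finset.smul_sum]
    refine Finset.sum_congr rfl fun j _ => ?_
    rw [Matrix.mulVec_smul, Matrix.mulVec_mulVec, smul_smul, pow_succ' ρ, pow_succ' u]
  rw [h1]
  have h2 := Finset.sum_range_succ (fun j => ρ ^ j • (u ^ j *ᵥ x)) r
  rw [Finset.sum_range_succ' (fun j => ρ ^ j • (u ^ j *ᵥ x)) r, hur, hρ, pow_zero, pow_zero] at h2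
  exact add_right_cancel h2

omit [Fintype F] hF in
theorem decomp {u : Matrix (Fin n) (Fin n) F} {r : ℕ} (hur : u ^ r = 1) {ζ : F}
    (hζ : IsPrimitiveRoot ζ r) (hr0 : (r : F) ≠ 0) (x : Fin n → F) :
    ∃ d : Fin r → (Fin n → F), (∀ i, u *ᵥ d i = ζ ^ (i : ℕ) • d i) ∧ x = ∑ i, d i := by
  have hζ0 : ζ ≠ 0 := by
    rintro rfl
    have := hζ.pow_eq_one
    rcases Nat.eq_zero_or_pos r with rfl | hr
    · exact hr0 Nat.cast_zero
    · rw [zero_pow hr.ne'] at this
      exact zero_ne_one this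
  set ρ : ℕ → F := fun i => (ζ⁻¹) ^ i with hρ
  have hρr : ∀ i, (ρ i) ^ r = 1 := by
    intro i
    rw [hρ]
    show ((ζ⁻¹) ^ i) ^ r = 1
    rw [← pow_mul, mul_comm, pow_mul, inv_pow, hζ.pow_eq_one, inv_one, one_pow]
  refine ⟨fun i => (r : F)⁻¹ • ∑ j ∈ Finset.range r, (ρ i) ^ j • (u ^ j *ᵥ x), ?_, ?_⟩
  · intro i
    have h1 := eig_aux hur (hρr i) x
    have h2 : ζ ^ (i : ℕ) * ρ i = 1 := by
      show ζ ^ (i : ℕ) * (ζ⁻¹) ^ (i : ℕ) = 1
      rw [← mul_pow, mul_inv_cancel₀ hζ0, one_pow]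
    show u *ᵥ ((r : F)⁻¹ • ∑ j ∈ Finset.range r, (ρ i) ^ j • (u ^ j *ᵥ x)) = _
    rw [Matrix.mulVec_smul, smul_comm]
    congr 1
    conv_rhs => rw [← h1, smul_smul, h2, one_smul]
  · show x = ∑ i : Fin r, (r : F)⁻¹ • ∑ j ∈ Finset.range r, (ρ i) ^ j • (u ^ j *ᵥ x)
    rw [← Finset.smul_sum, Fin.sum_univ_eq_sum_range (fun i => ∑ j ∈ Finset.range r, (ρ i) ^ j • (u ^ j *ᵥ x)) r,
      Finset.sum_comm]
    have h3 : ∀ j ∈ Finset.range r, ∑ i ∈ Finset.range r, (ρ i) ^ j • (u ^ j *ᵥ x) =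
        if j = 0 then (r : F) • x else 0 := by
      intro j hj
      rw [← Finset.sum_smul]
      split_ifs with h0
      · subst h0
        simp only [_root_.pow_zero, _root_.Finset.sum_const, _root_.Finset.card_range, _root_.nsmul_eq_mul, _root_.mul_one, _root_.Matrix.one_mulVec]
      · have h4 : ∑ i ∈ Finset.range r, (ρ i) ^ j = 0 := by
          have h5 : ∀ i, (ρ i) ^ j = ((ζ⁻¹) ^ j) ^ i := by
            intro i
            show ((ζ⁻¹) ^ i) ^ j = _
            rw [← pow_mul, ← pow_mul, mul_comm]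
          rw [Finset.sum_congr rfl fun i _ => h5 i]
          have h6 := geom_sum_mul ((ζ⁻¹) ^ j) r
          have h7 : ((ζ⁻¹) ^ j) ^ r = 1 := hρr j
          rw [h7, sub_self] at h6
          refine (mul_eq_zero.1 h6).resolve_right ?_
          intro h8
          rw [sub_eq_zero, inv_pow, inv_eq_one] at h8
          exact hζ.pow_ne_one_of_pos_of_lt h0 (Finset.mem_range.1 hj) h8
        rw [h4, zero_smul]
    rw [Finset.sum_congr rfl h3, Finset.sum_ite_eq']
    have h9 : 0 ∈ Finset.range r := by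
      rw [Finset.mem_range]
      rcases Nat.eq_zero_or_pos r with rfl | hr
      · exact absurd Nat.cast_zero hr0
      · exact hr
    rw [if_pos h9, smul_smul, inv_mul_cancel₀ hr0, one_smul]

theorem exists_isotropic_eig {u : Matrix (Fin n) (Fin n) F} {r : ℕ} (hur : u ^ r = 1) {ζ : F}
    (hζ : IsPrimitiveRoot ζ r) (hr0 : (r : F) ≠ 0) (hn : r < n) :
    ∃ (w : Fin n → F) (l : F), w ≠ 0 ∧ l ^ r = 1 ∧ u *ᵥ w = l • w ∧ hermForm n F q w w = 0 := by
  by_contra hcon
  push Not at hcon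
  have h1 : ∀ i : Fin r, ∃ w : Fin n → F, ∀ v, u *ᵥ v = ζ ^ (i : ℕ) • v → v ∈ Submodule.span F {w} := by
    intro i
    obtain ⟨w, hw⟩ := exists_span hF (V := Module.End.eigenspace (Matrix.toLin' u) (ζ ^ (i : ℕ))) (by
      intro w hw h0
      rw [Module.End.mem_eigenspace_iff, Matrix.toLin'_apply] at hw
      by_contra hw0
      exact hcon w (ζ ^ (i : ℕ)) hw0 (by rw [← pow_mul, mul_comm, pow_mul, hζ.pow_eq_one, one_pow]) hw h0)
    refine ⟨w, fun v hv => hw ?_⟩
    rw [Module.End.mem_eigenspace_iff, Matrix.toLin'_apply]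
    exact hv
  choose w hw using h1
  have h2 : (⊤ : Submodule F (Fin n → F)) ≤ Submodule.span F (Set.range w) := by
    intro x _
    obtain ⟨d, hd, hx⟩ := decomp hur hζ hr0 x
    rw [hx]
    refine Submodule.sum_mem _ fun i _ => ?_
    exact Submodule.span_mono (Set.singleton_subset_iff.2 (Set.mem_range_self i)) (hw i _ (hd i))
  have h3 : (Set.range w).finrank F ≤ Fintype.card (Fin r) := finrank_range_le_card w
  rw [Set.finrank, top_le_iff.1 h2, finrank_top, Module.finrank_fintype_fun_eq_card, Fintype.card_fin,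
    Fintype.card_fin] at h3
  omega


/-- an element of norm one and order not dividing three -/
theorem exists_norm_one (hq : 2 < q) : ∃ a : F, a * a ^ q = 1 ∧ a ^ 3 ≠ 1 := by
  classical
  by_contra hcon
  push Not at hcon
  have h1 := card_norm_eq_one hF
  have h2 : Nat.card {x : F // x * x ^ q = 1} ≤ (Polynomial.nthRoots 3 (1 : F)).toFinset.card := by
    rw [Nat.card_eq_fintype_card, Fintype.card_subtype]
    apply Finset.card_le_card
    intro x hx
    rw [Multiset.mem_toFinset, Polynomial.mem_nthRoots (by norm_num)]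
    exact hcon x (Finset.mem_filter.1 hx).2
  have h3 : (Polynomial.nthRoots 3 (1 : F)).toFinset.card ≤ 3 :=
    (Multiset.toFinset_card_le _).trans (Polynomial.card_nthRoots 3 1)
  omega

theorem case_eq (hn3 : 3 ≤ n) (hodd : Odd n) (hq : 2 < q) {u y : GL (Fin n) F} (hu : u ∈ Cfsg.GU n F q)
    (hy : y ∈ Cfsg.GU n F q) (hun : u ^ n = 1) (hyn : y ^ n = 1) {μ : F} (hμ : IsPrimitiveRoot μ n) (hn0 : (n : F) ≠ 0)
    (huy : (u : Matrix (Fin n) (Fin n) F) * y = μ • ((y : Matrix (Fin n) (Fin n) F) * u)) (hnq : n ∣ q + 1)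
    (H : ∀ t ∈ H918.SUg n F q, t * u = u * t → ∃ c : F,
      ((y * (y * t * y⁻¹ * t⁻¹) : GL (Fin n) F) : Matrix (Fin n) (Fin n) F) =
        c • (((y * t * y⁻¹ * t⁻¹) * y : GL (Fin n) F) : Matrix (Fin n) (Fin n) F)) : False := by
  have hnorm : ∀ x : F, x ^ n = 1 → x * x ^ q = 1 := by
    intro x hx
    obtain ⟨m, hm⟩ := hnq
    rw [← pow_succ', hm, pow_mul, hx, one_pow]
  have hune : ((u : GL (Fin n) F) : Matrix (Fin n) (Fin n) F) ^ n = 1 := by
    rw [← Units.val_pow_eq_pow_val, hun, Units.val_one]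
  have hyne : ((y : GL (Fin n) F) : Matrix (Fin n) (Fin n) F) ^ n = 1 := by
    rw [← Units.val_pow_eq_pow_val, hyn, Units.val_one]
  -- an eigenvector
  obtain ⟨e0, l, he0, hl, hle⟩ : ∃ (w : Fin n → F) (l : F), w ≠ 0 ∧ l ^ n = 1 ∧
      (u : Matrix (Fin n) (Fin n) F) *ᵥ w = l • w := by
    obtain ⟨d, hd, hx⟩ := decomp hune hμ hn0 (Pi.single ⟨0, by omega⟩ 1)
    by_contra hcon
    push Not at hcon
    have h0 : ∀ i, d i = 0 := by
      intro i
      by_contra h0
      exact hcon (d i) (μ ^ (i : ℕ)) h0 (by rw [← pow_mul, mul_comm, pow_mul, hμ.pow_eq_one, one_pow]) (hd i)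
    rw [Finset.sum_eq_zero fun i _ => h0 i] at hx
    have := congrFun hx ⟨0, by omega⟩
    rw [Pi.single_eq_same, Pi.zero_apply] at this
    exact one_ne_zero this
  set e : ℕ → (Fin n → F) := fun i => (y : Matrix (Fin n) (Fin n) F) ^ i *ᵥ e0 with he
  have hes : ∀ i, (y : Matrix (Fin n) (Fin n) F) *ᵥ e i = e (i + 1) := by
    intro i
    show (y : Matrix (Fin n) (Fin n) F) *ᵥ ((y : Matrix (Fin n) (Fin n) F) ^ i *ᵥ e0) = _
    rw [Matrix.mulVec_mulVec, ← pow_succ']
  have hez : e 0 = e0 := by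
    show (y : Matrix (Fin n) (Fin n) F) ^ 0 *ᵥ e0 = e0
    rw [pow_zero, Matrix.one_mulVec]
  have hen : e n = e 0 := by
    show (y : Matrix (Fin n) (Fin n) F) ^ n *ᵥ e0 = _
    rw [hyne, Matrix.one_mulVec, hez]
  have hue : ∀ i, (u : Matrix (Fin n) (Fin n) F) *ᵥ e i = (l * μ ^ i) • e i := by
    intro i
    induction i with
    | zero => rw [hez, pow_zero, mul_one, hle]
    | succ i ih =>
      rw [← hes i, Matrix.mulVec_mulVec, huy, Matrix.smul_mulVec, ← Matrix.mulVec_mulVec, ih, Matrix.mulVec_smul,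
        smul_smul]
      congr 1
      ring
  have hμq : ∀ i : ℕ, (l * μ ^ i) * (l * μ ^ i) ^ q = 1 := by
    intro i
    apply hnorm
    rw [mul_pow, hl, ← pow_mul, mul_comm i, pow_mul, hμ.pow_eq_one, one_pow, mul_one]
  have hl0 : l ≠ 0 := by
    rintro rfl
    rw [zero_pow (by omega)] at hl
    exact zero_ne_one hl
  have hinj : ∀ i < n, ∀ j < n, l * μ ^ i = l * μ ^ j → i = j := by
    intro i hi j hj h
    exact hμ.pow_inj hi hj (mul_left_cancel₀ hl0 h)
  have horth : ∀ i < n, ∀ j < n, i ≠ j → hermForm n F q (e i) (e j) = 0 := by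
    intro i hi j hj hij
    have h1 := herm_eig hF hu (hμq j) (hue j) (e i)
    rw [hue i, herm_smul_left] at h1
    by_contra h0
    exact hij (hinj i hi j hj (mul_right_cancel₀ h0 h1))
  have hene : ∀ i, e i ≠ 0 := by
    intro i h0
    induction i with
    | zero => exact he0 (by rw [← hez, h0])
    | succ i ih =>
      apply ih
      have h1 := hes i
      rw [h0] at h1
      have h2 : ((y⁻¹ : GL (Fin n) F) : Matrix (Fin n) (Fin n) F) *ᵥ ((y : Matrix (Fin n) (Fin n) F) *ᵥ e i) = e i := by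
        rw [Matrix.mulVec_mulVec, ← Units.val_mul, inv_mul_cancel, Units.val_one, Matrix.one_mulVec]
      rw [← h2, h1, Matrix.mulVec_zero]
  have hlin : LinearIndependent F (fun i : Fin n => e i) := by
    apply Module.End.eigenvectors_linearIndependent' (Matrix.toLin' (u : Matrix (Fin n) (Fin n) F))
      (fun i : Fin n => l * μ ^ (i : ℕ))
    · intro i j h
      exact Fin.ext (hinj i i.2 j j.2 h)
    · intro i
      refine ⟨?_, hene i⟩
      rw [Module.End.mem_eigenspace_iff, Matrix.toLin'_apply]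
      exact hue i
  have hself : ∀ i, hermForm n F q (e i) (e i) = hermForm n F q e0 e0 := by
    intro i
    induction i with
    | zero => rw [hez]
    | succ i ih => rw [← hes i, H918.mem_GU.1 hy, ih]
  have hd0 : hermForm n F q e0 e0 ≠ 0 := by
    intro h0
    have : Nonempty (Fin n) := ⟨⟨0, by omega⟩⟩
    have hb : ∃ b : Module.Basis (Fin n) F (Fin n → F), ∀ i : Fin n, b i = e i :=
      ⟨basisOfLinearIndependentOfCardEqFinrank hlin (by simp), fun i => by
        rw [coe_basisOfLinearIndependentOfCardEqFinrank]⟩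
    obtain ⟨b, hb⟩ := hb
    have h1 : ∀ v, hermForm n F q e0 v = 0 := by
      intro v
      rw [← b.sum_repr v, herm_sum_right hF]
      refine Finset.sum_eq_zero fun i _ => ?_
      rw [herm_smul_right, hb]
      by_cases hi : (i : ℕ) = 0
      · rw [hi, hez, h0, mul_zero]
      · rw [← hez, horth 0 (by omega) i i.2 (Ne.symm hi), mul_zero]
    exact he0 (herm_nondeg hF h1)
  obtain ⟨a, ha, ha3⟩ := exists_norm_one hF hq
  have ha0 : a ≠ 0 := by
    rintro rfl
    rw [zero_mul] at ha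
    exact zero_ne_one ha
  have hai : a⁻¹ * a⁻¹ ^ q = 1 := by
    rw [inv_pow, ← mul_inv, ha, inv_one]
  have hd1 : hermForm n F q (e 0) (e 0) ≠ 0 := by rw [hself]; exact hd0
  have hd2 : hermForm n F q (e 1) (e 1) ≠ 0 := by rw [hself]; exact hd0
  set T : Matrix (Fin n) (Fin n) F := refl q (e 0) a * refl q (e 1) a⁻¹ with hT
  have hTd : T.det = 1 := by
    rw [hT, Matrix.det_mul, refl_det hd1, refl_det hd2, mul_inv_cancel₀ ha0]
  let t : GL (Fin n) F := Matrix.GeneralLinearGroup.mkOfDetNeZero T (by rw [hTd]; exact one_ne_zero)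
  have ht : (t : Matrix (Fin n) (Fin n) F) = T := rfl
  have htS : t ∈ H918.SUg n F q := by
    rw [H918.mem_SUg, ht]
    refine ⟨fun x z => ?_, hTd⟩
    rw [hT, ← Matrix.mulVec_mulVec, ← Matrix.mulVec_mulVec, refl_herm hF hd1 ha, refl_herm hF hd2 hai]
  have htu : t * u = u * t := by
    apply Units.ext
    rw [Units.val_mul, Units.val_mul, ht, hT, Matrix.mul_assoc, refl_comm hF hu (hμq 1) (hue 1), ← Matrix.mul_assoc,
      refl_comm hF hu (hμq 0) (hue 0), Matrix.mul_assoc]
  obtain ⟨c, hc⟩ := H t htS htu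
  -- the action of `t`
  have ht0 : (t : Matrix (Fin n) (Fin n) F) *ᵥ e 0 = a • e 0 := by
    rw [ht, hT, ← Matrix.mulVec_mulVec, refl_orth _ (horth 0 (by omega) 1 (by omega) (by omega)), refl_self hd1]
  have ht1 : (t : Matrix (Fin n) (Fin n) F) *ᵥ e 1 = a⁻¹ • e 1 := by
    rw [ht, hT, ← Matrix.mulVec_mulVec, refl_self hd2, Matrix.mulVec_smul,
      refl_orth _ (horth 1 (by omega) 0 (by omega) (by omega))]
  have ht2 : ∀ i < n, 2 ≤ i → (t : Matrix (Fin n) (Fin n) F) *ᵥ e i = (1 : F) • e i := by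
    intro i hi h2
    rw [ht, hT, ← Matrix.mulVec_mulVec, refl_orth _ (horth i hi 1 (by omega) (by omega)),
      refl_orth _ (horth i hi 0 (by omega) (by omega)), one_smul]
  have hinv : ∀ (z : GL (Fin n) F) (x : Fin n → F) (s : F), s ≠ 0 → (z : Matrix (Fin n) (Fin n) F) *ᵥ x = s • x →
      ((z⁻¹ : GL (Fin n) F) : Matrix (Fin n) (Fin n) F) *ᵥ x = s⁻¹ • x := by
    intro z x s hs h
    have h2 : ((z⁻¹ : GL (Fin n) F) : Matrix (Fin n) (Fin n) F) *ᵥ ((z : Matrix (Fin n) (Fin n) F) *ᵥ x) = x := by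
      rw [Matrix.mulVec_mulVec, ← Units.val_mul, inv_mul_cancel, Units.val_one, Matrix.one_mulVec]
    rw [h, Matrix.mulVec_smul] at h2
    rw [← h2, smul_smul, inv_mul_cancel₀ hs, one_smul, h2]
  have hyi : ∀ i, ((y⁻¹ : GL (Fin n) F) : Matrix (Fin n) (Fin n) F) *ᵥ e (i + 1) = e i := by
    intro i
    rw [← hes i, Matrix.mulVec_mulVec, ← Units.val_mul, inv_mul_cancel, Units.val_one, Matrix.one_mulVec]
  have hg : ∀ (i : ℕ) (s s' : F), s' ≠ 0 → (t : Matrix (Fin n) (Fin n) F) *ᵥ e i = s • e i →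
      (t : Matrix (Fin n) (Fin n) F) *ᵥ e (i + 1) = s' • e (i + 1) →
      ((y * t * y⁻¹ * t⁻¹ : GL (Fin n) F) : Matrix (Fin n) (Fin n) F) *ᵥ e (i + 1) = (s * s'⁻¹) • e (i + 1) := by
    intro i s s' hs' h1 h2
    rw [Units.val_mul, Units.val_mul, Units.val_mul, ← Matrix.mulVec_mulVec, hinv t _ _ hs' h2, Matrix.mulVec_smul,
      ← Matrix.mulVec_mulVec, ← Matrix.mulVec_mulVec, hyi, h1, Matrix.mulVec_smul, hes, smul_smul, mul_comm]
  have hrel : ∀ (i : ℕ) (s s' s'' : F), s' ≠ 0 → s'' ≠ 0 → (t : Matrix (Fin n) (Fin n) F) *ᵥ e i = s • e i →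
      (t : Matrix (Fin n) (Fin n) F) *ᵥ e (i + 1) = s' • e (i + 1) →
      (t : Matrix (Fin n) (Fin n) F) *ᵥ e (i + 2) = s'' • e (i + 2) → s * s'' = c * s' ^ 2 := by
    intro i s s' s'' hs' hs'' h1 h2 h3
    have h4 := congrArg (fun M : Matrix (Fin n) (Fin n) F => M *ᵥ e (i + 1)) hc
    simp only [Matrix.smul_mulVec] at h4
    rw [Units.val_mul, Units.val_mul (y * t * y⁻¹ * t⁻¹) y, ← Matrix.mulVec_mulVec, ← Matrix.mulVec_mulVec,
      hg i s s' hs' h1 h2, Matrix.mulVec_smul, hes (i + 1), hg (i + 1) s' s'' hs'' h2 h3, smul_smul] at h4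
    have h5 : s * s'⁻¹ = c * (s' * s''⁻¹) := smul_left_injective F (hene (i + 1 + 1)) h4
    field_simp at h5
    linear_combination h5
  have hai0 : a⁻¹ ≠ 0 := inv_ne_zero ha0
  have r0 := hrel 0 a a⁻¹ 1 hai0 one_ne_zero ht0 ht1 (ht2 2 (by omega) le_rfl)
  have hc1 : c = 1 := by
    rcases Nat.lt_or_ge 4 n with h4 | h4
    · have r2 := hrel 2 1 1 1 one_ne_zero one_ne_zero (ht2 2 (by omega) le_rfl) (ht2 3 (by omega) (by omega))
        (ht2 4 (by omega) (by omega))
      rw [one_mul, one_pow, mul_one] at r2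
      exact r2.symm
    · have hn : n = 3 := by
        obtain ⟨m, hm⟩ := hodd
        omega
      have h3 : (t : Matrix (Fin n) (Fin n) F) *ᵥ e 3 = a • e 3 := by
        have : e 3 = e 0 := by
          rw [← hen]
          exact congrArg e hn.symm
        rw [this, ht0]
      have r1 := hrel 1 a⁻¹ 1 a one_ne_zero ha0 ht1 (ht2 2 (by omega) le_rfl) h3
      rw [inv_mul_cancel₀ ha0, one_pow, mul_one] at r1
      exact r1.symm
  rw [hc1, one_mul, mul_one] at r0
  apply ha3
  have h6 : a ^ 3 = a * a ^ 2 := by ring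
  rw [h6]
  nth_rewrite 1 [r0]
  rw [inv_pow, inv_mul_cancel₀ (pow_ne_zero 2 ha0)]


/-- the similarity factor -/
noncomputable def mult (hn : 0 < n) (q : ℕ) (g : GL (Fin n) F) : F :=
  hermForm n F q ((g : Matrix (Fin n) (Fin n) F) *ᵥ Pi.single ⟨0, hn⟩ 1)
    ((g : Matrix (Fin n) (Fin n) F) *ᵥ Pi.single ⟨0, hn⟩ 1)

theorem mult_spec (hn : 0 < n) {g : GL (Fin n) F} (hg : g ∈ similarityGroup (hermForm n F q)) :
    (∀ u v, hermForm n F q ((g : Matrix (Fin n) (Fin n) F) *ᵥ u) ((g : Matrix (Fin n) (Fin n) F) *ᵥ v) =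
      mult hn q g * hermForm n F q u v) ∧ mult hn q g ≠ 0 := by
  obtain ⟨c, hc⟩ := hg
  have h1 : mult hn q g = c := by
    rw [mult, hc, herm_single_left, Pi.single_eq_same, one_pow, mul_one, mul_one]
  rw [h1]
  exact ⟨hc, c.ne_zero⟩

theorem mult_pow (hn : 0 < n) {g : GL (Fin n) F} (hg : g ∈ similarityGroup (hermForm n F q)) (j : ℕ) :
    mult hn q (g ^ j) = (mult hn q g) ^ j := by
  induction j with
  | zero =>
    rw [pow_zero, pow_zero, mult, Units.val_one, Matrix.one_mulVec, herm_single_left, Pi.single_eq_same, one_pow,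
      mul_one]
  | succ j ih =>
    rw [pow_succ', pow_succ', ← ih]
    conv_lhs => rw [mult, Units.val_mul, ← Matrix.mulVec_mulVec, (mult_spec hF hn hg).1]
    rfl

theorem mult_one_of (hn : 0 < n) {g : GL (Fin n) F} (hg : g ∈ similarityGroup (hermForm n F q))
    (h1 : mult hn q g = 1) : g ∈ Cfsg.GU n F q := by
  rw [H918.mem_GU]
  intro u v
  rw [(mult_spec hF hn hg).1, h1, one_mul]

theorem mult_pow_q (hn : 0 < n) {g : GL (Fin n) F} (hg : g ∈ similarityGroup (hermForm n F q)) :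
    (mult hn q g) ^ (q - 1) = 1 := by
  have h1 : (mult hn q g) ^ q = mult hn q g := herm_self_pow hF _
  have h2 := (mult_spec hF hn hg).2
  have h3 : (mult hn q g) ^ (q - 1) * mult hn q g = 1 * mult hn q g := by
    rw [← pow_succ, Nat.sub_add_cancel (q_pos hF), h1, one_mul]
  exact mul_right_cancel₀ h2 h3

theorem div_mem_GU (hn : 0 < n) {g g' : GL (Fin n) F} (hg : g ∈ similarityGroup (hermForm n F q))
    (hg' : g' ∈ similarityGroup (hermForm n F q)) (he : mult hn q g = mult hn q g') :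
    g⁻¹ * g' ∈ Cfsg.GU n F q := by
  rw [H918.mem_GU]
  intro u v
  have h1 := (mult_spec hF hn hg).1 (((g⁻¹ * g' : GL (Fin n) F) : Matrix (Fin n) (Fin n) F) *ᵥ u)
    (((g⁻¹ * g' : GL (Fin n) F) : Matrix (Fin n) (Fin n) F) *ᵥ v)
  rw [Matrix.mulVec_mulVec, Matrix.mulVec_mulVec, ← Units.val_mul, mul_inv_cancel_left, (mult_spec hF hn hg').1,
    ← he] at h1
  exact (mul_left_cancel₀ (mult_spec hF hn hg).2 h1).symm

end Herm

theorem card_le_mul {G : Type*} [Group G] [Finite G] {α : Type*} [DecidableEq α] (φ : G → α) (H : Subgroup G)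
    (h : ∀ x y, φ x = φ y → x⁻¹ * y ∈ H) (T : Finset α) (hT : ∀ x, φ x ∈ T) :
    Nat.card G ≤ Nat.card H * T.card := by
  classical
  have : Fintype G := Fintype.ofFinite G
  rw [Nat.card_eq_fintype_card, ← Finset.card_univ]
  refine Finset.card_le_mul_card_image_of_maps_to (fun x _ => hT x) _ ?_
  intro b _
  by_cases he : (Finset.univ.filter fun a => φ a = b) = ∅
  · rw [he, Finset.card_empty]
    exact Nat.zero_le _
  · obtain ⟨x0, hx0⟩ := Finset.nonempty_iff_ne_empty.2 he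
    rw [Finset.mem_filter] at hx0
    rw [Nat.card_eq_fintype_card, ← Finset.card_univ]
    refine Finset.card_le_card_of_injOn (fun x => if hx : x0⁻¹ * x ∈ H then (⟨x0⁻¹ * x, hx⟩ : H) else 1)
      (fun _ _ => Finset.mem_coe.2 (Finset.mem_univ _)) ?_
    intro x hx y hy hxy
    rw [Finset.mem_coe, Finset.mem_filter] at hx hy
    have h1 := h x0 x (hx0.2.trans hx.2.symm)
    have h2 := h x0 y (hx0.2.trans hy.2.symm)
    simp only [h1, h2, dif_pos] at hxy
    exact mul_left_cancel (Subtype.ext_iff.1 hxy)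

section R

variable {F : Type*} [Field F] [Fintype F] {n q r k : ℕ} {R : Subgroup (GL (Fin n) F)}

theorem exponent_of_type (hR : IsSymplecticTypeGroup r R) (ht : H920.IsType r k R) :
    ∀ x ∈ R, x ^ Nat.card (Subgroup.center R) = 1 := by
  intro x hx
  have h1 : (⟨x, hx⟩ : R) ^ Monoid.exponent R = 1 := Monoid.pow_exponent_eq_one _
  have h2 : Monoid.exponent R = Nat.card (Subgroup.center R) := by
    rw [hR.exponent_eq]
    rcases ht with ⟨hodd, hZ, -⟩ | ⟨rfl, hZ, -⟩
    · rw [(Nat.coprime_two_left.mpr hodd).gcd_eq_one, mul_one, hZ]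
    · rw [hZ]; norm_num
  rw [h2] at h1
  exact congrArg Subtype.val h1

theorem exists_ns (hF : Fintype.card F = q ^ 2) (hn : 3 ≤ n) (hR : IsSymplecticTypeGroup r R)
    (habs : ActsAbsolutelyIrreducibly (matrixSet R)) (ht : H920.IsType r k R) (hk : 1 ≤ k)
    (hsim : R ≤ similarityGroup (hermForm n F q)) (hz : ¬ Nat.card (Subgroup.center R) ∣ q - 1) :
    (∃ v, v ∈ R ⊓ H918.SUg n F q ∧ v ∉ scalars (Fin n) F) ∧ (Odd r → R ≤ Cfsg.GU n F q) := by
  classical
  have hne : Nonempty (Fin n) := ⟨⟨0, by omega⟩⟩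
  have hn0 : 0 < n := by omega
  have hcard := H920.card_of_type hR habs ht
  rw [Fintype.card_fin] at hcard
  have hexp := exponent_of_type hR ht
  have hord : ∀ x ∈ R, orderOf (mult hn0 q x) ∣ Nat.card (Subgroup.center R) ∧ orderOf (mult hn0 q x) ∣ q - 1 := by
    intro x hx
    constructor
    · apply orderOf_dvd_of_pow_eq_one
      rw [← mult_pow hF hn0 (hsim hx), hexp x hx]
      have := mult_pow hF hn0 (hsim hx) 0
      rwa [pow_zero, pow_zero] at this
    · exact orderOf_dvd_of_pow_eq_one (mult_pow_q hF hn0 (hsim hx))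
  have hodd1 : Odd r → ∀ x ∈ R, mult hn0 q x = 1 := by
    intro hodd x hx
    have hZ : Nat.card (Subgroup.center R) = r := by
      rcases ht with h | h
      · exact h.2.1
      · rw [h.1] at hodd; exact absurd hodd (by decide)
    obtain ⟨h1, h2⟩ := hord x hx
    rw [hZ] at h1 hz
    rcases (Nat.dvd_prime hR.prime).1 h1 with h3 | h3
    · exact orderOf_eq_one_iff.1 h3
    · rw [h3] at h2
      exact absurd h2 hz
  refine ⟨?_, fun hodd x hx => mult_one_of hF hn0 (hsim hx) (hodd1 hodd x hx)⟩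
  by_contra hcon
  push Not at hcon
  let φ : R → F × F := fun x => (mult hn0 q x, ((x : GL (Fin n) F) : Matrix (Fin n) (Fin n) F).det)
  have hφ : ∀ x y : R, φ x = φ y → x⁻¹ * y ∈ Subgroup.center R := by
    intro x y hxy
    obtain ⟨h1, h2⟩ := Prod.ext_iff.1 hxy
    apply H920.mem_center_of_mem_scalars habs
    apply hcon
    refine Subgroup.mem_inf.2 ⟨(x⁻¹ * y).2, Subgroup.mem_inf.2 ⟨?_, ?_⟩⟩
    · push_cast
      exact div_mem_GU hF hn0 (hsim x.2) (hsim y.2) h1
    · rw [H918.mem_specialLinear]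
      show (((x : GL (Fin n) F)⁻¹ * (y : GL (Fin n) F) : GL (Fin n) F) : Matrix (Fin n) (Fin n) F).det = 1
      rw [Units.val_mul, Matrix.det_mul, ← show ((x : GL (Fin n) F) : Matrix (Fin n) (Fin n) F).det =
        ((y : GL (Fin n) F) : Matrix (Fin n) (Fin n) F).det from h2, ← Matrix.det_mul, ← Units.val_mul,
        inv_mul_cancel, Units.val_one, Matrix.det_one]
  rcases ht with ⟨hodd, hZ, hRc⟩ | ⟨rfl, hZ, hRc⟩
  · have h1 := card_le_mul φ _ hφ ({1} ×ˢ (Polynomial.nthRoots r (1 : F)).toFinset) (by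
      intro x
      rw [Finset.mem_product, Finset.mem_singleton, Multiset.mem_toFinset,
        Polynomial.mem_nthRoots hR.prime.pos]
      refine ⟨hodd1 hodd x x.2, ?_⟩
      show ((x : GL (Fin n) F) : Matrix (Fin n) (Fin n) F).det ^ r = 1
      rw [← Matrix.det_pow, ← Units.val_pow_eq_pow_val]
      have := hexp x x.2
      rw [hZ] at this
      rw [this, Units.val_one, Matrix.det_one])
    rw [hZ, hRc, Finset.card_product, Finset.card_singleton, one_mul] at h1
    have h2 : (Polynomial.nthRoots r (1 : F)).toFinset.card ≤ r :=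
      (Multiset.toFinset_card_le _).trans (Polynomial.card_nthRoots r 1)
    have h3 : r ^ 3 ≤ r ^ (1 + 2 * k) := Nat.pow_le_pow_right hR.prime.pos (by omega)
    have h4 := hR.prime.two_le
    have h5 : r ^ 3 ≤ r * r := h3.trans (h1.trans (Nat.mul_le_mul_left r h2))
    nlinarith only [h4, h5]
  · have hk2 : 2 ≤ k := by
      by_contra hk2
      have : k = 1 := by omega
      rw [this] at hcard
      omega
    have h1 := card_le_mul φ _ hφ ({1, -1} ×ˢ {1, -1}) (by
      intro x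
      have hsq : ∀ a : F, a ^ 2 = 1 → a ∈ ({1, -1} : Finset F) := by
        intro a ha
        rw [Finset.mem_insert, Finset.mem_singleton]
        exact mul_self_eq_one_iff.1 (by rw [← sq]; exact ha)
      rw [Finset.mem_product]
      constructor
      · apply hsq
        show (mult hn0 q (x : GL (Fin n) F)) ^ 2 = 1
        obtain ⟨h1, h2⟩ := hord x x.2
        rw [hZ] at h1 hz
        rw [← orderOf_dvd_iff_pow_eq_one]
        have h3 : orderOf (mult hn0 q (x : GL (Fin n) F)) ∣ 2 ^ 2 := h1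
        obtain ⟨i, hi, h4⟩ := (Nat.dvd_prime_pow Nat.prime_two).1 h3
        rw [h4] at h2 ⊢
        have hi2 : i = 0 ∨ i = 1 ∨ i = 2 := by omega
        rcases hi2 with rfl | rfl | rfl
        · exact one_dvd _
        · norm_num
        · exact absurd h2 hz
      · apply hsq
        show ((x : GL (Fin n) F) : Matrix (Fin n) (Fin n) F).det ^ 2 = 1
        obtain ⟨c, hc⟩ := (mem_scalars_iff _).1 (H920.pow_of_type hR habs (Or.inr ⟨rfl, hZ, hRc⟩) x x.2)
        have h4 := hexp x x.2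
        rw [hZ] at h4
        have hc2 : (c : F) ^ 2 = 1 := by
          have h5 : (((x : GL (Fin n) F) ^ 2) ^ 2 : GL (Fin n) F) = 1 := by rw [← pow_mul]; exact h4
          have h6 := congrArg Units.val h5
          rw [Units.val_pow_eq_pow_val, hc, smul_pow, one_pow, Units.val_one] at h6
          have h7 := congrFun (congrFun h6 ⟨0, hn0⟩) ⟨0, hn0⟩
          rwa [Matrix.smul_apply, Matrix.one_apply_eq, smul_eq_mul, mul_one] at h7
        rw [← Matrix.det_pow, ← Units.val_pow_eq_pow_val, hc, Matrix.det_smul, Matrix.det_one, mul_one,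
          Fintype.card_fin, hcard]
        obtain ⟨j, rfl⟩ : ∃ j, k = j + 1 := ⟨k - 1, by omega⟩
        rw [pow_succ', pow_mul, hc2, one_pow])
    rw [hZ, hRc, Finset.card_product] at h1
    have h2 : ({1, -1} : Finset F).card ≤ 2 := Finset.card_le_two
    have h3 : 2 ^ 6 ≤ 2 ^ (2 + 2 * k) := Nat.pow_le_pow_right (by norm_num) (by omega)
    have h4 := Nat.mul_le_mul h2 h2
    omega

omit [Fintype F] in
theorem mem_normalizer_mono {R : Subgroup (GL (Fin n) F)} {g : GL (Fin n) F} (hg : g ∈ subgroupNormalizer R)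
    {x : GL (Fin n) F} (hx : x ∈ R) : g * x * g⁻¹ ∈ R :=
  (Subgroup.mem_normalizer_iff.1 hg x).1 hx

end R

/-- **`S3499`, unitary groups, class 6** -/
theorem su_c6 {Q : Type*} [Group Q] [Finite Q] {A : Subgroup Q} {Γ : Subgroup (MulAut Q)} (h : EPT A Γ)
    {F : Type*} [Field F] [Fintype F] {n q : ℕ}
    (m : Model Q (Cfsg.GU n F q ⊓ Cfsg.Geo.specialLinear (Fin n) F)) (hF : Fintype.card F = q ^ 2) (hn : 3 ≤ n)
    (h32 : ¬ (n = 3 ∧ q = 2)) {M : Subgroup (GL (Fin n) F)}
    (hM : ∃ (r : ℕ) (R : Subgroup (GL (Fin n) F)) (p e k : ℕ), IsSymplecticTypeGroup r R ∧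
      ActsAbsolutelyIrreducibly (matrixSet R) ∧ R ≤ similarityGroup (hermForm n F q) ∧ r ≠ p ∧
      IsMinimalFieldFor (Nat.card (Subgroup.center R)) p e F ∧
      ((Odd r ∧ Nat.card (Subgroup.center R) = r ∧ 1 ≤ k ∧ Nat.card R = r ^ (1 + 2 * k)) ∨
        (r = 2 ∧ e = 2 ∧ Nat.card (Subgroup.center R) = 4 ∧ Nat.card R = 2 ^ (2 + 2 * k))) ∧
      M = subgroupNormalizer R ⊓ Cfsg.GU n F q)
    (hle : m.hat A ≤ M) : False := by
  classical
  obtain ⟨r, R, p, e, k, hR, habs, hsim, hrp, hmin, hty, rfl⟩ := hM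
  have hne : Nonempty (Fin n) := ⟨⟨0, by omega⟩⟩
  have ht : H920.IsType r k R := by
    rcases hty with h1 | h1
    · exact Or.inl ⟨h1.1, h1.2.1, h1.2.2.2⟩
    · exact Or.inr ⟨h1.1, h1.2.2.1, h1.2.2.2⟩
  have hcard := H920.card_of_type hR habs ht
  rw [Fintype.card_fin] at hcard
  have hk : 1 ≤ k := by
    rcases Nat.eq_zero_or_pos k with rfl | hk
    · rw [pow_zero] at hcard
      omega
    · exact hk
  have hZ4 : (Nat.card (Subgroup.center R)).Prime ∨ Nat.card (Subgroup.center R) = 4 := by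
    rcases ht with h1 | h1
    · left
      rw [h1.2.1]
      exact hR.prime
    · exact Or.inr h1.2.1
  obtain ⟨hz1, hz2⟩ := z_dvd hF hmin hZ4
  obtain ⟨⟨v, hvR, hvs⟩, hGU⟩ := exists_ns hF hn hR habs ht hk hsim hz2
  have hrq : r ∣ q + 1 := by
    rcases ht with h1 | h1
    · rwa [h1.2.1] at hz1
    · rw [h1.2.1] at hz1
      rw [h1.1]
      exact (by norm_num : 2 ∣ 4).trans hz1
  have hr0 : (r : F) ≠ 0 := by
    have := hmin.2.1
    rw [Ne, CharP.cast_eq_zero_iff F p, Nat.dvd_prime hR.prime]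
    rintro (h1 | h1)
    · exact hmin.1.one_lt.ne' h1
    · exact hrp h1.symm
  -- elements commuting with `v` normalise `R`
  have hcv : ∀ t ∈ H918.SUg n F q, t * v = v * t → t ∈ subgroupNormalizer R := by
    intro t htS htv
    have hmax := m.isMaximalIn h.max
    have h1 : m.hat A ≤ (subgroupNormalizer R ⊓ Cfsg.GU n F q) ⊓ (Cfsg.GU n F q ⊓ Cfsg.Geo.specialLinear (Fin n) F) :=
      le_inf hle (m.hat_le A)
    rcases hmax.2 _ h1 inf_le_right with h2 | h2
    · have hp : Fact r.Prime := ⟨hR.prime⟩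
      have hRA : R ⊓ H918.SUg n F q ≤ m.hat A := by
        rw [← h2]
        rintro x ⟨hx1, hx2⟩
        exact ⟨⟨Subgroup.le_normalizer hx1, (Subgroup.mem_inf.1 hx2).1⟩, hx2⟩
      have h3 := mem_hat_of_comm h m (R0 := R ⊓ H918.SUg n F q) hRA (by
        intro g hg x hx
        have hgS : g ∈ H918.SUg n F q := m.hat_le A hg
        refine ⟨mem_normalizer_mono (hle hg).1 hx.1, ?_⟩
        exact (H918.SUg n F q).mul_mem ((H918.SUg n F q).mul_mem hgS hx.2) ((H918.SUg n F q).inv_mem hgS)) (r := r)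
        (by
          rintro ⟨x, hx⟩
          obtain ⟨j, hj⟩ := hR.pGroup ⟨x, hx.1⟩
          exact ⟨j, Subtype.ext (congrArg (fun y : R => (y : GL (Fin n) F)) hj)⟩) hvR hvs htS htv
      exact (hle h3).1
    · have h3 : t ∈ (subgroupNormalizer R ⊓ Cfsg.GU n F q) ⊓ (Cfsg.GU n F q ⊓ Cfsg.Geo.specialLinear (Fin n) F) := by
        rw [h2]
        exact htS
      exact h3.1.1
  -- the element `u` of order `r`
  obtain ⟨z, hz, hzr⟩ := H920.full_of_type hR habs ht ⟨v, hvR.1⟩
  have hzs : ((z : R) : GL (Fin n) F) ∈ scalars (Fin n) F := H920.mem_scalars_of_mem_center habs hz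
  obtain ⟨c, hc⟩ := (mem_scalars_iff _).1 hzs
  have hzc : ∀ t : GL (Fin n) F, t * (z : GL (Fin n) F) = (z : GL (Fin n) F) * t := by
    intro t
    apply Units.ext
    rw [Units.val_mul, Units.val_mul, hc, Matrix.mul_smul, Matrix.mul_one, Matrix.smul_mul, Matrix.one_mul]
  set u : GL (Fin n) F := (z : GL (Fin n) F) * v with hu
  have huR : u ∈ R := R.mul_mem z.2 hvR.1
  have hur : u ^ r = 1 := congrArg (fun y : R => (y : GL (Fin n) F)) hzr
  have hcz : (c : F) * (c : F) ^ q = 1 := by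
    have h1 := exponent_of_type hR ht _ z.2
    obtain ⟨j, hj⟩ := hz1
    have h2 : ((z : R) : GL (Fin n) F) ^ (q + 1) = 1 := by rw [hj, pow_mul, h1, one_pow]
    have h3 := congrArg Units.val h2
    rw [Units.val_pow_eq_pow_val, hc, smul_pow, one_pow, Units.val_one] at h3
    have h7 := congrFun (congrFun h3 ⟨0, by omega⟩) ⟨0, by omega⟩
    rw [Matrix.smul_apply, Matrix.one_apply_eq, smul_eq_mul, mul_one] at h7
    rw [← pow_succ', h7]
  have huG : u ∈ Cfsg.GU n F q := by
    apply (Cfsg.GU n F q).mul_mem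
    · rw [H918.mem_GU]
      intro x y
      rw [hc, Matrix.smul_mulVec, Matrix.smul_mulVec, Matrix.one_mulVec, Matrix.one_mulVec, herm_smul_left,
        herm_smul_right, ← mul_assoc, hcz, one_mul]
    · exact (Subgroup.mem_inf.1 hvR.2).1
  have huv : ∀ t : GL (Fin n) F, t * u = u * t → t * v = v * t := by
    intro t ht1
    have h1 : v = (z : GL (Fin n) F)⁻¹ * u := by rw [hu]; group
    have h2 : t * (z : GL (Fin n) F)⁻¹ = (z : GL (Fin n) F)⁻¹ * t := by
      rw [mul_inv_eq_iff_eq_mul, mul_assoc, hzc, inv_mul_cancel_left]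
    calc t * v = t * ((z : GL (Fin n) F)⁻¹ * u) := by rw [← h1]
      _ = (t * (z : GL (Fin n) F)⁻¹) * u := (mul_assoc _ _ _).symm
      _ = (z : GL (Fin n) F)⁻¹ * (t * u) := by rw [h2, mul_assoc]
      _ = ((z : GL (Fin n) F)⁻¹ * u) * t := by rw [ht1]; exact (mul_assoc _ _ _).symm
      _ = v * t := by rw [← h1]
  have hus : u ∉ scalars (Fin n) F := by
    intro h1
    apply hvs
    have h2 : v = (z : GL (Fin n) F)⁻¹ * u := by rw [hu]; group
    rw [h2]
    exact (scalars (Fin n) F).mul_mem ((scalars (Fin n) F).inv_mem hzs) h1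
  have hcu : ∀ t ∈ H918.SUg n F q, t * u = u * t → t ∈ subgroupNormalizer R :=
    fun t h1 h2 => hcv t h1 (huv t h2)
  -- `y`
  have hcomm : ∀ a ∈ R, ∀ b ∈ R, ∃ c : Fˣ,
      (a : Matrix (Fin n) (Fin n) F) * b = (c : F) • ((b : Matrix (Fin n) (Fin n) F) * a) := by
    intro a ha b hb
    obtain ⟨c, hc⟩ := (mem_scalars_iff _).1 (H920.comm_of_type hR habs ht a ha b hb)
    refine ⟨c, ?_⟩
    have h2 : a * b = (a * b * a⁻¹ * b⁻¹) * (b * a) := by group
    have h3 := congrArg Units.val h2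
    rw [Units.val_mul, Units.val_mul (a * b * a⁻¹ * b⁻¹), Units.val_mul b a] at h3
    rw [h3, hc, Matrix.smul_mul, Matrix.one_mul]
  obtain ⟨y, hyR, hyu⟩ : ∃ y ∈ R, u * y ≠ y * u := by
    by_contra hcon
    push Not at hcon
    apply hus
    apply H920.mem_scalars_of_mem_center (x := ⟨u, huR⟩) habs
    rw [Subgroup.mem_center_iff]
    rintro ⟨y, hy⟩
    exact Subtype.ext (hcon y hy).symm
  obtain ⟨μ, hμ⟩ := hcomm u huR y hyR
  have hμ1 : (μ : F) ≠ 1 := by
    intro h1
    rw [h1, one_smul] at hμ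
    exact hyu (Units.ext hμ)
  have hμr : (μ : F) ^ r = 1 := by
    have h1 : ∀ j : ℕ, (u : Matrix (Fin n) (Fin n) F) ^ j * y =
        (μ : F) ^ j • ((y : Matrix (Fin n) (Fin n) F) * (u : Matrix (Fin n) (Fin n) F) ^ j) := by
      intro j
      induction j with
      | zero => rw [pow_zero, pow_zero, one_mul, one_smul, mul_one]
      | succ j ih =>
        rw [pow_succ', mul_assoc, ih, Matrix.mul_smul, ← mul_assoc, hμ, Matrix.smul_mul, smul_smul, mul_assoc,
          ← pow_succ', pow_succ (μ : F), mul_comm]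
    have h2 : (u : Matrix (Fin n) (Fin n) F) ^ r = 1 := by
      rw [← Units.val_pow_eq_pow_val, hur, Units.val_one]
    have h3 := h1 r
    rw [h2, one_mul, mul_one] at h3
    have h4 : (1 : F) • (y : Matrix (Fin n) (Fin n) F) = (μ : F) ^ r • (y : Matrix (Fin n) (Fin n) F) := by
      rw [one_smul]
      exact h3
    exact (H920.smul_gl_injective h4).symm
  have hprim : IsPrimitiveRoot (μ : F) r := by
    have hp : Fact r.Prime := ⟨hR.prime⟩
    rw [IsPrimitiveRoot.iff_orderOf]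
    exact orderOf_eq_prime hμr hμ1
  have hrn : r ≤ n := by
    rw [hcard]
    exact Nat.le_self_pow (by omega) r
  rcases hrn.lt_or_eq with hlt | heq
  · -- an isotropic eigenvector
    obtain ⟨w, l, hw0, hl, hlw, hiso⟩ := exists_isotropic_eig hF (u := (u : Matrix (Fin n) (Fin n) F)) (by
      rw [← Units.val_pow_eq_pow_val, hur, Units.val_one]) hprim hr0 hlt
    have hn4 : 4 ≤ n := by
      by_contra hn4
      have hn3 : n = 3 := by omega
      have h2 : r ^ k = 3 := by rw [← hcard, hn3]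
      have h3 : r ∣ 3 := by rw [← h2]; exact dvd_pow_self r (by omega)
      rcases (Nat.dvd_prime Nat.prime_three).1 h3 with h4 | h4
      · exact hR.prime.one_lt.ne' h4
      · omega
    have hll : l * l ^ q = 1 := by
      obtain ⟨j, hj⟩ := hrq
      rw [← pow_succ', hj, pow_mul, hl, one_pow]
    obtain ⟨x, hx0, hx⟩ := exists_trace_zero_ne hF
    have h1 := hcu _ (H918.tv_mem hF hiso hx) (tv_comm hF huG hll hlw hiso hx)
    refine (isTv_tv hF hiso hx hw0 hx0).not_mem_subgroupNormalizer (by rw [Fintype.card_fin]; omega) habs ?_ h1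
    intro a ha b hb
    obtain ⟨c, hc⟩ := hcomm a ha b hb
    exact ⟨c, hc⟩
  · -- `n = r`
    have hodd : Odd r := by
      rcases hR.prime.eq_two_or_odd' with h1 | h1
      · omega
      · exact h1
    have hq : 2 < q := by
      by_contra hq
      have h2 := two_le hF
      have hq2 : q = 2 := by omega
      have h3 : r ≤ 3 := Nat.le_of_dvd (by norm_num) (by rw [hq2] at hrq; exact hrq)
      exact h32 ⟨by omega, hq2⟩
    have hZ : Nat.card (Subgroup.center R) = r := by
      rcases ht with h1 | h1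
      · exact h1.2.1
      · rw [h1.1] at hodd; exact absurd hodd (by decide)
    have hyr : y ^ r = 1 := by
      have := exponent_of_type hR ht y hyR
      rwa [hZ] at this
    subst heq
    refine case_eq hF hn hodd hq huG (hGU hodd hyR) hur hyr hprim hr0 hμ hrq ?_
    intro t htS htu
    have h1 := hcu t htS htu
    have h2 : y * t * y⁻¹ * t⁻¹ ∈ R := by
      have h3 := R.mul_mem hyR (mem_normalizer_mono h1 (R.inv_mem hyR))
      have h4 : y * t * y⁻¹ * t⁻¹ = y * (t * y⁻¹ * t⁻¹) := by group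
      rw [h4]
      exact h3
    obtain ⟨c, hc⟩ := hcomm y hyR _ h2
    refine ⟨c, ?_⟩
    rw [Units.val_mul, Units.val_mul (y * t * y⁻¹ * t⁻¹) y, hc]

end Cfsg.Agent.H932.EP
end

-- part: H25/EPU/Frame
section
/-!
# S3499, rows SU-C4 and SU-C7: orthonormal frames (helper25)

* `fr e P` : change of frame `GL κ F ≃* GL (Fin n) F`;
* `exists_std_tensor` : an orthonormal frame adapted to a tensor decomposition;
* `fr_mem` : orthogonal matrices of determinant one with entries fixed by `x ↦ x^q` give elements of `SU`.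
-/

set_option autoImplicit false
set_option linter.unusedSectionVars false

namespace Cfsg.Agent.H25.EPU

open Module Matrix Cfsg.Agent.ClassicalGeometry Cfsg.Agent.H919 Cfsg.Geo
open Cfsg.Agent.LieClassical.HermBasic
open scoped Kronecker MatrixGroups

section frame

variable {F : Type} [Field F] {n : ℕ} {κ : Type} [Fintype κ] [DecidableEq κ]

/-- change of frame -/
def fr (e : Fin n ≃ κ) (P : GL (Fin n) F) : GL κ F ≃* GL (Fin n) F :=
  (glReindex e.symm).trans (MulAut.conj P)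

theorem coe_fr (e : Fin n ≃ κ) (P : GL (Fin n) F) (g : GL κ F) :
    (fr e P g : Matrix (Fin n) (Fin n) F) = (P : Matrix (Fin n) (Fin n) F) *
      Matrix.reindexAlgEquiv F F e.symm (g : Matrix κ κ F) * ((P⁻¹ : GL (Fin n) F) : Matrix (Fin n) (Fin n) F) := rfl

theorem reindex_mulVec (e : Fin n ≃ κ) (M : Matrix κ κ F) (x : κ → F) :
    (Matrix.reindexAlgEquiv F F e.symm M) *ᵥ (x ∘ e) = (M *ᵥ x) ∘ e := by
  funext i
  simp only [Matrix.mulVec, dotProduct, Matrix.coe_reindexAlgEquiv, Matrix.reindex_apply,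
    Matrix.submatrix_apply, Function.comp_apply, Equiv.symm_symm]
  exact Equiv.sum_comp e (fun k => M (e i) k * x k)

theorem fr_mulVec (e : Fin n ≃ κ) (P : GL (Fin n) F) (g : GL κ F) (x : κ → F) :
    (fr e P g : Matrix (Fin n) (Fin n) F) *ᵥ ((P : Matrix (Fin n) (Fin n) F) *ᵥ (x ∘ e)) =
      (P : Matrix (Fin n) (Fin n) F) *ᵥ (((g : Matrix κ κ F) *ᵥ x) ∘ e) := by
  have e1 : ((P⁻¹ : GL (Fin n) F) : Matrix (Fin n) (Fin n) F) * (P : Matrix (Fin n) (Fin n) F) = 1 := by
    rw [← Units.val_mul, inv_mul_cancel, Units.val_one]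
  rw [coe_fr, Matrix.mulVec_mulVec, Matrix.mul_assoc, e1, Matrix.mul_one, ← Matrix.mulVec_mulVec, reindex_mulVec]

theorem fr_surj (e : Fin n ≃ κ) (P : GL (Fin n) F) (v : Fin n → F) :
    ∃ x : κ → F, (P : Matrix (Fin n) (Fin n) F) *ᵥ (x ∘ e) = v := by
  refine ⟨(((P⁻¹ : GL (Fin n) F) : Matrix (Fin n) (Fin n) F) *ᵥ v) ∘ e.symm, ?_⟩
  have h1 : ((((P⁻¹ : GL (Fin n) F) : Matrix (Fin n) (Fin n) F) *ᵥ v) ∘ e.symm) ∘ e =
      ((P⁻¹ : GL (Fin n) F) : Matrix (Fin n) (Fin n) F) *ᵥ v := by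
    funext i
    simp
  rw [h1, Matrix.mulVec_mulVec, ← Units.val_mul, mul_inv_cancel, Units.val_one, Matrix.one_mulVec]

theorem fr_det (e : Fin n ≃ κ) (P : GL (Fin n) F) (g : GL κ F) :
    (fr e P g : Matrix (Fin n) (Fin n) F).det = (g : Matrix κ κ F).det := by
  rw [coe_fr, Matrix.det_units_conj, Matrix.det_reindexAlgEquiv]

variable [Fintype F] {q : ℕ}

/-- orthogonal matrices with entries in the fixed field -/
theorem fr_mem (hF : Fintype.card F = q ^ 2) {e : Fin n ≃ κ} {P : GL (Fin n) F} {c : F}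
    (hform : ∀ x y : κ → F, Cfsg.hermForm n F q ((P : Matrix (Fin n) (Fin n) F) *ᵥ (x ∘ e))
        ((P : Matrix (Fin n) (Fin n) F) *ᵥ (y ∘ e)) = c * ∑ f, x f * (y f) ^ q)
    (g : GL κ F) (hg : (g : Matrix κ κ F)ᵀ * (g : Matrix κ κ F) = 1)
    (hgq : ∀ i j, (g : Matrix κ κ F) i j ^ q = (g : Matrix κ κ F) i j)
    (hdet : (g : Matrix κ κ F).det = 1) :
    fr e P g ∈ Cfsg.GU n F q ⊓ Cfsg.Geo.specialLinear (Fin n) F := by
  rw [H918.mem_SUg]
  refine ⟨fun u v => ?_, by rw [fr_det, hdet]⟩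
  obtain ⟨x, rfl⟩ := fr_surj e P u
  obtain ⟨y, rfl⟩ := fr_surj e P v
  rw [fr_mulVec, fr_mulVec, hform, hform]
  congr 1
  have h1 : ∀ f, ((g : Matrix κ κ F) *ᵥ y) f ^ q = ((g : Matrix κ κ F) *ᵥ (fun j => y j ^ q)) f := by
    intro f
    have h2 : ((g : Matrix κ κ F) *ᵥ y) f ^ q = conj hF (((g : Matrix κ κ F) *ᵥ y) f) := rfl
    rw [h2]
    simp only [Matrix.mulVec, dotProduct, map_sum, map_mul]
    refine Finset.sum_congr rfl fun j _ => ?_
    have h3 : conj hF ((g : Matrix κ κ F) f j) = (g : Matrix κ κ F) f j := hgq f j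
    rw [h3]
    rfl
  simp only [h1]
  change ((g : Matrix κ κ F) *ᵥ x) ⬝ᵥ ((g : Matrix κ κ F) *ᵥ (fun j => y j ^ q)) = x ⬝ᵥ (fun j => y j ^ q)
  rw [Matrix.dotProduct_mulVec, ← Matrix.mulVec_transpose, Matrix.mulVec_mulVec, hg, Matrix.one_mulVec]

/-- an orthonormal frame adapted to a tensor decomposition -/
theorem exists_std_tensor (hF : Fintype.card F = q ^ 2) {n₁ n₂ : ℕ} (e : Fin n ≃ Fin n₁ × Fin n₂)
    (P : GL (Fin n) F) (f₁ : (Fin n₁ → F) → (Fin n₁ → F) → F) (f₂ : (Fin n₂ → F) → (Fin n₂ → F) → F)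
    (hf₁ : IsUnitaryFormPow q f₁) (hf₂ : IsUnitaryFormPow q f₂)
    (hT : IsTensorFormStructure (fun x : F => x ^ q) (Cfsg.hermForm n F q) f₁ f₂ e P) :
    ∃ (P' : GL (Fin n) F) (c : F), c ≠ 0 ∧
      (∀ x y : Fin n₁ × Fin n₂ → F, Cfsg.hermForm n F q ((P' : Matrix (Fin n) (Fin n) F) *ᵥ (x ∘ e))
        ((P' : Matrix (Fin n) (Fin n) F) *ᵥ (y ∘ e)) = c * ∑ f, x f * (y f) ^ q) ∧
      tensorProductSubgroup n₁ n₂ e P' = tensorProductSubgroup n₁ n₂ e P := by
  have hf₁' := (H921.isUnitaryFormPow_iff hF).mp hf₁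
  have hf₂' := (H921.isUnitaryFormPow_iff hF).mp hf₂
  obtain ⟨B₁, hB₁⟩ := H921.exists_isometry hF hf₁'
  obtain ⟨B₂, hB₂⟩ := H921.exists_isometry hF hf₂'
  have hB₁' := H921.gram_of_isometry hF hf₁' hB₁
  have hB₂' := H921.gram_of_isometry hF hf₂' hB₂
  have hT' : IsTensorFormStructure (conj hF) (Cfsg.hermForm n F q) f₁ f₂ e P := hT
  obtain ⟨c, hc0, hc⟩ := H912.isTensorFormStructure_chBasis hT' B₁ B₂ hB₁' hB₂'
  refine ⟨H912.chBasis e P B₁ B₂, c, hc0, fun x y => ?_, H912.tensorProductSubgroup_chBasis e P B₁ B₂⟩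
  rw [hc, H881.gram_herm hF, H881.gram_herm hF, Matrix.one_kronecker_one]
  congr 1
  unfold formOfGram
  refine Finset.sum_congr rfl fun f _ => ?_
  rw [Finset.sum_eq_single f]
  · rw [Matrix.one_apply_eq, mul_one]
    rfl
  · intro g _ hg
    rw [Matrix.one_apply_ne (Ne.symm hg), mul_zero, zero_mul]
  · intro h; exact absurd (Finset.mem_univ _) h

end frame

end Cfsg.Agent.H25.EPU
end

-- part: H25/EPU/Cyc
section
/-!
# S3499, rows SU-C4 and SU-C7: a three-cycle and a signed transposition inverting it (helper25)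
-/

set_option autoImplicit false
set_option linter.unusedSectionVars false
set_option linter.unusedSimpArgs false

namespace Cfsg.Agent.H25.EPU

open Matrix Equiv
open scoped MatrixGroups

variable {F : Type*} [Field F] {κ : Type} [Fintype κ] [DecidableEq κ]

/-- the three-cycle -/
def cy (a0 a1 a2 : κ) : Perm κ := _root_.Equiv.swap a0 a1 * _root_.Equiv.swap a1 a2

theorem cy_inv (a0 a1 a2 : κ) : (cy a0 a1 a2)⁻¹ = _root_.Equiv.swap a1 a2 * _root_.Equiv.swap a0 a1 := by
  rw [cy, _root_.mul_inv_rev, swap_inv, swap_inv]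

theorem sign_cy {a0 a1 a2 : κ} (h01 : a0 ≠ a1) (h12 : a1 ≠ a2) : Perm.sign (cy a0 a1 a2) = 1 := by
  rw [cy, Perm.sign_mul, Perm.sign_swap h01, Perm.sign_swap h12]
  rfl

theorem cy_zero {a0 a1 a2 : κ} (h02 : a0 ≠ a2) (h01 : a0 ≠ a1) : cy a0 a1 a2 a0 = a1 := by
  rw [cy, Perm.mul_apply, swap_apply_of_ne_of_ne h01 h02, swap_apply_left]

theorem cy_one {a0 a1 a2 : κ} (h02 : a0 ≠ a2) (h12 : a1 ≠ a2) : cy a0 a1 a2 a1 = a2 := by
  rw [cy, Perm.mul_apply, swap_apply_left, swap_apply_of_ne_of_ne h02.symm h12.symm]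

theorem cy_two {a0 a1 a2 : κ} : cy a0 a1 a2 a2 = a0 := by
  rw [cy, Perm.mul_apply, swap_apply_right, swap_apply_right]

theorem cy_other {a0 a1 a2 i : κ} (h0 : i ≠ a0) (h1 : i ≠ a1) (h2 : i ≠ a2) : cy a0 a1 a2 i = i := by
  rw [cy, Perm.mul_apply, swap_apply_of_ne_of_ne h1 h2, swap_apply_of_ne_of_ne h0 h1]

/-- the signs -/
def sg (F : Type*) [Field F] (a0 a1 a2 i : κ) : F := if i = a0 ∨ i = a1 ∨ i = a2 then -1 else 1

theorem sg_mul_self (a0 a1 a2 i : κ) : sg F a0 a1 a2 i * sg F a0 a1 a2 i = 1 := by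
  unfold sg
  split_ifs <;> ring

theorem sg_swap (a0 a1 a2 i : κ) : sg F a0 a1 a2 (_root_.Equiv.swap a0 a1 i) = sg F a0 a1 a2 i := by
  unfold sg
  by_cases h0 : i = a0
  · subst h0
    rw [swap_apply_left, if_pos (Or.inr (Or.inl rfl)), if_pos (Or.inl rfl)]
  · by_cases h1 : i = a1
    · subst h1
      rw [swap_apply_right, if_pos (Or.inl rfl), if_pos (Or.inr (Or.inl rfl))]
    · rw [swap_apply_of_ne_of_ne h0 h1]

theorem sg_swap' (a0 a1 a2 i : κ) : sg F a0 a1 a2 (_root_.Equiv.swap a1 a2 i) = sg F a0 a1 a2 i := by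
  unfold sg
  by_cases h1 : i = a1
  · subst h1
    rw [swap_apply_left, if_pos (Or.inr (Or.inr rfl)), if_pos (Or.inr (Or.inl rfl))]
  · by_cases h2 : i = a2
    · subst h2
      rw [swap_apply_right, if_pos (Or.inr (Or.inl rfl)), if_pos (Or.inr (Or.inr rfl))]
    · rw [swap_apply_of_ne_of_ne h1 h2]

theorem sg_cy (a0 a1 a2 i : κ) : sg F a0 a1 a2 (cy a0 a1 a2 i) = sg F a0 a1 a2 i := by
  rw [cy, Perm.mul_apply, sg_swap, sg_swap']

theorem prod_sg {a0 a1 a2 : κ} (h01 : a0 ≠ a1) (h02 : a0 ≠ a2) (h12 : a1 ≠ a2) :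
    ∏ i, sg F a0 a1 a2 i = -1 := by
  have h : ∀ i : κ, sg F a0 a1 a2 i = if i ∈ ({a0, a1, a2} : Finset κ) then (-1 : F) else 1 := by
    intro i
    unfold sg
    simp only [Finset.mem_insert, Finset.mem_singleton]
  simp only [h]
  rw [Finset.prod_ite_mem, Finset.univ_inter, Finset.prod_const, Finset.card_eq_three.2 ⟨a0, a1, a2, h01, h02, h12, rfl⟩]
  ring

/-- the matrix of the three-cycle -/
def bm (F : Type*) [Field F] (a0 a1 a2 : κ) : Matrix κ κ F := (cy a0 a1 a2).permMatrix F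

/-- the signed transposition -/
def cm (F : Type*) [Field F] (a0 a1 a2 : κ) : Matrix κ κ F :=
  Matrix.diagonal (sg F a0 a1 a2) * (_root_.Equiv.swap a0 a1).permMatrix F

theorem diag_perm (d : κ → F) (τ : Perm κ) (h : ∀ i, d (τ i) = d i) :
    Matrix.diagonal d * τ.permMatrix F = τ.permMatrix F * Matrix.diagonal d := by
  ext i j
  rw [Matrix.diagonal_mul, Matrix.mul_diagonal]
  by_cases hij : τ i = j
  · subst hij
    rw [h, mul_comm]
  · have : τ.permMatrix F i j = 0 := by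
      simp [PEquiv.toMatrix_apply, Ne.symm hij, hij]
    rw [this, mul_zero, zero_mul]

theorem diag_sq (a0 a1 a2 : κ) : Matrix.diagonal (sg F a0 a1 a2) * Matrix.diagonal (sg F a0 a1 a2) = 1 := by
  rw [Matrix.diagonal_mul_diagonal]
  simp only [sg_mul_self]
  exact Matrix.diagonal_one

theorem perm_sq (τ : Perm κ) (h : τ * τ = 1) : τ.permMatrix F * τ.permMatrix F = 1 := by
  rw [← Matrix.permMatrix_mul, h, Matrix.permMatrix_one]

theorem bm_transpose_mul (a0 a1 a2 : κ) : (bm F a0 a1 a2)ᵀ * bm F a0 a1 a2 = 1 := by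
  rw [bm, Matrix.transpose_permMatrix, ← Matrix.permMatrix_mul, mul_inv_cancel, Matrix.permMatrix_one]

theorem bm_mul_transpose (a0 a1 a2 : κ) : bm F a0 a1 a2 * (bm F a0 a1 a2)ᵀ = 1 := by
  rw [bm, Matrix.transpose_permMatrix, ← Matrix.permMatrix_mul, inv_mul_cancel, Matrix.permMatrix_one]

theorem cm_mul_cm (a0 a1 a2 : κ) : cm F a0 a1 a2 * cm F a0 a1 a2 = 1 := by
  unfold cm
  calc _ = Matrix.diagonal (sg F a0 a1 a2) * ((_root_.Equiv.swap a0 a1).permMatrix F * Matrix.diagonal (sg F a0 a1 a2)) *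
        (_root_.Equiv.swap a0 a1).permMatrix F := by simp only [Matrix.mul_assoc]
    _ = (Matrix.diagonal (sg F a0 a1 a2) * Matrix.diagonal (sg F a0 a1 a2)) *
        ((_root_.Equiv.swap a0 a1).permMatrix F * (_root_.Equiv.swap a0 a1).permMatrix F) := by
        rw [← diag_perm _ _ (sg_swap a0 a1 a2)]
        simp only [Matrix.mul_assoc]
    _ = 1 := by rw [diag_sq, perm_sq _ (Equiv.swap_mul_self _ _), Matrix.one_mul]

theorem cm_transpose (a0 a1 a2 : κ) : (cm F a0 a1 a2)ᵀ = cm F a0 a1 a2 := by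
  unfold cm
  rw [Matrix.transpose_mul, Matrix.diagonal_transpose, Matrix.transpose_permMatrix, swap_inv,
    diag_perm _ _ (sg_swap a0 a1 a2)]

theorem cm_conj (a0 a1 a2 : κ) : cm F a0 a1 a2 * bm F a0 a1 a2 * cm F a0 a1 a2 = (bm F a0 a1 a2)ᵀ := by
  have e1 : cm F a0 a1 a2 = (_root_.Equiv.swap a0 a1).permMatrix F * Matrix.diagonal (sg F a0 a1 a2) :=
    diag_perm _ _ (sg_swap a0 a1 a2)
  have e2 : Matrix.diagonal (sg F a0 a1 a2) * bm F a0 a1 a2 = bm F a0 a1 a2 * Matrix.diagonal (sg F a0 a1 a2) :=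
    diag_perm _ _ (sg_cy a0 a1 a2)
  calc cm F a0 a1 a2 * bm F a0 a1 a2 * cm F a0 a1 a2
      = (_root_.Equiv.swap a0 a1).permMatrix F * (Matrix.diagonal (sg F a0 a1 a2) * bm F a0 a1 a2) *
        (Matrix.diagonal (sg F a0 a1 a2) * (_root_.Equiv.swap a0 a1).permMatrix F) := by
        conv_lhs => rw [e1]
        rw [← diag_perm _ _ (sg_swap a0 a1 a2)]
        rw [diag_perm _ _ (sg_swap a0 a1 a2)]
        simp only [Matrix.mul_assoc]
    _ = (_root_.Equiv.swap a0 a1).permMatrix F * bm F a0 a1 a2 *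
        (Matrix.diagonal (sg F a0 a1 a2) * Matrix.diagonal (sg F a0 a1 a2)) * (_root_.Equiv.swap a0 a1).permMatrix F := by
        rw [e2]
        simp only [Matrix.mul_assoc]
    _ = (_root_.Equiv.swap a0 a1).permMatrix F * bm F a0 a1 a2 * (_root_.Equiv.swap a0 a1).permMatrix F := by
        rw [diag_sq, Matrix.mul_one]
    _ = _ := by
        rw [bm, Matrix.transpose_permMatrix, ← Matrix.permMatrix_mul, ← Matrix.permMatrix_mul, cy_inv, cy]
        congr 1
        rw [← mul_assoc, ← mul_assoc, Equiv.swap_mul_self, one_mul]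

theorem bm_det {a0 a1 a2 : κ} (h01 : a0 ≠ a1) (h12 : a1 ≠ a2) : (bm F a0 a1 a2).det = 1 := by
  rw [bm, Matrix.det_permutation, sign_cy h01 h12]
  simp

theorem cm_det {a0 a1 a2 : κ} (h01 : a0 ≠ a1) (h02 : a0 ≠ a2) (h12 : a1 ≠ a2) : (cm F a0 a1 a2).det = 1 := by
  rw [cm, Matrix.det_mul, Matrix.det_diagonal, prod_sg h01 h02 h12, Matrix.det_permutation,
    Perm.sign_swap h01]
  simp

theorem bm_apply (a0 a1 a2 i j : κ) : bm F a0 a1 a2 i j = if cy a0 a1 a2 i = j then 1 else 0 := by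
  simp [bm, PEquiv.toMatrix_apply, eq_comm]

theorem cm_apply (a0 a1 a2 i j : κ) : cm F a0 a1 a2 i j =
    if _root_.Equiv.swap a0 a1 i = j then sg F a0 a1 a2 i else 0 := by
  rw [cm, Matrix.diagonal_mul]
  by_cases h : _root_.Equiv.swap a0 a1 i = j
  · rw [if_pos h]
    simp [PEquiv.toMatrix_apply, h]
  · rw [if_neg h]
    simp [PEquiv.toMatrix_apply, h, Ne.symm h]

theorem bm_sq_ne {a0 a1 a2 : κ} (h01 : a0 ≠ a1) (h02 : a0 ≠ a2) (h12 : a1 ≠ a2) (l : F) :
    bm F a0 a1 a2 * bm F a0 a1 a2 ≠ l • (1 : Matrix κ κ F) := by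
  intro h
  rw [bm, ← Matrix.permMatrix_mul] at h
  have h1 := congrFun (congrFun h a0) a2
  have h2 : (cy a0 a1 a2 * cy a0 a1 a2) a0 = a2 := by
    rw [Perm.mul_apply, cy_zero h02 h01, cy_one h02 h12]
  rw [Matrix.smul_apply, Matrix.one_apply_ne h02, smul_zero] at h1
  simp [PEquiv.toMatrix_apply, h2] at h1

end Cfsg.Agent.H25.EPU
end

-- part: H25/EPU/Blk
section
/-!
# S3499, rows SU-C4 and SU-C7: `x = p ⊗ b + (1 - p) ⊗ 1`, `p` the projection on one coordinate (helper25)
-/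

set_option autoImplicit false
set_option linter.unusedSectionVars false

namespace Cfsg.Agent.H25.EPU

open Matrix
open scoped Kronecker MatrixGroups

variable {F : Type} [Field F] {R J : Type} [Fintype R] [DecidableEq R] [Fintype J] [DecidableEq J]

/-- the blocks -/
def blk (M : Matrix (R × J) (R × J) F) (i j : R) : Matrix J J F := fun k l => M (i, k) (j, l)

theorem blk_ext {M N : Matrix (R × J) (R × J) F} (h : ∀ i j, blk M i j = blk N i j) : M = N := by
  ext ⟨i, k⟩ ⟨j, l⟩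
  exact congrFun (congrFun (h i j) k) l

theorem blk_kron (a : Matrix R R F) (d : Matrix J J F) (i j : R) : blk (a ⊗ₖ d) i j = a i j • d := by
  ext k l
  rfl

/-- block diagonal matrices -/
def bd (D : R → Matrix J J F) : Matrix (R × J) (R × J) F := fun p q => if p.1 = q.1 then D p.1 p.2 q.2 else 0

theorem blk_mul_bd (M : Matrix (R × J) (R × J) F) (D : R → Matrix J J F) (i j : R) :
    blk (M * bd D) i j = blk M i j * D j := by
  ext k l
  change (M * bd D) (i, k) (j, l) = _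
  rw [Matrix.mul_apply, Fintype.sum_prod_type, Finset.sum_eq_single j]
  · rw [Matrix.mul_apply]
    refine Finset.sum_congr rfl fun m _ => ?_
    simp [bd, blk]
  · intro r _ hr
    refine Finset.sum_eq_zero fun m _ => ?_
    simp [bd, hr]
  · intro h
    exact absurd (Finset.mem_univ _) h

theorem blk_bd_mul (M : Matrix (R × J) (R × J) F) (D : R → Matrix J J F) (i j : R) :
    blk (bd D * M) i j = D i * blk M i j := by
  ext k l
  change (bd D * M) (i, k) (j, l) = _
  rw [Matrix.mul_apply, Fintype.sum_prod_type, Finset.sum_eq_single i]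
  · rw [Matrix.mul_apply]
    refine Finset.sum_congr rfl fun m _ => ?_
    simp [bd, blk]
  · intro r _ hr
    refine Finset.sum_eq_zero fun m _ => ?_
    simp [bd, Ne.symm hr]
  · intro h
    exact absurd (Finset.mem_univ _) h

theorem bd_mul (D D' : R → Matrix J J F) : bd D * bd D' = bd fun i => D i * D' i := by
  apply blk_ext
  intro i j
  rw [blk_mul_bd]
  ext k l
  by_cases h : i = j
  · subst h
    simp only [blk, bd, Matrix.mul_apply, ↓ _root_.reduceIte]
  · simp only [blk, bd, h, Matrix.mul_apply, ↓ _root_.reduceIte, _root_.MulZeroClass.zero_mul, _root_.Finset.sum_const_zero]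

theorem bd_one : bd (fun _ : R => (1 : Matrix J J F)) = 1 := by
  ext ⟨i, k⟩ ⟨j, l⟩
  by_cases h : i = j
  · subst h
    simp [bd, Matrix.one_apply]
  · simp [bd, h]

theorem bd_transpose (D : R → Matrix J J F) : (bd D)ᵀ = bd fun i => (D i)ᵀ := by
  ext ⟨i, k⟩ ⟨j, l⟩
  by_cases h : i = j
  · subst h
    simp [bd]
  · simp [bd, h, Ne.symm h]

/-- the block diagonal matrix with one nontrivial block -/
def ob (r0 : R) (b : Matrix J J F) : R → Matrix J J F := fun i => if i = r0 then b else 1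

theorem ob_same (r0 : R) (b : Matrix J J F) : ob r0 b r0 = b := if_pos rfl

theorem ob_ne {r0 i : R} (h : i ≠ r0) (b : Matrix J J F) : ob r0 b i = 1 := if_neg h

theorem ob_mul (r0 : R) (b b' : Matrix J J F) : (fun i => ob r0 b i * ob r0 b' i) = ob r0 (b * b') := by
  funext i
  unfold ob
  split_ifs
  · rfl
  · rw [Matrix.one_mul]

theorem ob_one (r0 : R) : ob r0 (1 : Matrix J J F) = fun _ => 1 := by
  funext i
  unfold ob
  split_ifs <;> rfl

/-- `x` as a unit -/
def xg (r0 : R) (b : GL J F) : GL (R × J) F where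
  val := bd (ob r0 (b : Matrix J J F))
  inv := bd (ob r0 ((b⁻¹ : GL J F) : Matrix J J F))
  val_inv := by rw [bd_mul, ob_mul, ← Units.val_mul, mul_inv_cancel, Units.val_one, ob_one, bd_one]
  inv_val := by rw [bd_mul, ob_mul, ← Units.val_mul, inv_mul_cancel, Units.val_one, ob_one, bd_one]

theorem coe_xg (r0 : R) (b : GL J F) : (xg r0 b : Matrix (R × J) (R × J) F) = bd (ob r0 (b : Matrix J J F)) := rfl

/-- the scalar on one block -/
def zg (r0 : R) (l : Fˣ) : GL R F where
  val := Matrix.diagonal fun i => if i = r0 then (l : F) else 1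
  inv := Matrix.diagonal fun i => if i = r0 then ((l⁻¹ : Fˣ) : F) else 1
  val_inv := by
    rw [Matrix.diagonal_mul_diagonal, ← Matrix.diagonal_one]
    congr 1
    funext i
    split_ifs <;> simp
  inv_val := by
    rw [Matrix.diagonal_mul_diagonal, ← Matrix.diagonal_one]
    congr 1
    funext i
    split_ifs <;> simp

/-- Kronecker products of units -/
def kg (a : GL R F) (d : GL J F) : GL (R × J) F where
  val := (a : Matrix R R F) ⊗ₖ (d : Matrix J J F)
  inv := ((a⁻¹ : GL R F) : Matrix R R F) ⊗ₖ ((d⁻¹ : GL J F) : Matrix J J F)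
  val_inv := by
    rw [← Matrix.mul_kronecker_mul, ← Units.val_mul, ← Units.val_mul, mul_inv_cancel, mul_inv_cancel,
      Units.val_one, Units.val_one, Matrix.one_kronecker_one]
  inv_val := by
    rw [← Matrix.mul_kronecker_mul, ← Units.val_mul, ← Units.val_mul, inv_mul_cancel, inv_mul_cancel,
      Units.val_one, Units.val_one, Matrix.one_kronecker_one]

theorem coe_kg (a : GL R F) (d : GL J F) : (kg a d : Matrix (R × J) (R × J) F) =
    (a : Matrix R R F) ⊗ₖ (d : Matrix J J F) := rfl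

theorem kg_mul (a a' : GL R F) (d d' : GL J F) : kg a d * kg a' d' = kg (a * a') (d * d') := by
  apply Units.ext
  rw [Units.val_mul, coe_kg, coe_kg, coe_kg, ← Matrix.mul_kronecker_mul]
  rfl

theorem kg_one : kg (1 : GL R F) (1 : GL J F) = 1 := by
  apply Units.ext
  rw [coe_kg, Units.val_one, Units.val_one, Matrix.one_kronecker_one, Units.val_one]

theorem kg_inv (a : GL R F) (d : GL J F) : (kg a d)⁻¹ = kg a⁻¹ d⁻¹ := by
  rw [inv_eq_iff_mul_eq_one, kg_mul, mul_inv_cancel, mul_inv_cancel, kg_one]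

theorem exists_ne_zero_row (a : GL R F) (i : R) : ∃ j, (a : Matrix R R F) i j ≠ 0 := by
  by_contra h
  push Not at h
  have h1 : ((a : Matrix R R F) * ((a⁻¹ : GL R F) : Matrix R R F)) i i = 0 := by
    rw [Matrix.mul_apply]
    exact Finset.sum_eq_zero fun j _ => by rw [h j, zero_mul]
  rw [← Units.val_mul, mul_inv_cancel, Units.val_one, Matrix.one_apply_eq] at h1
  exact one_ne_zero h1

theorem exists_ne_zero_col (a : GL R F) (j : R) : ∃ i, (a : Matrix R R F) i j ≠ 0 := by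
  by_contra h
  push Not at h
  have h1 : (((a⁻¹ : GL R F) : Matrix R R F) * (a : Matrix R R F)) j j = 0 := by
    rw [Matrix.mul_apply]
    exact Finset.sum_eq_zero fun i _ => by rw [h i, mul_zero]
  rw [← Units.val_mul, inv_mul_cancel, Units.val_one, Matrix.one_apply_eq] at h1
  exact one_ne_zero h1

theorem coe_inv_mul' (d : GL J F) : ((d⁻¹ : GL J F) : Matrix J J F) * (d : Matrix J J F) = 1 := by
  rw [← Units.val_mul, inv_mul_cancel, Units.val_one]

theorem coe_mul_inv' (d : GL J F) : (d : Matrix J J F) * ((d⁻¹ : GL J F) : Matrix J J F) = 1 := by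
  rw [← Units.val_mul, mul_inv_cancel, Units.val_one]

/-- `α d b = β e` and `γ d = δ e`, `α, γ ≠ 0`: `b` is a scalar -/
theorem scalar_of (b d : GL J F) {e : Matrix J J F} {α β γ δ : F} (hα : α ≠ 0) (hγ : γ ≠ 0)
    (h1 : α • ((d : Matrix J J F) * (b : Matrix J J F)) = β • e) (h2 : γ • (d : Matrix J J F) = δ • e)
    (hJ : Nonempty J) : ∃ l : F, (b : Matrix J J F) = l • (1 : Matrix J J F) := by
  have hδ : δ ≠ 0 := by
    rintro rfl
    rw [zero_smul] at h2
    have := (smul_eq_zero.1 h2).resolve_left hγ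
    exact d.ne_zero this
  have h3 : e = (δ⁻¹ * γ) • (d : Matrix J J F) := by
    rw [mul_smul, h2, smul_smul, inv_mul_cancel₀ hδ, one_smul]
  refine ⟨α⁻¹ * β * (δ⁻¹ * γ), ?_⟩
  have h4 : (d : Matrix J J F) * (b : Matrix J J F) = (α⁻¹ * β * (δ⁻¹ * γ)) • (d : Matrix J J F) := by
    rw [mul_smul, mul_smul, ← h3, ← h1, smul_smul, inv_mul_cancel₀ hα, one_smul]
  calc (b : Matrix J J F) = ((d⁻¹ : GL J F) : Matrix J J F) * ((d : Matrix J J F) * (b : Matrix J J F)) := by
        rw [← Matrix.mul_assoc, coe_inv_mul', Matrix.one_mul]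
    _ = _ := by rw [h4, Matrix.mul_smul, coe_inv_mul']

/-- the two cases for `(a ⊗ d) x = x (a' ⊗ d')` -/
theorem two_cases {r0 : R} (hR : ∃ r, r ≠ r0) (hJ : Nonempty J) {b : GL J F}
    (hb : ∀ l : F, (b : Matrix J J F) ≠ l • (1 : Matrix J J F)) {a a' : GL R F} {d d' : GL J F}
    (h : kg a d * xg r0 b = xg r0 b * kg a' d') :
    ((∀ j, j ≠ r0 → (a : Matrix R R F) r0 j = 0) ∧ (∀ i, i ≠ r0 → (a : Matrix R R F) i r0 = 0) ∧
      ∃ l : Fˣ, (d : Matrix J J F) * (b : Matrix J J F) = (l : F) • ((b : Matrix J J F) * (d : Matrix J J F))) ∨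
    ((a : Matrix R R F) r0 r0 = 0 ∧ (∀ i j, i ≠ r0 → j ≠ r0 → (a : Matrix R R F) i j = 0) ∧
      ∃ l : Fˣ, (b : Matrix J J F) * (d : Matrix J J F) * (b : Matrix J J F) = (l : F) • (d : Matrix J J F)) := by
  have hE : ∀ i j, (a : Matrix R R F) i j • ((d : Matrix J J F) * ob r0 (b : Matrix J J F) j) =
      (a' : Matrix R R F) i j • (ob r0 (b : Matrix J J F) i * (d' : Matrix J J F)) := by
    intro i j
    have h1 := congrArg (fun M : GL (R × J) F => blk (M : Matrix (R × J) (R × J) F) i j) h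
    simp only [Units.val_mul, coe_kg, coe_xg] at h1
    rw [blk_mul_bd, blk_bd_mul, blk_kron, blk_kron, Matrix.smul_mul, Matrix.mul_smul] at h1
    exact h1
  have e00 := hE r0 r0
  rw [ob_same] at e00
  have e0 : ∀ j, j ≠ r0 → (a : Matrix R R F) r0 j • (d : Matrix J J F) =
      (a' : Matrix R R F) r0 j • ((b : Matrix J J F) * (d' : Matrix J J F)) := by
    intro j hj
    have := hE r0 j
    rwa [ob_same, ob_ne hj, Matrix.mul_one] at this
  have e1 : ∀ i, i ≠ r0 → (a : Matrix R R F) i r0 • ((d : Matrix J J F) * (b : Matrix J J F)) =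
      (a' : Matrix R R F) i r0 • (d' : Matrix J J F) := by
    intro i hi
    have := hE i r0
    rwa [ob_same, ob_ne hi, Matrix.one_mul] at this
  have e2 : ∀ i j, i ≠ r0 → j ≠ r0 → (a : Matrix R R F) i j • (d : Matrix J J F) =
      (a' : Matrix R R F) i j • (d' : Matrix J J F) := by
    intro i j hi hj
    have := hE i j
    rwa [ob_ne hi, ob_ne hj, Matrix.one_mul, Matrix.mul_one] at this
  have c1 : (a : Matrix R R F) r0 r0 ≠ 0 → ∀ j, j ≠ r0 → (a : Matrix R R F) r0 j = 0 := by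
    intro h00 j hj
    by_contra hne
    obtain ⟨l, hl⟩ := scalar_of b d h00 hne e00 (e0 j hj) hJ
    exact hb l hl
  have c2 : ∀ i, i ≠ r0 → (a : Matrix R R F) i r0 ≠ 0 → ∀ i' j', i' ≠ r0 → j' ≠ r0 →
      (a : Matrix R R F) i' j' = 0 := by
    intro i hi hne i' j' hi' hj'
    by_contra hne'
    obtain ⟨l, hl⟩ := scalar_of b d hne hne' (e1 i hi) (e2 i' j' hi' hj') hJ
    exact hb l hl
  -- proportionality
  have ratio : ∀ {α β : F} {M N : Matrix J J F}, M ≠ 0 → α ≠ 0 → α • M = β • N →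
      β ≠ 0 := by
    rintro α β M N hM hα hMN rfl
    rw [zero_smul] at hMN
    exact hM ((smul_eq_zero.1 hMN).resolve_left hα)
  have hd0 : (d : Matrix J J F) ≠ 0 := d.ne_zero
  have hdb0 : (d : Matrix J J F) * (b : Matrix J J F) ≠ 0 := by
    have : (d : Matrix J J F) * (b : Matrix J J F) = ((d * b : GL J F) : Matrix J J F) := rfl
    rw [this]
    exact (d * b).ne_zero
  by_cases h00 : (a : Matrix R R F) r0 r0 = 0
  · right
    obtain ⟨j, hj⟩ := exists_ne_zero_row a r0
    have hj0 : j ≠ r0 := by rintro rfl; exact hj h00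
    obtain ⟨i, hi⟩ := exists_ne_zero_col a r0
    have hi0 : i ≠ r0 := by rintro rfl; exact hi h00
    refine ⟨h00, fun i' j' => c2 i hi0 hi i' j', ?_⟩
    have f1 := e0 j hj0
    have f2 := e1 i hi0
    have g1 := ratio hd0 hj f1
    have g2 := ratio hdb0 hi f2
    -- `b d' = (a_{0j} / a'_{0j}) d`, `d' = (a_{i0}/a'_{i0}) d b`
    have k2 : (d' : Matrix J J F) = (((a' : Matrix R R F) i r0)⁻¹ * (a : Matrix R R F) i r0) •
        ((d : Matrix J J F) * (b : Matrix J J F)) := by
      rw [mul_smul, f2, smul_smul, inv_mul_cancel₀ g2, one_smul]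
    have k1 : (b : Matrix J J F) * (d' : Matrix J J F) =
        (((a' : Matrix R R F) r0 j)⁻¹ * (a : Matrix R R F) r0 j) • (d : Matrix J J F) := by
      rw [mul_smul, f1, smul_smul, inv_mul_cancel₀ g1, one_smul]
    rw [k2, Matrix.mul_smul, ← Matrix.mul_assoc] at k1
    set u : F := ((a' : Matrix R R F) i r0)⁻¹ * (a : Matrix R R F) i r0 with hu
    set v : F := ((a' : Matrix R R F) r0 j)⁻¹ * (a : Matrix R R F) r0 j with hv
    have hu0 : u ≠ 0 := mul_ne_zero (inv_ne_zero g2) hi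
    have hv0 : v ≠ 0 := mul_ne_zero (inv_ne_zero g1) hj
    refine ⟨Units.mk0 (u⁻¹ * v) (mul_ne_zero (inv_ne_zero hu0) hv0), ?_⟩
    rw [Units.val_mk0, mul_smul, ← k1, smul_smul, inv_mul_cancel₀ hu0, one_smul]
  · left
    have hrow := c1 h00
    -- the column
    have hcol : ∀ i, i ≠ r0 → (a : Matrix R R F) i r0 = 0 := by
      intro i hi
      by_contra hne
      obtain ⟨r, hr⟩ := hR
      obtain ⟨s, hs⟩ := exists_ne_zero_col a r
      apply hs
      by_cases hs0 : s = r0
      · rw [hs0]; exact hrow r hr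
      · exact c2 i hi hne s r hs0 hr
    refine ⟨hrow, hcol, ?_⟩
    obtain ⟨r, hr⟩ := hR
    obtain ⟨s, hs⟩ := exists_ne_zero_col a r
    have hs0 : s ≠ r0 := by rintro rfl; exact hs (hrow r hr)
    have f2 := e2 s r hs0 hr
    have g2 := ratio hd0 hs f2
    have g1 := ratio hdb0 h00 e00
    have k2 : (d' : Matrix J J F) = (((a' : Matrix R R F) s r)⁻¹ * (a : Matrix R R F) s r) • (d : Matrix J J F) := by
      rw [mul_smul, f2, smul_smul, inv_mul_cancel₀ g2, one_smul]
    have k1 : (d : Matrix J J F) * (b : Matrix J J F) =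
        (((a : Matrix R R F) r0 r0)⁻¹ * (a' : Matrix R R F) r0 r0) • ((b : Matrix J J F) * (d' : Matrix J J F)) := by
      rw [mul_smul, ← e00, smul_smul, inv_mul_cancel₀ h00, one_smul]
    rw [k2, Matrix.mul_smul, smul_smul] at k1
    exact ⟨Units.mk0 _ (mul_ne_zero (mul_ne_zero (inv_ne_zero h00) g1) (mul_ne_zero (inv_ne_zero g2) hs)), k1⟩

/-- case I: the conjugate -/
theorem conj_one {r0 : R} {b : GL J F} {a : GL R F} {d : GL J F}
    (h1 : ∀ j, j ≠ r0 → (a : Matrix R R F) r0 j = 0) (h2 : ∀ i, i ≠ r0 → (a : Matrix R R F) i r0 = 0) {l : Fˣ}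
    (h3 : (d : Matrix J J F) * (b : Matrix J J F) = (l : F) • ((b : Matrix J J F) * (d : Matrix J J F))) :
    (xg r0 b)⁻¹ * kg a d * xg r0 b = kg (zg r0 l) 1 * kg a d := by
  rw [mul_assoc, inv_mul_eq_iff_eq_mul, kg_mul, one_mul]
  apply Units.ext
  rw [Units.val_mul, Units.val_mul, coe_kg, coe_kg, coe_xg]
  apply blk_ext
  intro i j
  have hz : ((zg r0 l * a : GL R F) : Matrix R R F) i j = (if i = r0 then (l : F) else 1) * (a : Matrix R R F) i j := by
    rw [Units.val_mul]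
    exact Matrix.diagonal_mul _ _ _ _
  rw [blk_mul_bd, blk_bd_mul, blk_kron, blk_kron, hz]
  by_cases hi : i = r0
  · subst hi
    by_cases hj : j = i
    · subst hj
      rw [ob_same, if_pos rfl, Matrix.smul_mul, h3, Matrix.mul_smul, smul_smul, mul_comm]
    · rw [h1 j hj, mul_zero, zero_smul, Matrix.zero_mul, Matrix.mul_zero]
  · rw [if_neg hi, ob_ne hi, one_mul, one_mul]
    by_cases hj : j = r0
    · subst hj
      rw [h2 i hi, zero_smul, Matrix.zero_mul]
    · rw [ob_ne hj, Matrix.mul_one]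

/-- case II: the conjugate -/
theorem conj_two {r0 : R} {b : GL J F} {a : GL R F} {d : GL J F}
    (h1 : (a : Matrix R R F) r0 r0 = 0) (h2 : ∀ i j, i ≠ r0 → j ≠ r0 → (a : Matrix R R F) i j = 0) {l : Fˣ}
    (h3 : (b : Matrix J J F) * (d : Matrix J J F) * (b : Matrix J J F) = (l : F) • (d : Matrix J J F)) :
    (xg r0 b)⁻¹ * kg a d * xg r0 b = kg (zg r0 l⁻¹) 1 * kg a (d * b) := by
  rw [mul_assoc, inv_mul_eq_iff_eq_mul, kg_mul, one_mul]
  apply Units.ext
  rw [Units.val_mul, Units.val_mul, coe_kg, coe_kg, coe_xg, Units.val_mul d b]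
  apply blk_ext
  intro i j
  have hz : ((zg r0 l⁻¹ * a : GL R F) : Matrix R R F) i j =
      (if i = r0 then ((l⁻¹ : Fˣ) : F) else 1) * (a : Matrix R R F) i j := by
    rw [Units.val_mul]
    exact Matrix.diagonal_mul _ _ _ _
  rw [blk_mul_bd, blk_bd_mul, blk_kron, blk_kron, hz]
  by_cases hi : i = r0
  · subst hi
    by_cases hj : j = i
    · subst hj
      rw [h1, mul_zero, zero_smul, zero_smul, Matrix.zero_mul, Matrix.mul_zero]
    · rw [ob_same, if_pos rfl, ob_ne hj, Matrix.mul_one, Matrix.mul_smul, ← Matrix.mul_assoc, h3, smul_smul]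
      congr 1
      rw [mul_comm, ← mul_assoc, Units.mul_inv, one_mul]
  · rw [if_neg hi, ob_ne hi, one_mul, one_mul]
    by_cases hj : j = r0
    · subst hj
      rw [ob_same, Matrix.smul_mul]
    · rw [h2 i j hi hj, zero_smul, zero_smul, Matrix.zero_mul]

/-- **the normalising step**: `w = 1 ⊗ c`, `c b c⁻¹ = b⁻¹` -/
theorem conj_w {r0 : R} (hR : ∃ r, r ≠ r0) (hJ : Nonempty J) {b c : GL J F}
    (hb : ∀ l : F, (b : Matrix J J F) ≠ l • (1 : Matrix J J F)) (hc : c * b * c⁻¹ = b⁻¹)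
    {a a' : GL R F} {d d' : GL J F} (h : (xg r0 b)⁻¹ * kg a d * xg r0 b = kg a' d') :
    (∃ l : Fˣ, kg a' d' = kg (zg r0 l) 1 * kg a d ∧
      (xg r0 b)⁻¹ * (kg 1 c * kg a d * (kg 1 c)⁻¹) * xg r0 b =
        (kg (zg r0 l) 1)⁻¹ * (kg 1 c * kg a d * (kg 1 c)⁻¹)) ∨
    ((a : Matrix R R F) r0 r0 = 0 ∧ (∀ i j, i ≠ r0 → j ≠ r0 → (a : Matrix R R F) i j = 0) ∧ ∃ l : Fˣ,
      (xg r0 b)⁻¹ * (kg 1 c * kg a d * (kg 1 c)⁻¹) * xg r0 b =
        kg (zg r0 l⁻¹) 1 * kg a (c * d * c⁻¹ * b)) := by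
  have hw : kg 1 c * kg a d * (kg 1 c)⁻¹ = kg a (c * d * c⁻¹) := by
    rw [kg_inv, kg_mul, kg_mul, inv_one, one_mul, mul_one]
  have hc' : c * b⁻¹ * c⁻¹ = b := by
    have := congrArg (fun z => z⁻¹) hc
    simpa only [mul_assoc, _root_.mul_inv_rev, _root_.inv_inv] using this
  rw [hw]
  have h' : kg a d * xg r0 b = xg r0 b * kg a' d' := by
    rw [← h, mul_assoc, mul_inv_cancel_left]
  rcases two_cases hR hJ hb h' with ⟨h1, h2, l, h3⟩ | ⟨h1, h2, l, h3⟩
  · left
    refine ⟨l, ?_, ?_⟩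
    · rw [← h, conj_one h1 h2 h3]
    · -- `c d c⁻¹ b = l⁻¹ b c d c⁻¹`
      have h4 : ((c * d * c⁻¹ : GL J F) : Matrix J J F) * (b : Matrix J J F) =
          ((l⁻¹ : Fˣ) : F) • ((b : Matrix J J F) * ((c * d * c⁻¹ : GL J F) : Matrix J J F)) := by
        have e1 : (b : Matrix J J F) * ((c * d * c⁻¹ : GL J F) : Matrix J J F) =
            ((c * (b⁻¹ * d) * c⁻¹ : GL J F) : Matrix J J F) := by
          rw [← Units.val_mul]
          congr 1
          conv_lhs => rw [← hc']
          group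
        have e2 : ((c * d * c⁻¹ : GL J F) : Matrix J J F) * (b : Matrix J J F) =
            ((c * (d * b⁻¹) * c⁻¹ : GL J F) : Matrix J J F) := by
          rw [← Units.val_mul]
          congr 1
          conv_lhs => rw [← hc']
          group
        have e3 : ((b⁻¹ * d : GL J F) : Matrix J J F) = (l : F) • ((d * b⁻¹ : GL J F) : Matrix J J F) := by
          calc ((b⁻¹ * d : GL J F) : Matrix J J F) = ((b⁻¹ : GL J F) : Matrix J J F) *
                ((d : Matrix J J F) * (b : Matrix J J F)) * ((b⁻¹ : GL J F) : Matrix J J F) := by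
                rw [Matrix.mul_assoc, Matrix.mul_assoc, coe_mul_inv', Matrix.mul_one]
                rfl
            _ = _ := by
                rw [h3, Matrix.mul_smul, Matrix.smul_mul, ← Matrix.mul_assoc, coe_inv_mul', Matrix.one_mul]
                rfl
        rw [e1, e2]
        have e4 : ((c * (b⁻¹ * d) * c⁻¹ : GL J F) : Matrix J J F) = (l : F) •
            ((c * (d * b⁻¹) * c⁻¹ : GL J F) : Matrix J J F) := by
          rw [Units.val_mul, Units.val_mul, e3, Units.val_mul (c * (d * b⁻¹)), Units.val_mul c (d * b⁻¹),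
            Matrix.mul_smul, Matrix.smul_mul]
        rw [e4, smul_smul, Units.inv_mul, one_smul]
      rw [conj_one h1 h2 h4, kg_inv, inv_one]
      congr 2
  · right
    refine ⟨h1, h2, l⁻¹, ?_⟩
    -- `b c d c⁻¹ b = l⁻¹ c d c⁻¹`
    have h4 : (b : Matrix J J F) * ((c * d * c⁻¹ : GL J F) : Matrix J J F) * (b : Matrix J J F) =
        ((l⁻¹ : Fˣ) : F) • ((c * d * c⁻¹ : GL J F) : Matrix J J F) := by
      have e1 : (b : Matrix J J F) * ((c * d * c⁻¹ : GL J F) : Matrix J J F) * (b : Matrix J J F) =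
          ((c * (b⁻¹ * d * b⁻¹) * c⁻¹ : GL J F) : Matrix J J F) := by
        rw [← Units.val_mul, ← Units.val_mul]
        congr 1
        conv_lhs => rw [← hc']
        group
      have e3 : (d : Matrix J J F) = (l : F) • ((b⁻¹ * d * b⁻¹ : GL J F) : Matrix J J F) := by
        calc (d : Matrix J J F) = ((b⁻¹ : GL J F) : Matrix J J F) * ((b : Matrix J J F) * (d : Matrix J J F) *
              (b : Matrix J J F)) * ((b⁻¹ : GL J F) : Matrix J J F) := by
              rw [Matrix.mul_assoc (b : Matrix J J F), ← Matrix.mul_assoc _ (b : Matrix J J F), coe_inv_mul',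
                Matrix.one_mul, Matrix.mul_assoc, coe_mul_inv', Matrix.mul_one]
          _ = _ := by
              rw [h3, Matrix.mul_smul, Matrix.smul_mul]
              rfl
      rw [e1]
      have e4 : ((c * d * c⁻¹ : GL J F) : Matrix J J F) = (l : F) •
          ((c * (b⁻¹ * d * b⁻¹) * c⁻¹ : GL J F) : Matrix J J F) := by
        rw [Units.val_mul, Units.val_mul, e3, Units.val_mul (c * (b⁻¹ * d * b⁻¹)),
          Units.val_mul c (b⁻¹ * d * b⁻¹), Matrix.mul_smul, Matrix.smul_mul]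
      rw [e4, smul_smul, Units.inv_mul, one_smul]
    rw [conj_two h1 h2 h4]

end Cfsg.Agent.H25.EPU
end

-- part: H25/EPU/CFour
section
/-!
# S3499, row SU-C4: `Kills C4` (helper25)
-/

set_option autoImplicit false
set_option linter.unusedSectionVars false

namespace Cfsg.Agent.H25.EPU

open Subgroup Cfsg.Agent.H284 Cfsg.Agent.H419.EP Cfsg.Agent.H458.EP Cfsg.Geo Matrix
open scoped MatrixGroups Kronecker

/-- the kill criterion in a frame -/
theorem kill_frame {Q : Type*} [Group Q] [Finite Q] {A : Subgroup Q} {Γ : Subgroup (MulAut Q)} (h : EPT A Γ)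
    {F : Type} [Field F] {n : ℕ} {S : Subgroup (GL (Fin n) F)} (m : Model Q S)
    {κ : Type} [Fintype κ] [DecidableEq κ] (e : Fin n ≃ κ) (P : GL (Fin n) F) (K : Subgroup (GL κ F))
    (hA : ∀ g, fr e P g ∈ m.hat A ↔ g ∈ K ∧ fr e P g ∈ S)
    {X W : GL κ F} (hXS : fr e P X ∈ S) (hWS : fr e P W ∈ S) (hW : W ∈ K)
    (h3 : ∀ k ∈ K, X⁻¹ * k * X ∈ K → X⁻¹ * (W * k * W⁻¹) * X ∈ K) (h4 : X⁻¹ * W * X ∉ K) : False := by
  have hX : X ∉ K := fun hX => h4 (K.mul_mem (K.mul_mem (K.inv_mem hX) hW) hX)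
  have hxA : fr e P X ∉ m.hat A := fun hx => hX ((hA X).1 hx).1
  have hwA : fr e P W ∈ m.hat A := (hA W).2 ⟨hW, hWS⟩
  have key : fr e P W ∈ cj (fr e P X) (m.hat A) := by
    refine kill_norm h m hXS hxA hwA ?_
    intro k hk hkx
    obtain ⟨k, rfl⟩ := (fr e P).surjective k
    have h5 := ((hA k).1 hk)
    rw [mem_cj, ← map_inv, ← map_mul, ← map_mul] at hkx
    have h6 := ((hA _).1 hkx)
    rw [mem_cj, ← map_inv, ← map_mul, ← map_inv, ← map_mul, ← map_mul, ← map_mul, hA]
    refine ⟨h3 k h5.1 h6.1, ?_⟩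
    simp only [map_mul, map_inv]
    exact S.mul_mem (S.mul_mem (S.inv_mem hXS) (S.mul_mem (S.mul_mem hWS h5.2) (S.inv_mem hWS))) hXS
  rw [mem_cj, ← map_inv, ← map_mul, ← map_mul] at key
  exact h4 ((hA _).1 key).1

section units

variable {F : Type} [Field F] {J : Type} [Fintype J] [DecidableEq J]

/-- the three-cycle as a unit -/
def bg (F : Type) [Field F] (a0 a1 a2 : J) : GL J F where
  val := bm F a0 a1 a2
  inv := (bm F a0 a1 a2)ᵀ
  val_inv := bm_mul_transpose _ _ _
  inv_val := bm_transpose_mul _ _ _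

/-- the signed transposition as a unit -/
def cg (F : Type) [Field F] (a0 a1 a2 : J) : GL J F where
  val := cm F a0 a1 a2
  inv := cm F a0 a1 a2
  val_inv := cm_mul_cm _ _ _
  inv_val := cm_mul_cm _ _ _

theorem cg_conj (a0 a1 a2 : J) : cg F a0 a1 a2 * bg F a0 a1 a2 * (cg F a0 a1 a2)⁻¹ = (bg F a0 a1 a2)⁻¹ := by
  apply Units.ext
  exact cm_conj a0 a1 a2

theorem bg_ne {a0 a1 a2 : J} (h01 : a0 ≠ a1) (h02 : a0 ≠ a2) (h12 : a1 ≠ a2) (l : F) :
    (bg F a0 a1 a2 : Matrix J J F) ≠ l • (1 : Matrix J J F) := by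
  intro h
  apply bm_sq_ne (F := F) h01 h02 h12 (l * l)
  change (bg F a0 a1 a2 : Matrix J J F) * (bg F a0 a1 a2 : Matrix J J F) = _
  rw [h, Matrix.smul_mul, Matrix.one_mul, smul_smul]

end units

section tensor

variable {F : Type} [Field F] {n₁ n₂ : ℕ}

theorem mem_kron {g : GL (Fin n₁ × Fin n₂) F} : g ∈ kroneckerSubgroup n₁ n₂ F ↔
    ∃ (a : GL (Fin n₁) F) (d : GL (Fin n₂) F), g = kg a d := by
  constructor
  · rintro ⟨a, d, h⟩
    exact ⟨a, d, Units.ext h⟩
  · rintro ⟨a, d, rfl⟩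
    exact ⟨a, d, rfl⟩

theorem kg_mem (a : GL (Fin n₁) F) (d : GL (Fin n₂) F) : kg a d ∈ kroneckerSubgroup n₁ n₂ F := mem_kron.2 ⟨a, d, rfl⟩

/-- (iii) -/
theorem tensor_three {r0 : Fin n₁} (hR : ∃ r, r ≠ r0) (hJ : Nonempty (Fin n₂)) {b c : GL (Fin n₂) F}
    (hb : ∀ l : F, (b : Matrix (Fin n₂) (Fin n₂) F) ≠ l • (1 : Matrix (Fin n₂) (Fin n₂) F)) (hc : c * b * c⁻¹ = b⁻¹)
    (k : GL (Fin n₁ × Fin n₂) F) (hk : k ∈ kroneckerSubgroup n₁ n₂ F)
    (hkx : (xg r0 b)⁻¹ * k * xg r0 b ∈ kroneckerSubgroup n₁ n₂ F) :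
    (xg r0 b)⁻¹ * (kg 1 c * k * (kg 1 c)⁻¹) * xg r0 b ∈ kroneckerSubgroup n₁ n₂ F := by
  obtain ⟨a, d, rfl⟩ := mem_kron.1 hk
  obtain ⟨a', d', h⟩ := mem_kron.1 hkx
  rcases conj_w hR hJ hb hc h with ⟨l, -, h1⟩ | ⟨-, -, l, h1⟩
  · rw [h1]
    exact Subgroup.mul_mem _ (Subgroup.inv_mem _ (kg_mem _ _))
      (Subgroup.mul_mem _ (Subgroup.mul_mem _ (kg_mem _ _) (kg_mem _ _)) (Subgroup.inv_mem _ (kg_mem _ _)))
  · rw [h1]
    exact Subgroup.mul_mem _ (kg_mem _ _) (kg_mem _ _)

/-- (iv) -/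
theorem tensor_four {r0 : Fin n₁} (hR : ∃ r, r ≠ r0) (hJ : Nonempty (Fin n₂)) {b c : GL (Fin n₂) F}
    (hb : ∀ l : F, (b : Matrix (Fin n₂) (Fin n₂) F) ≠ l • (1 : Matrix (Fin n₂) (Fin n₂) F))
    (hb2 : ∀ l : F, (b : Matrix (Fin n₂) (Fin n₂) F) * (b : Matrix (Fin n₂) (Fin n₂) F) ≠
      l • (1 : Matrix (Fin n₂) (Fin n₂) F)) (hc : c * b * c⁻¹ = b⁻¹) :
    (xg r0 b)⁻¹ * kg 1 c * xg r0 b ∉ kroneckerSubgroup n₁ n₂ F := by
  intro hx
  obtain ⟨a', d', h⟩ := mem_kron.1 hx
  have h' : kg (1 : GL (Fin n₁) F) c * xg r0 b = xg r0 b * kg a' d' := by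
    rw [← h, mul_assoc, mul_inv_cancel_left]
  rcases two_cases hR hJ hb h' with ⟨-, -, l, h3⟩ | ⟨h1, -, -, -⟩
  · -- `c b = l b c`, `c b = b⁻¹ c`
    have e1 : c * b = b⁻¹ * c := by rw [← hc]; group
    have e2 : ((b⁻¹ * c : GL (Fin n₂) F) : Matrix (Fin n₂) (Fin n₂) F) =
        (l : F) • ((b : Matrix (Fin n₂) (Fin n₂) F) * (c : Matrix (Fin n₂) (Fin n₂) F)) := by
      rw [← e1]
      exact h3
    have e3 : (b : Matrix (Fin n₂) (Fin n₂) F) * (b : Matrix (Fin n₂) (Fin n₂) F) * (c : Matrix (Fin n₂) (Fin n₂) F) =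
        ((l⁻¹ : Fˣ) : F) • (c : Matrix (Fin n₂) (Fin n₂) F) := by
      have e4 : (c : Matrix (Fin n₂) (Fin n₂) F) = (l : F) • ((b : Matrix (Fin n₂) (Fin n₂) F) *
          ((b : Matrix (Fin n₂) (Fin n₂) F) * (c : Matrix (Fin n₂) (Fin n₂) F))) := by
        rw [← Matrix.mul_smul, ← e2, Units.val_mul, ← Matrix.mul_assoc, coe_mul_inv', Matrix.one_mul]
      conv_rhs => rw [e4]
      rw [smul_smul, Units.inv_mul, one_smul, Matrix.mul_assoc]
    apply hb2 ((l⁻¹ : Fˣ) : F)
    calc (b : Matrix (Fin n₂) (Fin n₂) F) * (b : Matrix (Fin n₂) (Fin n₂) F) =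
        ((b : Matrix (Fin n₂) (Fin n₂) F) * (b : Matrix (Fin n₂) (Fin n₂) F) * (c : Matrix (Fin n₂) (Fin n₂) F)) *
          ((c⁻¹ : GL (Fin n₂) F) : Matrix (Fin n₂) (Fin n₂) F) := by
          rw [Matrix.mul_assoc _ (c : Matrix (Fin n₂) (Fin n₂) F), coe_mul_inv', Matrix.mul_one]
      _ = _ := by rw [e3, Matrix.smul_mul, coe_mul_inv']
  · rw [Units.val_one, Matrix.one_apply_eq] at h1
    exact one_ne_zero h1

end tensor

section C4

theorem xg_orth {F : Type} [Field F] {R J : Type} [Fintype R] [DecidableEq R] [Fintype J] [DecidableEq J] (r0 : R)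
    (a0 a1 a2 : J) : (xg r0 (bg F a0 a1 a2) : Matrix (R × J) (R × J) F)ᵀ *
      (xg r0 (bg F a0 a1 a2) : Matrix (R × J) (R × J) F) = 1 := by
  rw [coe_xg, bd_transpose, bd_mul]
  have : (fun i => (ob r0 (bg F a0 a1 a2 : Matrix J J F) i)ᵀ * ob r0 (bg F a0 a1 a2 : Matrix J J F) i) =
      fun _ : R => (1 : Matrix J J F) := by
    funext i
    unfold ob
    split_ifs
    · exact bm_transpose_mul _ _ _
    · rw [Matrix.transpose_one, Matrix.one_mul]
  rw [this, bd_one]

theorem xg_det {F : Type} [Field F] {R J : Type} [Fintype R] [DecidableEq R] [Fintype J] [DecidableEq J] (r0 : R)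
    {a0 a1 a2 : J} (h01 : a0 ≠ a1) (h02 : a0 ≠ a2) (h12 : a1 ≠ a2) :
    (xg r0 (bg F a0 a1 a2) : Matrix (R × J) (R × J) F).det = 1 := by
  have h : (xg r0 (bg F a0 a1 a2) : Matrix (R × J) (R × J) F) = bm F (r0, a0) (r0, a1) (r0, a2) := by
    ext ⟨i, k⟩ ⟨j, l⟩
    rw [bm_apply]
    change (if i = j then ob r0 (bm F a0 a1 a2) i k l else 0) = _
    have hcy : cy (r0, a0) (r0, a1) (r0, a2) (i, k) = if i = r0 then (r0, cy a0 a1 a2 k) else (i, k) := by
      by_cases hi : i = r0
      · subst hi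
        rw [if_pos rfl]
        by_cases k0 : k = a0
        · subst k0
          rw [cy_zero (by simp [h02]) (by simp [h01]), cy_zero h02 h01]
        · by_cases k1 : k = a1
          · subst k1
            rw [cy_one (by simp [h02]) (by simp [h12]), cy_one h02 h12]
          · by_cases k2 : k = a2
            · subst k2
              rw [cy_two, cy_two]
            · rw [cy_other (by simp [k0]) (by simp [k1]) (by simp [k2]), cy_other k0 k1 k2]
      · rw [if_neg hi, cy_other (by simp [hi]) (by simp [hi]) (by simp [hi])]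
    rw [hcy]
    by_cases hi : i = r0
    · subst hi
      rw [ob_same, if_pos rfl, bm_apply]
      by_cases hij : i = j
      · subst hij
        simp
      · simp [hij]
    · rw [ob_ne hi, if_neg hi, Matrix.one_apply]
      by_cases hij : i = j
      · subst hij
        simp
      · simp [hij]
  rw [h, bm_det (by simp [h01]) (by simp [h12])]

theorem xg_pow {F : Type} [Field F] {R J : Type} [Fintype R] [DecidableEq R] [Fintype J] [DecidableEq J] (r0 : R)
    (a0 a1 a2 : J) {q : ℕ} (hq : q ≠ 0) (i j : R × J) : (xg r0 (bg F a0 a1 a2) : Matrix (R × J) (R × J) F) i j ^ q =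
      (xg r0 (bg F a0 a1 a2) : Matrix (R × J) (R × J) F) i j := by
  change (if i.1 = j.1 then ob r0 (bm F a0 a1 a2) i.1 i.2 j.2 else 0) ^ q = if i.1 = j.1 then ob r0 (bm F a0 a1 a2) i.1 i.2 j.2 else 0
  unfold ob
  split_ifs
  · rw [bm_apply]
    split_ifs <;> simp [hq]
  · rw [Matrix.one_apply]
    split_ifs <;> simp [hq]
  · simp [hq]

theorem cm_pow {F : Type} [Field F] {J : Type} [Fintype J] [DecidableEq J]
    (a0 a1 a2 : J) {q : ℕ} (hq : q ≠ 0) (hq1 : (-1 : F) ^ q = -1) (i j : J) :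
    cm F a0 a1 a2 i j ^ q = cm F a0 a1 a2 i j := by
  rw [cm_apply]
  unfold sg
  split_ifs <;> simp [hq, hq1]

theorem neg_one_pow_q {F : Type} [Field F] [Fintype F] {q : ℕ} (hF : Fintype.card F = q ^ 2) : (-1 : F) ^ q = -1 := by
  have h : (-1 : F) ^ q = LieClassical.HermBasic.conj hF (-1) := rfl
  rw [h, map_neg, map_one]

theorem kills_C4 : H588.EPU.Kills H588.EPU.C4 := by
  intro Q _ _ hs A Γ he F _ _ n q m hF hn h32 h43 M hM hle
  obtain ⟨n₁, n₂, e, P, f₁, f₂, hn1, hn12, hf₁, hf₂, hT, rfl⟩ := hM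
  obtain ⟨P', c, hc0, hform, hP'⟩ := exists_std_tensor hF e P f₁ f₂ hf₁ hf₂ hT
  rw [← hP'] at hle
  have hq0 : q ≠ 0 := by
    rintro rfl
    rw [zero_pow two_ne_zero] at hF
    exact Fintype.card_ne_zero hF
  have hT' : m.hat A = tensorProductSubgroup n₁ n₂ e P' ⊓ (Cfsg.GU n F q ⊓ Cfsg.Geo.specialLinear (Fin n) F) :=
    hat_eq m he.max (hle.trans inf_le_left) (H918.SUg_not_le_tensorProductSubgroup hF hn hn1 (by omega) e P')
  have hA : ∀ g, fr e P' g ∈ m.hat A ↔ g ∈ kroneckerSubgroup n₁ n₂ F ∧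
      fr e P' g ∈ Cfsg.GU n F q ⊓ Cfsg.Geo.specialLinear (Fin n) F := by
    intro g
    rw [hT', mem_inf]
    have : fr e P' g ∈ tensorProductSubgroup n₁ n₂ e P' ↔ g ∈ kroneckerSubgroup n₁ n₂ F := by
      rw [tensorProductSubgroup, Subgroup.map_map]
      constructor
      · rintro ⟨k, hk, h⟩
        have : k = g := (fr e P').injective h
        rwa [← this]
      · intro hg
        exact ⟨g, hg, rfl⟩
    rw [this]
  have i0 : Fin n₂ := ⟨0, by omega⟩
  set a0 : Fin n₂ := ⟨0, by omega⟩ with ha0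
  set a1 : Fin n₂ := ⟨1, by omega⟩ with ha1
  set a2 : Fin n₂ := ⟨2, by omega⟩ with ha2
  have h01 : a0 ≠ a1 := by simp [ha0, ha1]
  have h02 : a0 ≠ a2 := by simp [ha0, ha2]
  have h12 : a1 ≠ a2 := by simp [ha1, ha2]
  set r0 : Fin n₁ := ⟨0, by omega⟩ with hr0
  have hR : ∃ r : Fin n₁, r ≠ r0 := ⟨⟨1, by omega⟩, by simp [hr0]⟩
  refine kill_frame he m e P' (kroneckerSubgroup n₁ n₂ F) hA (X := xg r0 (bg F a0 a1 a2))
    (W := kg 1 (cg F a0 a1 a2)) ?_ ?_ (kg_mem _ _)
    (tensor_three hR ⟨i0⟩ (bg_ne h01 h02 h12) (cg_conj a0 a1 a2))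
    (tensor_four hR ⟨i0⟩ (bg_ne h01 h02 h12) (bm_sq_ne h01 h02 h12) (cg_conj a0 a1 a2))
  · exact fr_mem hF hform _ (xg_orth r0 a0 a1 a2) (xg_pow r0 a0 a1 a2 hq0) (xg_det r0 h01 h02 h12)
  · refine fr_mem hF hform _ ?_ ?_ ?_
    · rw [coe_kg, ← Matrix.kroneckerMap_transpose, ← Matrix.mul_kronecker_mul, Units.val_one, Matrix.transpose_one,
        Matrix.one_mul]
      change (1 : Matrix (Fin n₁) (Fin n₁) F) ⊗ₖ ((cm F a0 a1 a2)ᵀ * cm F a0 a1 a2) = 1
      rw [cm_transpose, cm_mul_cm, Matrix.one_kronecker_one]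
    · rintro ⟨i, k⟩ ⟨j, l⟩
      change ((1 : Matrix (Fin n₁) (Fin n₁) F) i j * cm F a0 a1 a2 k l) ^ q =
        (1 : Matrix (Fin n₁) (Fin n₁) F) i j * cm F a0 a1 a2 k l
      rw [mul_pow, cm_pow a0 a1 a2 hq0 (neg_one_pow_q hF), Matrix.one_apply]
      split_ifs <;> simp [hq0]
    · rw [coe_kg, Units.val_one, Matrix.det_kronecker, Matrix.det_one, one_pow, one_mul]
      change (cm F a0 a1 a2).det ^ _ = 1
      rw [cm_det h01 h02 h12, one_pow]

end C4

end Cfsg.Agent.H25.EPU
end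

-- part: H25/EPU/CSeven
section
/-!
# S3499, row SU-C7: `Kills C7` (helper25), with helper487's `kill_wreath`
-/

set_option autoImplicit false
set_option linter.unusedSectionVars false

namespace Cfsg.Agent.H25.EPU

open Subgroup Cfsg.Agent.H284 Cfsg.Agent.H419.EP Cfsg.Agent.H458.EP Cfsg.Geo Matrix
open Cfsg.Agent.H919 (slotMat slotMat_commute slotMat_mul slotMat_one slotMat_add slotMat_transpose)
open Cfsg.Agent.H487.EP (sl frA cjm BC NonSc kill_wreath)
open scoped MatrixGroups Kronecker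

section

variable {F : Type} [Field F] {t k : ℕ}

/-- `p ⊗ b + (1 - p) ⊗ 1` in the slots `i0`, `i1` -/
def ph (i0 i1 : Fin t) (p b : Matrix (Fin k) (Fin k) F) : Matrix (Fin t → Fin k) (Fin t → Fin k) F :=
  slotMat i0 p * slotMat i1 b + slotMat i0 (1 - p)

theorem ph_mul {i0 i1 : Fin t} (h : i0 ≠ i1) {p : Matrix (Fin k) (Fin k) F} (hp : p * p = p)
    (b b' : Matrix (Fin k) (Fin k) F) : ph i0 i1 p b * ph i0 i1 p b' = ph i0 i1 p (b * b') := by
  have h1 : p * (1 - p) = 0 := by rw [mul_sub, mul_one, hp, sub_self]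
  have h2 : (1 - p) * p = 0 := by rw [sub_mul, one_mul, hp, sub_self]
  have h3 : (1 - p) * (1 - p) = 1 - p := by rw [mul_sub, h2, mul_one, sub_zero]
  have hc : ∀ u v : Matrix (Fin k) (Fin k) F, slotMat i0 u * slotMat i1 v = slotMat i1 v * slotMat i0 u :=
    fun u v => (slotMat_commute h u v).eq
  have hz : ∀ i : Fin t, slotMat i (0 : Matrix (Fin k) (Fin k) F) = 0 := by
    intro i
    have := Cfsg.Agent.H919.slotEmb_apply i (0 : Matrix (Fin k) (Fin k) F)
    rw [map_zero] at this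
    exact this.symm
  unfold ph
  calc (slotMat i0 p * slotMat i1 b + slotMat i0 (1 - p)) * (slotMat i0 p * slotMat i1 b' + slotMat i0 (1 - p))
      = slotMat i0 p * (slotMat i1 b * slotMat i0 p) * slotMat i1 b' +
        slotMat i0 p * (slotMat i1 b * slotMat i0 (1 - p)) +
        (slotMat i0 (1 - p) * slotMat i0 p * slotMat i1 b' + slotMat i0 (1 - p) * slotMat i0 (1 - p)) := by
        noncomm_ring
    _ = (slotMat i0 p * slotMat i0 p) * (slotMat i1 b * slotMat i1 b') +
        (slotMat i0 p * slotMat i0 (1 - p)) * slotMat i1 b +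
        (slotMat i0 (1 - p) * slotMat i0 p * slotMat i1 b' + slotMat i0 (1 - p) * slotMat i0 (1 - p)) := by
        rw [← hc, ← hc]
        noncomm_ring
    _ = _ := by
        rw [← slotMat_mul, ← slotMat_mul, ← slotMat_mul, ← slotMat_mul, ← slotMat_mul, hp, h1, h2, h3, hz, zero_mul,
          zero_mul, add_zero, zero_add]

theorem ph_one {i0 i1 : Fin t} (p : Matrix (Fin k) (Fin k) F) : ph i0 i1 p (1 : Matrix (Fin k) (Fin k) F) = 1 := by
  unfold ph
  rw [slotMat_one, mul_one, ← slotMat_add, add_sub_cancel, slotMat_one]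

theorem ph_transpose {i0 i1 : Fin t} (h : i0 ≠ i1) {p : Matrix (Fin k) (Fin k) F} (hpt : pᵀ = p)
    (b : Matrix (Fin k) (Fin k) F) : (ph i0 i1 p b)ᵀ = ph i0 i1 p bᵀ := by
  unfold ph
  rw [Matrix.transpose_add, Matrix.transpose_mul, slotMat_transpose, slotMat_transpose, slotMat_transpose,
    Matrix.transpose_sub, Matrix.transpose_one, hpt, (slotMat_commute h p bᵀ).eq]

theorem slot_pow {q : ℕ} (hq : q ≠ 0) (i : Fin t) (u : Matrix (Fin k) (Fin k) F) (hu : ∀ a b, u a b ^ q = u a b)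
    (x y : Fin t → Fin k) : slotMat i u x y ^ q = slotMat i u x y := by
  rw [slotMat, Cfsg.Agent.H919.pureMat_apply, ← Finset.prod_pow]
  refine Finset.prod_congr rfl fun j _ => ?_
  by_cases hj : j = i
  · subst hj
    rw [Function.update_self]
    exact hu _ _
  · rw [Function.update_of_ne hj, Matrix.one_apply]
    split_ifs <;> simp [hq]

theorem ph_map (σ : F ≃+* F) {i0 i1 : Fin t} {p b : Matrix (Fin k) (Fin k) F} (hp : p.map σ = p) (hb : b.map σ = b) :
    (ph i0 i1 p b).map σ = ph i0 i1 p b := by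
  unfold ph
  have h1 : (1 - p).map σ = 1 - p := by
    rw [Matrix.map_sub σ (fun a b => map_sub σ a b), Matrix.map_one σ (map_zero σ) (map_one σ), hp]
  rw [Matrix.map_add σ (fun a b => map_add σ a b)]
  have h2 : (slotMat i0 p * slotMat i1 b : Matrix (Fin t → Fin k) (Fin t → Fin k) F).map σ =
      (slotMat i0 p).map σ * (slotMat i1 b).map σ := Matrix.map_mul (f := (σ : F →+* F))
  rw [h2, Cfsg.Agent.H919.slotMat_map, Cfsg.Agent.H919.slotMat_map, Cfsg.Agent.H919.slotMat_map, hp, hb, h1]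

/-- `x` as a unit -/
def phg {i0 i1 : Fin t} (h : i0 ≠ i1) {p : Matrix (Fin k) (Fin k) F} (hp : p * p = p) (b : GL (Fin k) F) :
    GL (Fin t → Fin k) F where
  val := ph i0 i1 p (b : Matrix (Fin k) (Fin k) F)
  inv := ph i0 i1 p ((b⁻¹ : GL (Fin k) F) : Matrix (Fin k) (Fin k) F)
  val_inv := by rw [ph_mul h hp, Units.mul_inv, ph_one]
  inv_val := by rw [ph_mul h hp, Units.inv_mul, ph_one]

/-- `w` as a unit -/
def slg (i : Fin t) (c : GL (Fin k) F) : GL (Fin t → Fin k) F where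
  val := slotMat i (c : Matrix (Fin k) (Fin k) F)
  inv := slotMat i ((c⁻¹ : GL (Fin k) F) : Matrix (Fin k) (Fin k) F)
  val_inv := by rw [← slotMat_mul, Units.mul_inv, slotMat_one]
  inv_val := by rw [← slotMat_mul, Units.inv_mul, slotMat_one]

end

/-- the projection on one coordinate -/
def pj (F : Type) [Field F] {k : ℕ} (a0 : Fin k) : Matrix (Fin k) (Fin k) F :=
  Matrix.diagonal fun i => if i = a0 then 1 else 0

section

variable {F : Type} [Field F] {k : ℕ}

theorem pj_mul (a0 : Fin k) : pj F a0 * pj F a0 = pj F a0 := by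
  rw [pj, Matrix.diagonal_mul_diagonal]
  congr 1
  funext i
  split_ifs <;> simp

theorem pj_ne_zero (a0 : Fin k) : pj F a0 ≠ 0 := by
  intro h
  have := congrFun (congrFun h a0) a0
  simp [pj] at this

theorem pj_ne_one {a0 a1 : Fin k} (h : a0 ≠ a1) : pj F a0 ≠ 1 := by
  intro h'
  have := congrFun (congrFun h' a1) a1
  simp [pj, Ne.symm h] at this

theorem pj_transpose (a0 : Fin k) : (pj F a0)ᵀ = pj F a0 := Matrix.diagonal_transpose _

theorem pj_map (σ : F ≃+* F) (a0 : Fin k) : (pj F a0).map σ = pj F a0 := by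
  rw [pj, Matrix.diagonal_map (map_zero σ)]
  congr 1
  funext i
  split_ifs <;> simp

end

theorem cy_cube {κ : Type} [Fintype κ] [DecidableEq κ] {a0 a1 a2 : κ} (h01 : a0 ≠ a1) (h02 : a0 ≠ a2) (h12 : a1 ≠ a2) :
    cy a0 a1 a2 * cy a0 a1 a2 * cy a0 a1 a2 = 1 := by
  have h : (cy a0 a1 a2).IsThreeCycle := by
    rw [cy, Equiv.swap_comm]
    exact Equiv.Perm.isThreeCycle_swap_mul_swap_same (Ne.symm h01) h12 h02
  have h2 : (cy a0 a1 a2) ^ 3 = 1 := by
    rw [← h.orderOf]
    exact pow_orderOf_eq_one _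
  rw [← h2, pow_succ, pow_two]

theorem bm_cube {F : Type} [Field F] {κ : Type} [Fintype κ] [DecidableEq κ] {a0 a1 a2 : κ} (h01 : a0 ≠ a1)
    (h02 : a0 ≠ a2) (h12 : a1 ≠ a2) : bm F a0 a1 a2 * bm F a0 a1 a2 * bm F a0 a1 a2 = 1 := by
  rw [bm, ← Matrix.permMatrix_mul, ← Matrix.permMatrix_mul, ← mul_assoc, cy_cube h01 h02 h12, Matrix.permMatrix_one]

theorem bm_not_two {F : Type} [Field F] {κ : Type} [Fintype κ] [DecidableEq κ] {a0 a1 a2 : κ} (h01 : a0 ≠ a1)
    (h02 : a0 ≠ a2) (h12 : a1 ≠ a2) (x y : F) (p : Matrix κ κ F) (hp : p * p = p) :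
    bm F a0 a1 a2 ≠ x • (1 - p) + y • p := by
  intro h
  have e1 : p * (1 - p) = 0 := by rw [mul_sub, mul_one, hp, sub_self]
  have e2 : (1 - p) * p = 0 := by rw [sub_mul, one_mul, hp, sub_self]
  have e3 : (1 - p) * (1 - p) = 1 - p := by rw [mul_sub, e2, mul_one, sub_zero]
  have e4 : bm F a0 a1 a2 * bm F a0 a1 a2 = (x + y) • bm F a0 a1 a2 - (x * y) • (1 : Matrix κ κ F) := by
    have e5 : (1 : Matrix κ κ F) = (1 - p) + p := by abel
    calc bm F a0 a1 a2 * bm F a0 a1 a2 = (x * x) • (1 - p) + (y * y) • p := by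
          rw [h]
          simp only [add_mul, mul_add, Matrix.smul_mul, Matrix.mul_smul, e1, e2, e3, hp, smul_zero, add_zero,
            zero_add, smul_smul]
      _ = (x + y) • (x • (1 - p) + y • p) - (x * y) • ((1 - p) + p) := by
          simp only [smul_add, smul_smul]
          module
      _ = _ := by rw [← h, ← e5]
  have e6 := congrFun (congrFun e4 a0) a2
  rw [bm, ← Matrix.permMatrix_mul] at e6
  have h2 : (cy a0 a1 a2 * cy a0 a1 a2) a0 = a2 := by
    rw [Equiv.Perm.mul_apply, cy_zero h02 h01, cy_one h02 h12]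
  have h3 : cy a0 a1 a2 a0 ≠ a2 := by rw [cy_zero h02 h01]; exact h12
  simp [PEquiv.toMatrix_apply, h2, h3, Matrix.one_apply_ne h02] at e6

theorem kills_C7 : H588.EPU.Kills H588.EPU.C7 := by
  intro Q _ _ hs A Γ he F _ _ n q m hF hn h32 h43 M hM hle
  obtain ⟨k, t, e, P, f₁, hk, ht, -, hf₁, hT, rfl⟩ := hM
  obtain ⟨P', c, hc0, hcq, hform, hP'⟩ := H881.exists_std hF (by omega) e P f₁ hf₁ hT
  rw [← hP'] at hle
  have hq0 : q ≠ 0 := by
    rintro rfl
    rw [zero_pow two_ne_zero] at hF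
    exact Fintype.card_ne_zero hF
  obtain ⟨g, hg, hg'⟩ := H918.exists_rankOne_mem hF hn
  have hT' : m.hat A = tensorWreathSubgroup k t e P' ⊓ (Cfsg.GU n F q ⊓ Cfsg.Geo.specialLinear (Fin n) F) :=
    hat_eq m he.max (hle.trans inf_le_left) (H918.not_le_tensorWreathSubgroup hg hg' hk ht e P')
  set σ : F ≃+* F := LieClassical.HermBasic.conj hF with hσ
  set a0 : Fin k := ⟨0, by omega⟩ with ha0
  set a1 : Fin k := ⟨1, by omega⟩ with ha1
  set a2 : Fin k := ⟨2, by omega⟩ with ha2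
  have h01 : a0 ≠ a1 := by simp [ha0, ha1]
  have h02 : a0 ≠ a2 := by simp [ha0, ha2]
  have h12 : a1 ≠ a2 := by simp [ha1, ha2]
  set i0 : Fin t := ⟨0, by omega⟩ with hi0
  set i1 : Fin t := ⟨1, by omega⟩ with hi1
  have hi : i0 ≠ i1 := by simp [hi0, hi1]
  have hbq : ∀ a b, bm F a0 a1 a2 a b ^ q = bm F a0 a1 a2 a b := by
    intro a b
    rw [bm_apply]
    split_ifs <;> simp [hq0]
  have hbσ : (bm F a0 a1 a2).map σ = bm F a0 a1 a2 := by
    ext a b
    exact hbq a b
  -- `x`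
  set X : GL (Fin t → Fin k) F := phg hi (pj_mul (F := F) a0) (bg F a0 a1 a2) with hX
  have hXv : (X : Matrix (Fin t → Fin k) (Fin t → Fin k) F) = ph i0 i1 (pj F a0) (bm F a0 a1 a2) := rfl
  have hXorth : (X : Matrix (Fin t → Fin k) (Fin t → Fin k) F)ᵀ * (X : Matrix (Fin t → Fin k) (Fin t → Fin k) F) = 1 := by
    rw [hXv, ph_transpose hi (pj_transpose a0), ph_mul hi (pj_mul a0), bm_transpose_mul, ph_one]
  have hX3 : (X : Matrix (Fin t → Fin k) (Fin t → Fin k) F) * (X : Matrix (Fin t → Fin k) (Fin t → Fin k) F) *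
      (X : Matrix (Fin t → Fin k) (Fin t → Fin k) F) = 1 := by
    rw [hXv, ph_mul hi (pj_mul a0), ph_mul hi (pj_mul a0), bm_cube h01 h02 h12, ph_one]
  have hXdet : (X : Matrix (Fin t → Fin k) (Fin t → Fin k) F).det = 1 := by
    have d1 := congrArg Matrix.det hXorth
    rw [Matrix.det_mul, Matrix.det_transpose, Matrix.det_one] at d1
    have d2 := congrArg Matrix.det hX3
    rw [Matrix.det_mul, Matrix.det_mul, Matrix.det_one, d1, one_mul] at d2
    exact d2
  have hXS : fr e P' X ∈ Cfsg.GU n F q ⊓ Cfsg.Geo.specialLinear (Fin n) F := by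
    refine fr_mem hF hform X hXorth ?_ hXdet
    intro x y
    have h1 := ph_map σ (i0 := i0) (i1 := i1) (pj_map σ a0) hbσ
    exact congrFun (congrFun h1 x) y
  -- `w`
  set W : GL (Fin t → Fin k) F := slg i1 (cg F a0 a1 a2) with hW
  have hWv : (W : Matrix (Fin t → Fin k) (Fin t → Fin k) F) = slotMat i1 (cm F a0 a1 a2) := rfl
  have hWS : fr e P' W ∈ Cfsg.GU n F q ⊓ Cfsg.Geo.specialLinear (Fin n) F := by
    refine fr_mem hF hform W ?_ ?_ ?_
    · rw [hWv, slotMat_transpose, ← slotMat_mul, cm_transpose, cm_mul_cm, slotMat_one]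
    · intro x y
      exact slot_pow hq0 i1 _ (cm_pow a0 a1 a2 hq0 (neg_one_pow_q hF)) x y
    · rw [hWv]
      obtain ⟨s, rfl⟩ : ∃ s, t = s + 1 := ⟨t - 1, by omega⟩
      exact H881.slotMat_det (cm_det h01 h02 h12) i1
  refine kill_wreath he m e P' hT' (i0 := i0) (i1 := i1) hi (pj_mul a0) (pj_ne_zero a0) (pj_ne_one h01)
    (BC.of_inv (b := bm F a0 a1 a2) (bi := (bm F a0 a1 a2)ᵀ) (c := cg F a0 a1 a2) (bm_mul_transpose _ _ _)
      (cm_conj a0 a1 a2) (bm_sq_ne h01 h02 h12)) (fun x y p hp => bm_not_two h01 h02 h12 x y p hp)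
    hXS ?_ hWS (c₁ := 1) ?_ ?_
  · change frA e P' (ph i0 i1 (pj F a0) (bm F a0 a1 a2)) = _
    unfold ph
    rw [map_add, map_mul]
    rfl
  · rw [cjm]
    simp
  · rw [Units.val_one, map_one, one_mul]
    rfl

end Cfsg.Agent.H25.EPU
end

-- part: H419/EP/PsuN
section
/-!
# S3499: `PsuNonRes` (helper419)
-/

set_option autoImplicit false

namespace Cfsg.Agent.H419.EP

open Cfsg.Agent.H588.EPU

theorem kills_C5a : Kills C5a := fun _ _ _ he _ _ _ _ _ m hF hn _ _ _ hM hle =>
  Cfsg.Agent.H511.EP.su_C5 he m hF hn (Or.inl hM) hle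

theorem kills_C5b : Kills C5b := fun _ _ _ he _ _ _ _ _ m hF hn _ _ _ hM hle =>
  Cfsg.Agent.H511.EP.su_C5 he m hF hn (Or.inr (Or.inl hM)) hle

theorem kills_C5c : Kills C5c := fun _ _ _ he _ _ _ _ _ m hF hn _ _ _ hM hle =>
  Cfsg.Agent.H511.EP.su_C5 he m hF hn (Or.inr (Or.inr hM)) hle

theorem kills_C6 : Kills C6 := fun _ _ _ he _ _ _ _ _ m hF hn h32 _ _ hM hle =>
  Cfsg.Agent.H932.EP.su_c6 he m hF hn h32 hM hle

/-- **target 5 of 8** -/
theorem psuNonRes : PsuNonRes :=
  Cfsg.Agent.H588.EPU.psuNonRes Cfsg.Agent.H29.EP.SU.kills_C1a Cfsg.Agent.H29.EP.SU.kills_C1b Cfsg.Agent.H380.EPU.c2a Cfsg.Agent.H380.EPU.c2b kills_C5a kills_C5b kills_C5c kills_C6 kills_C3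
    Cfsg.Agent.H25.EPU.kills_C4 Cfsg.Agent.H25.EPU.kills_C7

end Cfsg.Agent.H419.EP
end

private theorem dce_c8b5053ad8a0 : _root_.True := by
  try have : _root_.True := by simp only [_root_.Cfsg.Agent.H25.EPU.blk.eq_1]
  try have : _root_.True := by simp only [_root_.Cfsg.Geo.tensorProductSubgroup.eq_1]
  try have : _root_.True := by simp only [_root_.Cfsg.Agent.H25.EPU.cm.eq_1]
  try have : _root_.True := by simp only [_root_.Cfsg.Agent.H25.EPU.bm.congr_simp]
  try have : _root_.True := by simp only [_root_.Cfsg.Agent.H25.EPU.cm.congr_simp]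
  try have : _root_.True := by simp only [_root_.Cfsg.Agent.H25.EPU.bm.eq_1]
  try have : _root_.True := by simp only [_root_.Cfsg.Agent.H25.EPU.ob.congr_simp]
  try have : _root_.True := by simp only [_root_.Cfsg.Agent.H25.EPU.bd.eq_1]
  try have : _root_.True := by simp only [_root_.Cfsg.Agent.H25.EPU.sg.congr_simp]
  try have : _root_.True := by simp only [_root_.Cfsg.Agent.H932.EP.mult.eq_1]
  try have : _root_.True := by simp only [_root_.Cfsg.Agent.H25.EPU.bd.congr_simp]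
  try have : _root_.True := by simp only [_root_.Cfsg.Agent.H932.EP.refl.eq_1]
  try have : _root_.True := by simp only [_root_.Cfsg.Agent.H25.EPU.pj.eq_1]
  try have : _root_.True := by simp only [_root_.Cfsg.Agent.H25.EPU.cy.eq_1]
  exact _root_.True.intro
end
end

-- part: H273/EPU/Own
section
prune_inst 0x10000000000000
set_option linter.all false
open scoped Cfsg.Agent.FastGrp

-- part: H273/EPU/Count
section
/-!
# S3499, the number of members of `LocK L` (helper273)

`ncard_locK_le_of` : at most `D` members with `O_p ≠ 1`, elementary abelian `s`-subgroups (`s ≠ p`) of order at most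
`s ^ k`, nonabelian characteristically simple subgroups simple: then
`|LocK L| ≤ D + (∑_{s ≠ p} (|L|_s) ^ k) * (|L| / 2) + |L| ^ 2 / 60`.
-/

set_option autoImplicit false
set_option linter.unusedSectionVars false

namespace Cfsg.Agent.H273.EPU

open Subgroup Cfsg
open Cfsg.Agent.H59.EP
open scoped commutatorElement

/-- a group of exponent `s` and order at most `s ^ k` has `k` generators -/
theorem exists_gen {E : Type*} [Group E] [Finite E] {s : ℕ} (hs : s.Prime) (hexp : ∀ a : E, a ^ s = 1) {k : ℕ}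
    (hk : Nat.card E ≤ s ^ k) : ∃ f : Fin k → E, closure (Set.range f) = ⊤ := by
  have : Fact s.Prime := ⟨hs⟩
  have hp : IsPGroup s E := fun a => ⟨1, by rw [pow_one, hexp]⟩
  have key : ∀ j : ℕ, ∃ f : Fin j → E, closure (Set.range f) = ⊤ ∨ s ^ j ≤ Nat.card (closure (Set.range f)) := by
    intro j
    induction j with
    | zero => exact ⟨Fin.elim0, Or.inr (by rw [pow_zero]; exact Nat.card_pos)⟩
    | succ j ih =>
      obtain ⟨f, hf⟩ := ih
      rcases hf with hf | hf
      · refine ⟨Fin.snoc f 1, Or.inl ?_⟩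
        rw [eq_top_iff, ← hf]
        refine Subgroup.closure_mono ?_
        rintro _ ⟨i, rfl⟩
        exact ⟨i.castSucc, by rw [Fin.snoc_castSucc]⟩
      · by_cases ht : closure (Set.range f) = ⊤
        · refine ⟨Fin.snoc f 1, Or.inl ?_⟩
          rw [eq_top_iff, ← ht]
          refine Subgroup.closure_mono ?_
          rintro _ ⟨i, rfl⟩
          exact ⟨i.castSucc, by rw [Fin.snoc_castSucc]⟩
        · obtain ⟨x, hx⟩ : ∃ x, x ∉ closure (Set.range f) := by
            by_contra hcon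
            push Not at hcon
            exact ht ((Subgroup.eq_top_iff' _).2 hcon)
          refine ⟨Fin.snoc f x, Or.inr ?_⟩
          have hle : closure (Set.range f) ≤ closure (Set.range (Fin.snoc f x : Fin (j + 1) → E)) := by
            refine Subgroup.closure_mono ?_
            rintro _ ⟨i, rfl⟩
            exact ⟨i.castSucc, by rw [Fin.snoc_castSucc]⟩
          have hx' : x ∈ closure (Set.range (Fin.snoc f x : Fin (j + 1) → E)) :=
            Subgroup.subset_closure ⟨Fin.last j, by rw [Fin.snoc_last]⟩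
          obtain ⟨a, ha⟩ := (IsPGroup.iff_card.1 (hp.to_subgroup (closure (Set.range f))))
          obtain ⟨b, hb⟩ := (IsPGroup.iff_card.1 (hp.to_subgroup (closure (Set.range (Fin.snoc f x : Fin (j + 1) → E)))))
          have hlt : a < b := by
            by_contra hlt
            push Not at hlt
            have h1 : Nat.card (closure (Set.range (Fin.snoc f x : Fin (j + 1) → E))) ≤
                Nat.card (closure (Set.range f)) := by
              rw [ha, hb]
              exact Nat.pow_le_pow_right hs.pos hlt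
            have h2 := Subgroup.eq_of_le_of_card_ge hle h1
            rw [← h2] at hx'
            exact hx hx'
          rw [hb]
          rw [ha] at hf
          have h3 : j ≤ a := (Nat.pow_le_pow_iff_right hs.one_lt).1 hf
          exact Nat.pow_le_pow_right hs.pos (by omega)
  obtain ⟨f, hf⟩ := key k
  refine ⟨f, ?_⟩
  rcases hf with hf | hf
  · exact hf
  · apply Subgroup.eq_top_of_card_eq
    exact le_antisymm (Subgroup.card_le_card_group _) (hk.trans hf)

variable {L : Type*} [Group L] [Finite L]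

/-- the elementary abelian subgroups of `P` -/
theorem ncard_elab_le_pow {s : ℕ} (hs : s.Prime) {k : ℕ} (hk : ∀ E : Subgroup L, ElAb s E → Nat.card E ≤ s ^ k)
    (P : Subgroup L) : {E : Subgroup L | E ≤ P ∧ ElAb s E ∧ E ≠ ⊥}.ncard ≤ Nat.card P ^ k := by
  have hsub : {E : Subgroup L | E ≤ P ∧ ElAb s E ∧ E ≠ ⊥} ⊆
      Set.range fun f : Fin k → P => closure (Set.range fun i => (f i : L)) := by
    rintro E ⟨hEP, hE, _⟩
    obtain ⟨f, hf⟩ := exists_gen hs (fun a : E => Subtype.ext (hE.exp a a.2)) (hk E hE)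
    refine ⟨fun i => ⟨f i, hEP (f i).2⟩, ?_⟩
    have h1 : (Set.range fun i => ((f i : E) : L)) = E.subtype '' Set.range f := by
      rw [← Set.range_comp]
      rfl
    show closure (Set.range fun i => ((f i : E) : L)) = E
    rw [h1, ← MonoidHom.map_closure, hf, ← MonoidHom.range_eq_map, E.range_subtype]
  refine (Set.ncard_le_ncard hsub (Set.toFinite _)).trans ?_
  rw [← Set.image_univ]
  refine (Set.ncard_image_le (Set.toFinite _)).trans ?_
  rw [Set.ncard_univ, Nat.card_fun, Nat.card_eq_fintype_card (α := Fin k), Fintype.card_fin]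

/-- the elementary abelian subgroups with normaliser of index at most `c` -/
theorem ncard_elab_class_le_pow {s : ℕ} (hs : s.Prime) {k : ℕ} (hk : ∀ E : Subgroup L, ElAb s E → Nat.card E ≤ s ^ k)
    {c : ℕ} : {X : Subgroup L | ElAb s X ∧ X ≠ ⊥ ∧ (normalizer (X : Set L)).index ≤ c}.ncard ≤
      (s ^ (Nat.card L).factorization s) ^ k * c := by
  have : Fact s.Prime := ⟨hs⟩
  let P : Sylow s L := default
  have hP : Nat.card (P : Subgroup L) = s ^ (Nat.card L).factorization s := P.card_eq_multiplicity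
  rw [← hP]
  refine le_trans (ncard_le_mul (𝓔 := {E : Subgroup L | E ≤ (P : Subgroup L) ∧ ElAb s E ∧ E ≠ ⊥}) ?_
    (fun X hX => hX.2.2)) (Nat.mul_le_mul_right _ (ncard_elab_le_pow hs hk P))
  rintro X ⟨h1, h2, _⟩
  have hps : IsPGroup s X := by
    rintro ⟨y, hy⟩
    refine ⟨1, Subtype.ext ?_⟩
    rw [pow_one]
    exact h1.exp y hy
  obtain ⟨R, hR⟩ := hps.exists_le_sylow
  obtain ⟨g, hg⟩ := MulAction.exists_smul_eq L R P
  refine ⟨X.map (MulAut.conj g).toMonoidHom, ⟨?_, ⟨?_, ?_⟩, ?_⟩, g⁻¹, ?_⟩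
  · rw [← hg, Sylow.coe_subgroup_smul]
    rintro _ ⟨x, hx, rfl⟩
    exact Subgroup.smul_mem_pointwise_smul _ _ _ (hR hx)
  · rintro _ ⟨a, ha, rfl⟩ _ ⟨b, hb, rfl⟩
    rw [← map_mul, ← map_mul, h1.comm a ha b hb]
  · rintro _ ⟨a, ha, rfl⟩
    rw [← map_pow, h1.exp a ha, map_one]
  · intro e
    rw [Subgroup.map_eq_bot_iff_of_injective _ (MulAut.conj g).injective] at e
    exact h2 e
  · rw [Subgroup.map_map]
    conv_lhs => rw [← Subgroup.map_id X]
    congr 1
    ext y
    show y = g⁻¹ * (g * y * g⁻¹) * g⁻¹⁻¹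
    group

theorem mem_normalizer_of {X : Subgroup L} {b : L} (h : ∀ k ∈ X, b * k * b⁻¹ ∈ X) : b ∈ normalizer (X : Set L) := by
  have h1 : X.map (MulAut.conj b).toMonoidHom = X := by
    apply Subgroup.eq_of_le_of_card_ge
    · rintro _ ⟨k, hk, rfl⟩
      exact h k hk
    · exact (Nat.card_congr (X.equivMapOfInjective _ (MulAut.conj b).injective).toEquiv).le
  rw [mem_normalizer_iff]
  intro k
  refine ⟨h k, fun hk => ?_⟩
  rw [← h1] at hk
  obtain ⟨y, hy, e⟩ := hk
  have e' : b * y * b⁻¹ = b * k * b⁻¹ := e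
  have : y = k := mul_left_cancel (mul_right_cancel e')
  rw [← this]
  exact hy

/-- **the number of members of `LocK L`** -/
theorem ncard_locK_le_of {L : Type} [Group L] [Finite L] {p : ℕ} [Fact p.Prime] {D : ℕ}
    (hD : {K ∈ LocK L | pCore p K ≠ ⊥}.ncard ≤ D) (hg : TwoGen.{0}) {k : ℕ}
    (hk : ∀ s, s.Prime → s ≠ p → ∀ E : Subgroup L, ElAb s E → Nat.card E ≤ s ^ k)
    (hsimp : ∀ X : Subgroup L, X ≠ ⊥ → (∀ Y : Subgroup X, Y.Characteristic → Y = ⊥ ∨ Y = ⊤) →
      (¬ ∀ a b : X, a * b = b * a) → IsSimpleGroup X) :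
    (LocK L).ncard ≤ D + ((∑ s ∈ (Nat.card L).primeFactors.erase p, (s ^ (Nat.card L).factorization s) ^ k) *
      (Nat.card L / 2) + Nat.card L ^ 2 / 60) := by
  classical
  have hsplit : LocK L ⊆ {K ∈ LocK L | pCore p K ≠ ⊥} ∪ {K ∈ LocK L | pCore p K = ⊥} := by
    intro K hK
    by_cases h : pCore p K = ⊥
    · exact Or.inr ⟨hK, h⟩
    · exact Or.inl ⟨hK, h⟩
  refine (Set.ncard_le_ncard hsplit (Set.toFinite _)).trans ((Set.ncard_union_le _ _).trans (Nat.add_le_add hD ?_))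
  have key : ∀ M ∈ {K ∈ LocK L | pCore p K = ⊥}, ∃ X : Subgroup L, normalizer (X : Set L) = M ∧
      ((∃ s ∈ (Nat.card L).primeFactors.erase p, ElAb s X ∧ X ≠ ⊥) ∨
        ((IsSimpleGroup X ∧ ¬ Group.IsSolvable X) ∧ ∃ a b : X, closure ({a, b} : Set X) = ⊤)) := by
    rintro M ⟨hM, hMp⟩
    obtain ⟨X, h1, h2, h3, h4⟩ := exists_key hM.1 (fun K hK hK0 b hb => hM.2 K hK hK0 (mem_normalizer_of hb))
    refine ⟨X, h1, ?_⟩
    have hXn : Nontrivial X := (Subgroup.nontrivial_iff_ne_bot X).2 h3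
    by_cases hcomm : ∀ a b : X, a * b = b * a
    · left
      obtain ⟨s, hs, hsd, hel⟩ := elab_of_comm h4 hcomm
      have hE : ElAb s X := by
        constructor
        · intro a ha b hb
          exact Subtype.ext_iff.1 (hel.comm ⟨a, ha⟩ (mem_top _) ⟨b, hb⟩ (mem_top _))
        · intro a ha
          exact Subtype.ext_iff.1 (hel.exp ⟨a, ha⟩ (mem_top _))
      have hXB : Nat.card X ∣ Nat.card L := Subgroup.card_subgroup_dvd_card X
      refine ⟨s, Finset.mem_erase.2 ⟨?_, Nat.mem_primeFactors.2 ⟨hs, hsd.trans hXB, Nat.card_pos.ne'⟩⟩, hE, h3⟩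
      rintro rfl
      -- `X` is a normal `p`-subgroup of `M`
      have hn : (X.subgroupOf M).Normal := by
        constructor
        intro y hy m
        rw [mem_subgroupOf] at hy ⊢
        have hm : (m : L) ∈ normalizer (X : Set L) := by rw [h1]; exact m.2
        exact (mem_normalizer_iff.1 hm _).1 hy
      have hpg : IsPGroup s (X.subgroupOf M) := by
        intro y
        refine ⟨1, Subtype.ext (Subtype.ext ?_)⟩
        rw [pow_one]
        exact hE.exp _ y.2
      have h5 : X.subgroupOf M ≤ pCore s M := by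
        rw [Cfsg.Agent.Lib.Cores.pCore_def]
        exact le_sSup (show X.subgroupOf M ∈ {N : Subgroup M | N.Normal ∧ IsPGroup s N} from ⟨hn, hpg⟩)
      rw [hMp, le_bot_iff, Subgroup.subgroupOf_eq_bot, disjoint_iff, inf_eq_left.2 h2] at h5
      exact h3 h5
    · right
      have hs := hsimp X h3 h4 hcomm
      refine ⟨⟨hs, ?_⟩, ?_⟩
      · intro hsol
        have h5 : commutator X < ⊤ := Group.IsSolvable.commutator_lt_top_of_nontrivial X
        rcases hs.eq_bot_or_eq_top_of_normal (commutator X) inferInstance with h6 | h6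
        · apply hcomm
          intro a b
          have h7 : ⁅a, b⁆ ∈ commutator X := commutator_mem_commutator (mem_top _) (mem_top _)
          rw [h6, mem_bot, commutatorElement_eq_one_iff_mul_comm] at h7
          exact h7
        · exact h5.ne h6
      · exact hg X
  choose! f hf1 hf2 using key
  have hinj : Set.InjOn f {K ∈ LocK L | pCore p K = ⊥} := by
    intro M hM N hN e
    rw [← hf1 M hM, ← hf1 N hN, e]
  rw [← hinj.ncard_image]
  have hidx : ∀ M ∈ LocK L, M.index ≤ Nat.card L / 2 := by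
    intro M hM
    rw [Nat.le_div_iff_mul_le (by norm_num), ← M.card_mul_index, mul_comm]
    refine Nat.mul_le_mul_right _ ?_
    have : Nontrivial M := (Subgroup.nontrivial_iff_ne_bot M).2 hM.1
    exact Finite.one_lt_card
  have hsub : f '' {K ∈ LocK L | pCore p K = ⊥} ⊆ (⋃ s ∈ (Nat.card L).primeFactors.erase p,
      {X : Subgroup L | ElAb s X ∧ X ≠ ⊥ ∧ (normalizer (X : Set L)).index ≤ Nat.card L / 2}) ∪
      {X : Subgroup L | (IsSimpleGroup X ∧ ¬ Group.IsSolvable X) ∧ ∃ a b : X, closure ({a, b} : Set X) = ⊤} := by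
    rintro _ ⟨M, hM, rfl⟩
    rcases hf2 M hM with ⟨s, hs, h1, h2⟩ | h
    · left
      simp only [Set.mem_iUnion]
      exact ⟨s, hs, h1, h2, by rw [hf1 M hM]; exact hidx M hM.1⟩
    · right
      exact h
  refine (Set.ncard_le_ncard hsub (Set.toFinite _)).trans ((Set.ncard_union_le _ _).trans (Nat.add_le_add ?_ ?_))
  · have hun : ∀ I : Finset ℕ, (⋃ s ∈ I, {X : Subgroup L | ElAb s X ∧ X ≠ ⊥ ∧
        (normalizer (X : Set L)).index ≤ Nat.card L / 2}).ncard ≤
        ∑ s ∈ I, {X : Subgroup L | ElAb s X ∧ X ≠ ⊥ ∧ (normalizer (X : Set L)).index ≤ Nat.card L / 2}.ncard := by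
      intro I
      induction I using Finset.induction_on with
      | empty => simp only [_root_.Finset.notMem_empty, _root_.ne_eq, _root_.Set.iUnion_of_empty, _root_.Set.iUnion_empty, _root_.Set.ncard_empty, _root_.Finset.sum_empty, _root_.Std.le_refl]
      | insert j I hj ih =>
        rw [Finset.sum_insert hj, Finset.set_biUnion_insert]
        exact (Set.ncard_union_le _ _).trans (Nat.add_le_add_left ih _)
    refine (hun _).trans ?_
    rw [Finset.sum_mul]
    refine Finset.sum_le_sum fun s hs => ?_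
    obtain ⟨hsp, hs'⟩ := Finset.mem_erase.1 hs
    have hsP := Nat.prime_of_mem_primeFactors hs'
    exact ncard_elab_class_le_pow hsP (hk s hsP hsp)
  · exact ncard_simple_le (fun X hX => hX.1) (fun X hX => hX.2)

end Cfsg.Agent.H273.EPU
end

-- part: H273/EPU/CommFive
section
/-!
# Commuting nonabelian simple groups in dimension at most five (helper273)

* `hom_trivial` : a nonabelian simple group of even order has no nontrivial action on a plane (characteristic `≠ 2`);
* `no_comm_five` : two commuting nonabelian simple groups of even order do not act faithfully on a space of dimension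
  at most 5 (characteristic `≠ 2`).
-/

set_option autoImplicit false
set_option linter.unusedSectionVars false

namespace Cfsg.Agent.H273.EPU

open Module Cfsg.Agent.SigZeroU5

section two

variable {F W T : Type*} [Field F] [AddCommGroup W] [Module F W] [FiniteDimensional F W] [Group T]

theorem mat_two {F : Type*} [Field F] (h2 : (2 : F) ≠ 0) {A : Matrix (Fin 2) (Fin 2) F} (hA : A * A = 1)
    (hd : A.det = 1) : A = 1 ∨ A = -1 := by
  have h1 : A.adjugate = A := by
    have e1 : A * (A * A.adjugate) = A := by rw [Matrix.mul_adjugate, hd, one_smul, mul_one]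
    rwa [← mul_assoc, hA, one_mul] at e1
  rw [Matrix.adjugate_fin_two] at h1
  have h01 := congrFun (congrFun h1 0) 1
  have h10 := congrFun (congrFun h1 1) 0
  have h00 := congrFun (congrFun h1 0) 0
  simp only [Matrix.of_apply, Matrix.cons_val', Matrix.cons_val_zero, Matrix.cons_val_one, Matrix.cons_val_fin_one] at h01 h10 h00
  have e01 : A 0 1 = 0 := by
    have : 2 * A 0 1 = 0 := by linear_combination -h01
    exact (mul_eq_zero.1 this).resolve_left h2
  have e10 : A 1 0 = 0 := by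
    have : 2 * A 1 0 = 0 := by linear_combination -h10
    exact (mul_eq_zero.1 this).resolve_left h2
  rw [Matrix.det_fin_two, e01, h00] at hd
  have h3 : (A 0 0 - 1) * (A 0 0 + 1) = 0 := by linear_combination hd
  rcases mul_eq_zero.1 h3 with h4 | h4
  · left
    have h5 : A 0 0 = 1 := sub_eq_zero.1 h4
    ext i j
    fin_cases i <;> fin_cases j
    · simpa using h5
    · simpa using e01
    · simpa using e10
    · simpa [h00] using h5
  · right
    have h5 : A 0 0 = -1 := eq_neg_of_add_eq_zero_left h4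
    ext i j
    fin_cases i <;> fin_cases j
    · simpa using h5
    · simpa using e01
    · simpa using e10
    · simpa [h00] using h5

theorem pm_one {f : End F W} (h2 : (2 : F) ≠ 0) (hW : finrank F W ≤ 2) (hf : f * f = 1) (hd : LinearMap.det f = 1) :
    f = 1 ∨ f = -1 := by
  obtain ⟨n, hn⟩ : ∃ n, finrank F W = n := ⟨_, rfl⟩
  let b := finBasisOfFinrankEq F W hn
  have hmul : LinearMap.toMatrix b b f * LinearMap.toMatrix b b f = 1 := by
    rw [← LinearMap.toMatrix_mul, hf, LinearMap.toMatrix_one]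
  have hdet : (LinearMap.toMatrix b b f).det = 1 := by rw [LinearMap.det_toMatrix, hd]
  have key : LinearMap.toMatrix b b f = 1 ∨ LinearMap.toMatrix b b f = -1 := by
    have hn2 : n = 0 ∨ n = 1 ∨ n = 2 := by omega
    rcases hn2 with rfl | rfl | rfl
    · left
      ext i
      exact i.elim0
    · left
      rw [Matrix.det_fin_one] at hdet
      ext i j
      have hi : i = 0 := Subsingleton.elim _ _
      have hj : j = 0 := Subsingleton.elim _ _
      rw [hi, hj, hdet, Matrix.one_apply_eq]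
    · exact mat_two h2 hmul hdet
  rcases key with h | h
  · left
    apply (LinearMap.toMatrix b b).injective
    rw [h, LinearMap.toMatrix_one]
  · right
    apply (LinearMap.toMatrix b b).injective
    rw [h, map_neg, LinearMap.toMatrix_one]

/-- a homomorphism of a nonabelian simple group into a commutative group is trivial -/
theorem hom_comm_trivial [IsSimpleGroup T] (hnc : ¬ ∀ a b : T, a * b = b * a) {C : Type*} [CommGroup C] (f : T →* C)
    (x : T) : f x = 1 := by
  rcases (inferInstance : f.ker.Normal).eq_bot_or_eq_top with h | h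
  · exfalso
    apply hnc
    intro a b
    have hinj := (MonoidHom.ker_eq_bot_iff f).1 h
    apply hinj
    rw [map_mul, map_mul, mul_comm]
  · have : x ∈ f.ker := by rw [h]; trivial
    exact this

theorem hom_trivial (h2 : (2 : F) ≠ 0) (hW : finrank F W ≤ 2) [IsSimpleGroup T]
    (hnc : ¬ ∀ a b : T, a * b = b * a) {t : T} (ht1 : t ≠ 1) (ht : t * t = 1) (φ : T →* End F W) (x : T) :
    φ x = 1 := by
  have hdet : ∀ y : T, LinearMap.det (φ y) = 1 := by
    intro y
    have := hom_comm_trivial hnc (MonoidHom.toHomUnits (LinearMap.det.comp φ)) y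
    exact congrArg Units.val this
  let ψ : T →* (End F W)ˣ := MonoidHom.toHomUnits φ
  have hψ : ∀ y, ((ψ y : (End F W)ˣ) : End F W) = φ y := fun y => rfl
  rcases (inferInstance : ψ.ker.Normal).eq_bot_or_eq_top with h | h
  · exfalso
    have hinj := (MonoidHom.ker_eq_bot_iff ψ).1 h
    have hφt : φ t * φ t = 1 := by rw [← map_mul, ht, map_one]
    rcases pm_one h2 hW hφt (hdet t) with h3 | h3
    · apply ht1
      apply hinj
      apply Units.ext
      rw [hψ, h3, map_one]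
      rfl
    · have hc : ∀ y, t * y = y * t := by
        intro y
        apply hinj
        apply Units.ext
        rw [hψ, hψ, map_mul, map_mul, h3, neg_one_mul, mul_neg_one]
      have hz : t ∈ Subgroup.center T := Subgroup.mem_center_iff.2 fun y => (hc y).symm
      rcases (inferInstance : (Subgroup.center T).Normal).eq_bot_or_eq_top with h4 | h4
      · rw [h4, Subgroup.mem_bot] at hz
        exact ht1 hz
      · apply hnc
        intro a b
        have : b ∈ Subgroup.center T := by rw [h4]; trivial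
        exact Subgroup.mem_center_iff.1 this a
  · have : x ∈ ψ.ker := by rw [h]; trivial
    exact congrArg Units.val this

end two

section five

variable {F V L : Type*} [Field F] [AddCommGroup V] [Module F V] [FiniteDimensional F V] [Group L]
  (ρ : L →* End F V)

/-- the eigenspaces -/
def Vp (f : End F V) : Submodule F V := LinearMap.ker (f - 1)

def Vm (f : End F V) : Submodule F V := LinearMap.ker (f + 1)

theorem mem_Vp {f : End F V} {v : V} : v ∈ Vp f ↔ f v = v := by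
  rw [Vp, LinearMap.mem_ker, LinearMap.sub_apply, End.one_apply, sub_eq_zero]

theorem mem_Vm {f : End F V} {v : V} : v ∈ Vm f ↔ f v = -v := by
  rw [Vm, LinearMap.mem_ker, LinearMap.add_apply, End.one_apply, add_eq_zero_iff_eq_neg]

theorem add_mem_Vp {f : End F V} (hf : f * f = 1) (v : V) : v + f v ∈ Vp f := by
  rw [mem_Vp, map_add]
  have : f (f v) = v := by rw [← End.mul_apply, hf]; rfl
  rw [this, add_comm]

theorem sub_mem_Vm {f : End F V} (hf : f * f = 1) (v : V) : f v - v ∈ Vm f := by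
  rw [mem_Vm, map_sub]
  have : f (f v) = v := by rw [← End.mul_apply, hf]; rfl
  rw [this, neg_sub]

theorem inf_eq_bot (h2 : (2 : F) ≠ 0) (f : End F V) : Vp f ⊓ Vm f = ⊥ := by
  rw [Submodule.eq_bot_iff]
  rintro v ⟨h1, h3⟩
  rw [SetLike.mem_coe, mem_Vp] at h1
  rw [SetLike.mem_coe, mem_Vm, h1] at h3
  have h4 : (2 : F) • v = 0 := by
    rw [two_smul]
    nth_rewrite 2 [h3]
    exact add_neg_cancel v
  exact (smul_eq_zero.1 h4).resolve_left h2

theorem finrank_add {f : End F V} (h2 : (2 : F) ≠ 0) (hf : f * f = 1) :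
    finrank F (Vp f) + finrank F (Vm f) = finrank F V := by
  refine Submodule.finrank_add_eq_of_isCompl ⟨disjoint_iff.2 (inf_eq_bot h2 f), codisjoint_iff.2 ?_⟩
  rw [eq_top_iff]
  intro v _
  have e : v = (2 : F)⁻¹ • (v + f v) + (-(2 : F)⁻¹) • (f v - v) := by
    have h5 : (2 : F)⁻¹ + (2 : F)⁻¹ = 1 := by rw [← two_mul, mul_inv_cancel₀ h2]
    calc v = ((2 : F)⁻¹ + (2 : F)⁻¹) • v := by rw [h5, one_smul]
      _ = _ := by module
  rw [e]
  exact Submodule.add_mem_sup (Submodule.smul_mem _ _ (add_mem_Vp hf v)) (Submodule.smul_mem _ _ (sub_mem_Vm hf v))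

/-- an involution which is trivial on `C` and on `V / C` is trivial -/
theorem eq_one_of {f : End F V} (h2 : (2 : F) ≠ 0) (hf : f * f = 1) {C : Submodule F V} (h1 : ∀ v, f v - v ∈ C)
    (h3 : ∀ v ∈ C, f v = v) : f = 1 := by
  ext v
  have h4 := h3 _ (h1 v)
  have h5 := mem_Vm.1 (sub_mem_Vm hf v)
  rw [h4] at h5
  have h6 : (2 : F) • (f v - v) = 0 := by
    rw [two_smul]
    nth_rewrite 2 [h5]
    exact add_neg_cancel _
  exact sub_eq_zero.1 ((smul_eq_zero.1 h6).resolve_left h2)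

variable {ρ}

/-- trivial action on small invariant subspaces -/
theorem triv_sub (h2 : (2 : F) ≠ 0) {T : Subgroup L} (hT : IsSimpleGroup T) (hnc : ¬ ∀ a b : T, a * b = b * a) {t : L}
    (htT : t ∈ T) (ht1 : t ≠ 1) (ht : t * t = 1) {W : Submodule F V} (hW : finrank F W ≤ 2)
    (hi : ∀ x ∈ T, ∀ w ∈ W, ρ x w ∈ W) : ∀ x ∈ T, ∀ w ∈ W, ρ x w = w := by
  intro x hx w hw
  have hi' : ∀ a : T, W ≤ W.comap ((ρ.comp T.subtype) a) := fun a w hw => hi a a.2 w hw
  have h1 := hom_trivial h2 hW hnc (t := ⟨t, htT⟩) (fun h => ht1 (congrArg Subtype.val h)) (Subtype.ext ht)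
    (restr (ρ.comp T.subtype) W hi') ⟨x, hx⟩
  have h3 := congrArg (fun f : End F W => ((f ⟨w, hw⟩ : W) : V)) h1
  exact h3

/-- trivial action on small quotients -/
theorem triv_quot (h2 : (2 : F) ≠ 0) {T : Subgroup L} (hT : IsSimpleGroup T) (hnc : ¬ ∀ a b : T, a * b = b * a) {t : L}
    (htT : t ∈ T) (ht1 : t ≠ 1) (ht : t * t = 1) {W : Submodule F V} (hW : finrank F (V ⧸ W) ≤ 2)
    (hi : ∀ x ∈ T, ∀ w ∈ W, ρ x w ∈ W) : ∀ x ∈ T, ∀ v, ρ x v - v ∈ W := by
  intro x hx v
  have hi' : ∀ a : T, W ≤ W.comap ((ρ.comp T.subtype) a) := fun a w hw => hi a a.2 w hw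
  have h1 := hom_trivial h2 hW hnc (t := ⟨t, htT⟩) (fun h => ht1 (congrArg Subtype.val h)) (Subtype.ext ht)
    (quot (ρ.comp T.subtype) W hi') ⟨x, hx⟩
  have h3 : (Submodule.Quotient.mk (ρ x v) : V ⧸ W) = Submodule.Quotient.mk v :=
    congrArg (fun f : End F (V ⧸ W) => f (Submodule.Quotient.mk v)) h1
  exact (Submodule.Quotient.eq W).1 h3

/-- **Two commuting nonabelian simple groups of even order do not act faithfully in dimension at most five.** -/
theorem no_comm_five (h2 : (2 : F) ≠ 0) (h5 : finrank F V ≤ 5) (hinj : Function.Injective ρ) {T₁ T₂ : Subgroup L}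
    (hT₁ : IsSimpleGroup T₁) (hn₁ : ¬ ∀ a b : T₁, a * b = b * a) (hT₂ : IsSimpleGroup T₂)
    (hn₂ : ¬ ∀ a b : T₂, a * b = b * a) (hc : ∀ x ∈ T₁, ∀ y ∈ T₂, x * y = y * x)
    {t s : L} (htT : t ∈ T₁) (ht1 : t ≠ 1) (ht : t * t = 1) (hsT : s ∈ T₂) (hs1 : s ≠ 1) (hs : s * s = 1) :
    False := by
  have hft : ρ t * ρ t = 1 := by rw [← map_mul, ht, map_one]
  have hfs : ρ s * ρ s = 1 := by rw [← map_mul, hs, map_one]
  have hcom : ∀ x ∈ T₁, ∀ y ∈ T₂, ∀ v, ρ x (ρ y v) = ρ y (ρ x v) := by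
    intro x hx y hy v
    rw [← End.mul_apply, ← End.mul_apply, ← map_mul, ← map_mul, hc x hx y hy]
  -- the two eigenspaces are invariant
  have ip : ∀ {T : Subgroup L} {y : L}, (∀ x ∈ T, ∀ v, ρ x (ρ y v) = ρ y (ρ x v)) → ∀ x ∈ T, ∀ v ∈ Vp (ρ y),
      ρ x v ∈ Vp (ρ y) := by
    intro T y h x hx v hv
    rw [mem_Vp] at hv ⊢
    rw [← h x hx, hv]
  have im : ∀ {T : Subgroup L} {y : L}, (∀ x ∈ T, ∀ v, ρ x (ρ y v) = ρ y (ρ x v)) → ∀ x ∈ T, ∀ v ∈ Vm (ρ y),
      ρ x v ∈ Vm (ρ y) := by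
    intro T y h x hx v hv
    rw [mem_Vm] at hv ⊢
    rw [← h x hx, hv, map_neg]
  have c1 : ∀ x ∈ T₁, ∀ v, ρ x (ρ s v) = ρ s (ρ x v) := fun x hx v => hcom x hx s hsT v
  have c2 : ∀ x ∈ T₂, ∀ v, ρ x (ρ t v) = ρ t (ρ x v) := fun x hx v => (hcom t htT x hx v).symm
  have d1 := finrank_add h2 hfs
  have d2 := finrank_add h2 hft
  -- the fixed space of `T₁`
  let C : Submodule F V :=
    { carrier := {v | ∀ x ∈ T₁, ρ x v = v}
      add_mem' := fun {a b} ha hb x hx => by rw [map_add, ha x hx, hb x hx]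
      zero_mem' := fun x _ => map_zero _
      smul_mem' := fun c v hv x hx => by rw [map_smul, hv x hx] }
  have hsC : Vm (ρ s) ≤ C := by
    by_cases hm : finrank F (Vm (ρ s)) ≤ 2
    · intro v hv x hx
      exact triv_sub h2 hT₁ hn₁ htT ht1 ht hm (im c1) x hx v hv
    · exfalso
      have hp : finrank F (Vp (ρ s)) ≤ 2 := by omega
      have h1 : Vp (ρ s) ≤ Vp (ρ t) := fun v hv =>
        mem_Vp.2 (triv_sub h2 hT₁ hn₁ htT ht1 ht hp (ip c1) t htT v hv)
      by_cases hm' : finrank F (Vm (ρ t)) ≤ 2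
      · -- `Vm t ≤ Vp s ≤ Vp t`
        have h3 : Vm (ρ t) ≤ Vp (ρ t) := fun v hv =>
          h1 (mem_Vp.2 (triv_sub h2 hT₂ hn₂ hsT hs1 hs hm' (im c2) s hsT v hv))
        apply ht1
        apply hinj
        rw [map_one]
        refine eq_one_of h2 hft (C := Vm (ρ t)) (sub_mem_Vm hft) fun v hv => mem_Vp.1 (h3 hv)
      · have hp' : finrank F (Vp (ρ t)) ≤ 2 := by omega
        have h3 : Vp (ρ t) ≤ Vp (ρ s) := fun v hv =>
          mem_Vp.2 (triv_sub h2 hT₂ hn₂ hsT hs1 hs hp' (ip c2) s hsT v hv)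
        -- `s = t`
        have hst : s = t := by
          apply hinj
          have hvm : ∀ v ∈ Vm (ρ t), ρ s v = -v := by
            intro v hv
            have h4 : v + ρ s v ∈ Vp (ρ t) ⊓ Vm (ρ t) :=
              ⟨h1 (add_mem_Vp hfs v), (Vm (ρ t)).add_mem hv (im c2 s hsT v hv)⟩
            rw [inf_eq_bot h2, Submodule.mem_bot] at h4
            exact eq_neg_of_add_eq_zero_right h4
          ext v
          have h5 : (2 : F) • ρ s v = (2 : F) • ρ t v := by
            have e1 : (2 : F) • v = (v + ρ t v) - (ρ t v - v) := by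
              rw [two_smul]
              abel
            have e2 : (2 : F) • ρ s v = ρ s (v + ρ t v) - ρ s (ρ t v - v) := by
              rw [← map_smul, e1, map_sub]
            rw [e2, mem_Vp.1 (h3 (add_mem_Vp hft v)), hvm _ (sub_mem_Vm hft v), two_smul]
            abel
          exact smul_right_injective V h2 h5
        -- `t` is central in `T₁`
        have hz : (⟨t, htT⟩ : T₁) ∈ Subgroup.center T₁ := Subgroup.mem_center_iff.2 fun y =>
          Subtype.ext (by
            have := hc y y.2 s hsT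
            rw [hst] at this
            exact this)
        rcases (inferInstance : (Subgroup.center T₁).Normal).eq_bot_or_eq_top with h4 | h4
        · rw [h4, Subgroup.mem_bot] at hz
          exact ht1 (congrArg Subtype.val hz)
        · apply hn₁
          intro a b
          have : b ∈ Subgroup.center T₁ := by rw [h4]; trivial
          exact Subgroup.mem_center_iff.1 this a
  have hquot := Submodule.finrank_quotient_add_finrank C
  have hC2 : finrank F C ≤ 2 := by
    by_contra hlt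
    have h1 := triv_quot (W := C) h2 hT₁ hn₁ htT ht1 ht (by omega) (fun x hx w hw => by
      rw [hw x hx]
      exact hw)
    apply ht1
    apply hinj
    rw [map_one]
    exact eq_one_of h2 hft (C := C) (h1 t htT) fun v hv => hv t htT
  have h1 := triv_sub (W := C) h2 hT₂ hn₂ hsT hs1 hs hC2 (fun x hx w hw y hy => by
    rw [hcom y hy x hx, hw y hy])
  apply hs1
  apply hinj
  rw [map_one]
  exact eq_one_of h2 hfs (C := C) (fun v => hsC (sub_mem_Vm hfs v)) fun v hv => h1 s hsT v hv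

end five

end Cfsg.Agent.H273.EPU
end

-- part: H273/EPU/Emb
section
/-!
# S3499, `PSp₄(q)`, `q` odd, acts on the orthogonal 5-space (helper273)

`rhoP` : the injection `PSp₄(q) → End(F^5)`; `card_elab_le` : elementary abelian `s`-subgroups, `s ≠ p`, have order at
most `s ^ 4`; `simple_of_char` : nonabelian characteristically simple subgroups are simple.
-/

set_option autoImplicit false
set_option linter.unusedSectionVars false

namespace Cfsg.Agent.H273.EPU

open Subgroup Cfsg Module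
open Cfsg.Agent.H59.EP
open Cfsg.Agent.LieClassical.CliffordFive

section Lin

variable {F : Type} [Field F] {V : Type} [AddCommGroup V] [Module F V] [FiniteDimensional F V]
variable {L : Type} [Group L] [Finite L] {ρ : L →* End F V}

theorem det_eq_one [IsSimpleGroup L] (hnc : ¬ ∀ a b : L, a * b = b * a) (x : L) : LinearMap.det (ρ x) = 1 := by
  have h := hom_comm_trivial hnc ((LinearMap.det : End F V →* F).comp ρ).toHomUnits x
  have h1 := congrArg Units.val h
  exact h1

/-- elementary abelian `s`-subgroups -/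
theorem card_elab_le [IsSimpleGroup L] (hnc : ¬ ∀ a b : L, a * b = b * a) (hinj : Function.Injective ρ) {n : ℕ}
    (hV : finrank F V = n + 1) {s : ℕ} (hs : s.Prime) (hsF : (s : F) ≠ 0) {E : Subgroup L} (hE : ElAb s E) :
    Nat.card E ≤ s ^ n := by
  let : CommGroup E := { (inferInstance : Group E) with
    mul_comm := fun a b => Subtype.ext (hE.comm a a.2 b b.2) }
  refine Cfsg.Agent.SigZeroU5.card_le_pow_det hs hsF n V hV E (fun a => Subtype.ext (hE.exp a a.2))
    (ρ.comp E.subtype) (hinj.comp E.subtype_injective) (fun a => ?_)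
  exact det_eq_one hnc (a : L)

/-- nonabelian characteristically simple subgroups are simple -/
theorem simple_of_char (h2 : (2 : F) ≠ 0) (h5 : finrank F V ≤ 5) (hinj : Function.Injective ρ)
    (hFT : ∀ (T : Type) [Group T] [Finite T], IsSimpleGroup T → (¬ ∀ a b : T, a * b = b * a) → 2 ∣ Nat.card T)
    {X : Subgroup L} (hX : X ≠ ⊥) (hc : ∀ Y : Subgroup X, Y.Characteristic → Y = ⊥ ∨ Y = ⊤)
    (hnc : ¬ ∀ a b : X, a * b = b * a) : IsSimpleGroup X := by
  have hXn : Nontrivial X := (Subgroup.nontrivial_iff_ne_bot X).2 hX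
  obtain ⟨T, hT1, hT2, n, hn, ⟨e⟩⟩ := Cfsg.Agent.S5914.result.1 hc
  have h0 : 0 < n := by omega
  have hTf : Finite T := Finite.of_injective (fun t : T => e.symm (Pi.mulSingle ⟨0, h0⟩ t)) fun t s h =>
    Pi.mulSingle_injective _ (e.symm.injective h)
  have hTc : ¬ ∀ a b : T, a * b = b * a := by
    intro h
    apply hnc
    intro a b
    apply e.injective
    rw [map_mul, map_mul]
    ext i
    exact h _ _
  rcases Nat.lt_or_ge n 2 with hn2 | hn2
  · obtain rfl : n = 1 := by omega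
    let E : T ≃* X := (MulEquiv.piUnique (fun _ : Fin 1 => T)).symm.trans e.symm
    exact E.symm.isSimpleGroup
  exfalso
  -- the factors
  let f : Fin n → T →* L := fun i => X.subtype.comp (e.symm.toMonoidHom.comp (MonoidHom.mulSingle (fun _ : Fin n => T) i))
  have hf : ∀ i, Function.Injective (f i) := fun i =>
    X.subtype_injective.comp (e.symm.injective.comp (fun a b h => by
      have := congrFun h i
      simpa using this))
  have hcomm : ∀ i j, i ≠ j → ∀ x ∈ (f i).range, ∀ y ∈ (f j).range, x * y = y * x := by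
    rintro i j hij _ ⟨a, rfl⟩ _ ⟨b, rfl⟩
    show X.subtype (e.symm (Pi.mulSingle i a)) * X.subtype (e.symm (Pi.mulSingle j b)) =
      X.subtype (e.symm (Pi.mulSingle j b)) * X.subtype (e.symm (Pi.mulSingle i a))
    have hc : (Pi.mulSingle i a * Pi.mulSingle j b : Fin n → T) = Pi.mulSingle j b * Pi.mulSingle i a :=
      (Pi.mulSingle_commute (f := fun _ : Fin n => T) hij a b).eq
    rw [← map_mul, ← map_mul, ← map_mul, ← map_mul, hc]
  have hsim : ∀ i, IsSimpleGroup (f i).range := fun i => (MonoidHom.ofInjective (hf i)).symm.isSimpleGroup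
  have hnc' : ∀ i, ¬ ∀ a b : (f i).range, a * b = b * a := by
    intro i h
    apply hTc
    intro a b
    apply (MonoidHom.ofInjective (hf i)).injective
    rw [map_mul, map_mul]
    exact h _ _
  have : Fact (Nat.Prime 2) := ⟨Nat.prime_two⟩
  obtain ⟨t, ht⟩ := exists_prime_orderOf_dvd_card' 2 (hFT T hT2 hTc)
  have ht1 : t ≠ 1 := by
    rintro rfl
    rw [orderOf_one] at ht
    omega
  have htt : t * t = 1 := by
    rw [← pow_two, ← ht]
    exact pow_orderOf_eq_one t
  have hne : ∀ i, f i t ≠ 1 := fun i h => ht1 (hf i (h.trans (map_one _).symm))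
  refine no_comm_five (ρ := ρ) h2 h5 hinj (hsim ⟨0, by omega⟩) (hnc' _) (hsim ⟨1, by omega⟩) (hnc' _)
    (hcomm _ _ ?_) ⟨t, rfl⟩ (hne _) ?_ ⟨t, rfl⟩ (hne _) ?_
  · intro h
    simp at h
  · rw [← map_mul, htt, map_one]
  · rw [← map_mul, htt, map_one]

end Lin

section PSp

variable {F : Type} [Field F]

/-- `Sp₄` on the orthogonal 5-space -/
noncomputable def rho0 (h2 : (2 : F) ≠ 0) : Matrix.symplecticGroup (Fin 2) F →* End F (I5 → F) :=
  ((Matrix.toLinAlgEquiv' : Matrix I5 I5 F ≃ₐ[F] ((I5 → F) →ₗ[F] (I5 → F))) : Matrix I5 I5 F →* ((I5 → F) →ₗ[F] (I5 → F))).comp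
    ((Units.coeHom (Matrix I5 I5 F)).comp ((Cfsg.isometryGroup F (Cfsg.quadFormOdd 2 F)).subtype.comp (rho h2)))

theorem rho0_apply (h2 : (2 : F) ≠ 0) (g : Matrix.symplecticGroup (Fin 2) F) (v : I5 → F) :
    rho0 h2 g v = ((rho h2 g : Matrix.GeneralLinearGroup I5 F) : Matrix I5 I5 F).mulVec v := rfl

theorem rho0_eq_one (h2 : (2 : F) ≠ 0) {g : Matrix.symplecticGroup (Fin 2) F}
    (hg : g ∈ Subgroup.center (Matrix.symplecticGroup (Fin 2) F)) : rho0 h2 g = 1 := by
  obtain ⟨a, ha⟩ := (Cfsg.Agent.LieClassical.SympCenter.mem_center_iff 2 g).1 hg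
  have ha1 : a * a = 1 := Cfsg.Agent.LieClassical.SympCenter.sq_eq_one_of_smul_mem (m := 2) (by norm_num) (ha ▸ g.2)
  refine LinearMap.ext fun v => ?_
  rw [rho0_apply, Module.End.one_apply]
  apply cl_injective
  have h := cl_rho_mulVec h2 g v
  rw [ha, Matrix.mul_smul, Matrix.mul_one, Matrix.smul_mul, Matrix.one_mul] at h
  have h3 := congrArg (fun M => a • M) h
  simp only [smul_smul, ha1, one_smul] at h3
  exact h3

theorem mem_center_of_rho0 (h2 : (2 : F) ≠ 0) {g : Matrix.symplecticGroup (Fin 2) F} (hg : rho0 h2 g = 1) :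
    g ∈ Subgroup.center (Matrix.symplecticGroup (Fin 2) F) := by
  apply mem_center_of_rho h2
  have h1 : rho h2 g = 1 := by
    apply Subtype.ext
    apply Units.ext
    apply Matrix.toLin'.injective
    refine LinearMap.ext fun v => ?_
    have := congrArg (fun f : End F (I5 → F) => f v) hg
    simp only [rho0_apply, Module.End.one_apply] at this
    rw [Matrix.toLin'_apply, this]
    simp only [_root_.OneMemClass.coe_one, _root_.Units.val_one, _root_.Matrix.toLin'_one, _root_.LinearMap.id_coe, _root_.id_eq]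
  intro h
  rw [h1, one_mul, mul_one]

/-- `PSp₄` on the orthogonal 5-space -/
noncomputable def rhoP (h2 : (2 : F) ≠ 0) : PSp 2 F →* End F (I5 → F) :=
  QuotientGroup.lift (Subgroup.center (Matrix.symplecticGroup (Fin 2) F)) (rho0 h2) (fun _ hg => rho0_eq_one h2 hg)

theorem rhoP_injective (h2 : (2 : F) ≠ 0) : Function.Injective (rhoP h2) := by
  rw [injective_iff_map_eq_one]
  intro x hx
  obtain ⟨g, rfl⟩ := QuotientGroup.mk_surjective x
  exact (QuotientGroup.eq_one_iff g).2 (mem_center_of_rho0 h2 hx)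

theorem finrank_five : finrank F (I5 → F) = 5 := by
  rw [Module.finrank_pi]
  rfl

end PSp

end Cfsg.Agent.H273.EPU
end

-- part: H273/EPU/PSpFour
section
/-!
# S3499, `|LocK PSp₄(q)|`, `q` odd (helper273)

`ncard_psp4_le` (`q ≥ 3`), `ncard_psp4 : |LocK PSp₄(q)| ≤ q ^ 24` (`q ≥ 5`), `ncard_psp4_three` (`q = 3`).
-/

set_option autoImplicit false
set_option linter.unusedSectionVars false

namespace Cfsg.Agent.H273.EPU

section num

/-- prime powers dividing `|PSp₄(q)|`, `q = 2u+1` -/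
theorem pow_le_of_dvd {u s a : ℕ} (hu : 0 < u) (hs : s.Prime) (hsq : Nat.Coprime s (2 * u + 1))
    (h : s ^ a ∣ (2 * u + 1) ^ 4 * (16 * u ^ 2 * (u + 1) ^ 2 * (2 * u ^ 2 + 2 * u + 1))) :
    s ^ a ≤ 4 * (2 * u + 1 + 1) ^ 2 := by
  have h1 : s ^ a ∣ 16 * u ^ 2 * (u + 1) ^ 2 * (2 * u ^ 2 + 2 * u + 1) :=
    Nat.Coprime.dvd_of_dvd_mul_left (Nat.Coprime.pow a 4 hsq) h
  have hB : 4 * (2 * u + 1 + 1) ^ 2 = 16 * (u + 1) ^ 2 := by ring
  rw [hB]
  have hu2 : u ^ 2 ≤ (u + 1) ^ 2 := Nat.pow_le_pow_left (by omega) 2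
  have cop : ∀ x, ¬ s ∣ x → Nat.Coprime (s ^ a) x := fun x hx => Nat.Coprime.pow_left a (hs.coprime_iff_not_dvd.2 hx)
  have cop2 : ∀ x, ¬ s ∣ x → Nat.Coprime (s ^ a) (x ^ 2) := fun x hx => (cop x hx).pow_right 2
  have hmid : 2 * u ^ 2 + 2 * u + 1 = 2 * (u * (u + 1)) + 1 := by ring
  by_cases h2 : s = 2
  · subst h2
    have h3 : 2 ^ a ∣ 16 * u ^ 2 * (u + 1) ^ 2 := Nat.Coprime.dvd_of_dvd_mul_right (cop _ (by omega)) h1
    by_cases hev : 2 ∣ u
    · have h4 : 2 ^ a ∣ 16 * u ^ 2 := Nat.Coprime.dvd_of_dvd_mul_right (cop2 _ (by (clear * - hmid hev; omega))) h3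
      have h5 := Nat.le_of_dvd (by positivity) h4
      (clear * - hu2 h5; omega)
    · have h3' : 2 ^ a ∣ u ^ 2 * (16 * (u + 1) ^ 2) := by
        have e : u ^ 2 * (16 * (u + 1) ^ 2) = 16 * u ^ 2 * (u + 1) ^ 2 := by ring
        rw [e]
        exact h3
      have h4 : 2 ^ a ∣ 16 * (u + 1) ^ 2 := Nat.Coprime.dvd_of_dvd_mul_left (cop2 _ hev) h3'
      exact Nat.le_of_dvd (by positivity) h4
  · have h16 : Nat.Coprime (s ^ a) 16 := by
      refine cop _ ?_
      intro h3
      have h4 : s ∣ 2 ^ 4 := h3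
      exact h2 ((Nat.prime_dvd_prime_iff_eq hs Nat.prime_two).1 (hs.dvd_of_dvd_pow h4))
    have h1' : s ^ a ∣ 16 * (u ^ 2 * ((u + 1) ^ 2 * (2 * u ^ 2 + 2 * u + 1))) := by
      have e : 16 * (u ^ 2 * ((u + 1) ^ 2 * (2 * u ^ 2 + 2 * u + 1))) =
        16 * u ^ 2 * (u + 1) ^ 2 * (2 * u ^ 2 + 2 * u + 1) := by ring
      rw [e]
      exact h1
    have h3 : s ^ a ∣ u ^ 2 * ((u + 1) ^ 2 * (2 * u ^ 2 + 2 * u + 1)) := Nat.Coprime.dvd_of_dvd_mul_left h16 h1'
    have hne : s ∣ u * (u + 1) → ¬ s ∣ 2 * u ^ 2 + 2 * u + 1 := by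
      intro h4 h5
      rw [hmid] at h5
      exact hs.one_lt.ne' (Nat.dvd_one.1 ((Nat.dvd_add_right (h4.mul_left 2)).1 h5))
    by_cases hsu : s ∣ u
    · have h4 : ¬ s ∣ u + 1 := fun h5 => hs.one_lt.ne' (Nat.dvd_one.1 ((Nat.dvd_add_right hsu).1 h5))
      have h5 : s ^ a ∣ u ^ 2 := by
        refine Nat.Coprime.dvd_of_dvd_mul_right ?_ h3
        exact Nat.Coprime.mul_right (cop2 _ h4) (cop _ (hne (hsu.mul_right _)))
      have h6 := Nat.le_of_dvd (by positivity) h5
      omega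
    · have h4 : s ^ a ∣ (u + 1) ^ 2 * (2 * u ^ 2 + 2 * u + 1) := Nat.Coprime.dvd_of_dvd_mul_left (cop2 _ hsu) h3
      by_cases hsu1 : s ∣ u + 1
      · have h5 : s ^ a ∣ (u + 1) ^ 2 := Nat.Coprime.dvd_of_dvd_mul_right (cop _ (hne (hsu1.mul_left _))) h4
        have h6 := Nat.le_of_dvd (by positivity) h5
        omega
      · have h5 : s ^ a ∣ 2 * u ^ 2 + 2 * u + 1 := Nat.Coprime.dvd_of_dvd_mul_left (cop2 _ hsu1) h4
        have h6 := Nat.le_of_dvd (by positivity) h5
        linarith only [h6, _root_.sq_nonneg (↑u : ℤ)]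

theorem sum_le_prod_aux {I : Finset ℕ} {f : ℕ → ℕ} (hf : ∀ i ∈ I, 2 ≤ f i) :
    (∑ i ∈ I, f i ≤ ∏ i ∈ I, f i) ∧ (I = ∅ ∨ 2 ≤ ∏ i ∈ I, f i) := by
  induction I using Finset.induction_on with
  | empty => simp
  | insert i I hi ih =>
    rw [Finset.sum_insert hi, Finset.prod_insert hi]
    obtain ⟨h1, h2⟩ := ih (fun j hj => hf j (Finset.mem_insert_of_mem hj))
    have h3 := hf i (Finset.mem_insert_self i I)
    rcases h2 with rfl | h2
    · simp
      omega
    · constructor
      · nlinarith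
      · right
        nlinarith only [h3, h2]

/-- the Sylow orders -/
theorem sum_sylow_le {N p f B : ℕ} (hN : N ≠ 0) (hp : p.Prime) (hf : f ≠ 0) (hq : (p ^ f) ^ 4 ∣ N)
    (hB : ∀ s, s.Prime → s ≠ p → s ^ N.factorization s ≤ B) :
    (p ^ f) ^ 4 * ∑ s ∈ N.primeFactors.erase p, (s ^ N.factorization s) ^ 4 ≤ B ^ 3 * N := by
  have h1 : ∑ s ∈ N.primeFactors.erase p, (s ^ N.factorization s) ^ 4 ≤
      B ^ 3 * ∏ s ∈ N.primeFactors.erase p, s ^ N.factorization s := by
    calc ∑ s ∈ N.primeFactors.erase p, (s ^ N.factorization s) ^ 4 ≤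
        ∑ s ∈ N.primeFactors.erase p, B ^ 3 * (s ^ N.factorization s) := by
          refine Finset.sum_le_sum fun s hs => ?_
          obtain ⟨h1, h2⟩ := Finset.mem_erase.1 hs
          rw [pow_succ (s ^ N.factorization s) 3]
          exact Nat.mul_le_mul_right _ (Nat.pow_le_pow_left (hB s (Nat.prime_of_mem_primeFactors h2) h1) 3)
      _ = B ^ 3 * ∑ s ∈ N.primeFactors.erase p, (s ^ N.factorization s) := by rw [Finset.mul_sum]
      _ ≤ _ := by
          refine Nat.mul_le_mul_left _ (sum_le_prod_aux ?_).1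
          intro s hs
          obtain ⟨h1, h2⟩ := Finset.mem_erase.1 hs
          have hsp := Nat.prime_of_mem_primeFactors h2
          have h3 : 1 ≤ N.factorization s := (hsp.dvd_iff_one_le_factorization hN).1 (Nat.dvd_of_mem_primeFactors h2)
          calc 2 ≤ s := hsp.two_le
            _ = s ^ 1 := (pow_one s).symm
            _ ≤ _ := Nat.pow_le_pow_right hsp.pos h3
  have hpN : p ∈ N.primeFactors := by
    refine Nat.mem_primeFactors.2 ⟨hp, ?_, hN⟩
    refine dvd_trans ?_ hq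
    rw [← pow_mul]
    exact dvd_pow_self p (by omega)
  have h2 : (∏ s ∈ N.primeFactors.erase p, s ^ N.factorization s) * p ^ N.factorization p = N := by
    rw [Finset.prod_erase_mul _ _ hpN]
    exact Nat.prod_factorization_pow_eq_self hN
  have h3 : (p ^ f) ^ 4 ≤ p ^ N.factorization p := by
    rw [← pow_mul] at hq ⊢
    exact Nat.pow_le_pow_right hp.pos ((hp.pow_dvd_iff_le_factorization hN).1 hq)
  calc (p ^ f) ^ 4 * ∑ s ∈ N.primeFactors.erase p, (s ^ N.factorization s) ^ 4 ≤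
      p ^ N.factorization p * (B ^ 3 * ∏ s ∈ N.primeFactors.erase p, s ^ N.factorization s) := Nat.mul_le_mul h3 h1
    _ = B ^ 3 * ((∏ s ∈ N.primeFactors.erase p, s ^ N.factorization s) * p ^ N.factorization p) := by ring
    _ = _ := by rw [h2]

/-- `q = 3` -/
theorem sum_three : ∑ s ∈ (25920 : ℕ).primeFactors.erase 3, (s ^ (25920 : ℕ).factorization s) ^ 4 ≤ 16777841 := by
  have hle : ∀ s a b m : ℕ, s.Prime → 25920 = a * b → Nat.Coprime s b → a = m → s ^ (25920 : ℕ).factorization s ≤ m := by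
    intro s a b m hs h1 h2 h3
    have h4 : s ^ (25920 : ℕ).factorization s ∣ a * b := by
      rw [← h1]
      exact Nat.ordProj_dvd _ _
    have h5 := Nat.Coprime.dvd_of_dvd_mul_right (Nat.Coprime.pow_left _ h2) h4
    rw [← h3]
    refine Nat.le_of_dvd ?_ h5
    rcases Nat.eq_zero_or_pos a with h6 | h6
    · rw [h6] at h1
      omega
    · exact h6
  have hsub : (25920 : ℕ).primeFactors.erase 3 ⊆ {2, 5} := by
    intro s hs
    obtain ⟨h1, h2⟩ := Finset.mem_erase.1 hs
    have hsp := Nat.prime_of_mem_primeFactors h2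
    have hd : s ∣ 2 ^ 6 * (3 ^ 4 * 5) := Nat.dvd_of_mem_primeFactors h2
    rcases (Nat.Prime.dvd_mul hsp).1 hd with h3 | h3
    · have := (Nat.prime_dvd_prime_iff_eq hsp Nat.prime_two).1 (hsp.dvd_of_dvd_pow h3)
      simp [this]
    · rcases (Nat.Prime.dvd_mul hsp).1 h3 with h3 | h3
      · exact absurd ((Nat.prime_dvd_prime_iff_eq hsp Nat.prime_three).1 (hsp.dvd_of_dvd_pow h3)) h1
      · have := (Nat.prime_dvd_prime_iff_eq hsp Nat.prime_five).1 h3
        simp [this]
  refine (Finset.sum_le_sum_of_subset hsub).trans ?_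
  rw [Finset.sum_pair (by norm_num)]
  have e2 := hle 2 64 405 64 Nat.prime_two (by norm_num) (by norm_num) rfl
  have e5 := hle 5 5 5184 5 Nat.prime_five (by norm_num) (by norm_num) rfl
  have h2 := Nat.pow_le_pow_left e2 4
  have h5 := Nat.pow_le_pow_left e5 4
  norm_num only [_root_.ge_iff_le] at h2 h5 ⊢
  omega

end num

open Subgroup Cfsg Module
open Cfsg.Agent.H59.EP
open Cfsg.Agent.LieClassical.CliffordFive

variable {F : Type} [Field F] [Fintype F]

theorem card_PSp_four {u : ℕ} (hF : Fintype.card F = 2 * u + 1) :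
    Nat.card (PSp 2 F) = (2 * u + 1) ^ 4 * (16 * u ^ 2 * (u + 1) ^ 2 * (2 * u ^ 2 + 2 * u + 1)) := by
  have h1 := Cfsg.Agent.LieClassical.SympCount.card_symplecticGroup (F := F) 2
  have h2 := Cfsg.Agent.LieClassical.SympCenter.card_center (F := F) (m := 2) (by norm_num)
  have h3 := Subgroup.card_eq_card_quotient_mul_card_subgroup
    (Subgroup.center (Matrix.symplecticGroup (Fin 2) F))
  change _ = Nat.card (Cfsg.PSp 2 F) * _ at h3
  rw [h1, h2, hF, Nat.add_sub_cancel, Nat.gcd_eq_left (dvd_mul_right 2 u)] at h3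
  rw [Finset.prod_range_succ, Finset.prod_range_one] at h3
  have e2 : (2 * u + 1) ^ (2 * (0 + 1)) - 1 = 4 * (u * (u + 1)) := by
    have : (2 * u + 1) ^ (2 * (0 + 1)) = 4 * (u * (u + 1)) + 1 := by ring
    omega
  have e4 : (2 * u + 1) ^ (2 * (1 + 1)) - 1 = 8 * (u * (u + 1) * (2 * u ^ 2 + 2 * u + 1)) := by
    have : (2 * u + 1) ^ (2 * (1 + 1)) = 8 * (u * (u + 1) * (2 * u ^ 2 + 2 * u + 1)) + 1 := by ring
    omega
  rw [e2, e4] at h3
  have h4 : 2 * Nat.card (PSp 2 F) = 2 * ((2 * u + 1) ^ 4 * (16 * u ^ 2 * (u + 1) ^ 2 * (2 * u ^ 2 + 2 * u + 1))) := by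
    rw [mul_comm 2 (Nat.card _), ← h3]
    ring
  omega

/-- the setting -/
theorem setting (hodd : Odd (Fintype.card F)) : ∃ p f u : ℕ, p.Prime ∧ f ≠ 0 ∧ Fintype.card F = p ^ f ∧
    Fintype.card F = 2 * u + 1 ∧ 1 ≤ u ∧ CharP F p := by
  obtain ⟨p, hc⟩ := CharP.exists F
  obtain ⟨n, hp, hF⟩ := FiniteField.card F p
  obtain ⟨u, hu⟩ := hodd
  have h1 : 1 < Fintype.card F := Fintype.one_lt_card
  exact ⟨p, n, u, hp, n.ne_zero, hF, hu, by omega, hc⟩

theorem isSimple_psp4 (hodd : Odd (Fintype.card F)) : IsSimpleGroup (PSp 2 F) := by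
  refine Cfsg.Agent.S0270.result 2 le_rfl (fun _ => ?_)
  have h1 : 1 < Fintype.card F := Fintype.one_lt_card
  obtain ⟨u, hu⟩ := hodd
  omega

theorem not_prime_psp4 (hodd : Odd (Fintype.card F)) : ¬ (Nat.card (PSp 2 F)).Prime := by
  obtain ⟨p, f, u, hp, hf, hpf, hu, hu1, hc⟩ := setting hodd
  rw [card_PSp_four hu]
  intro h
  have h1 : (2 * u + 1) ^ 4 ≠ 1 := by
    intro h
    rw [Nat.pow_eq_one] at h
    omega
  have h2 : 16 * u ^ 2 * (u + 1) ^ 2 * (2 * u ^ 2 + 2 * u + 1) ≠ 1 := by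
    intro h
    have h3 : 2 * u ^ 2 + 2 * u + 1 = 1 := Nat.dvd_one.1 (Dvd.intro_left _ h)
    omega
  exact Nat.not_prime_mul h1 h2 h

theorem not_comm_psp4 (hodd : Odd (Fintype.card F)) : ¬ ∀ a b : PSp 2 F, a * b = b * a := by
  intro hc
  apply not_prime_psp4 (F := F) hodd
  have := isSimple_psp4 (F := F) hodd
  let _ : CommGroup (PSp 2 F) := { (inferInstance : Group (PSp 2 F)) with mul_comm := hc }
  exact IsSimpleGroup.prime_card

/-- the count, with the Sylow orders -/
theorem ncard_psp4_sum (hodd : Odd (Fintype.card F)) {p : ℕ} [Fact p.Prime] [CharP F p] (hg : TwoGen.{0})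
    (hFT : ∀ (T : Type) [Group T] [Finite T], IsSimpleGroup T → (¬ ∀ a b : T, a * b = b * a) → 2 ∣ Nat.card T) :
    (LocK (PSp 2 F)).ncard ≤ Nat.card (PSp 2 F) ^ 2 +
      ((∑ s ∈ (Nat.card (PSp 2 F)).primeFactors.erase p, (s ^ (Nat.card (PSp 2 F)).factorization s) ^ 4) *
      (Nat.card (PSp 2 F) / 2) + Nat.card (PSp 2 F) ^ 2 / 60) := by
  have hsim := isSimple_psp4 (F := F) hodd
  have hnc := not_comm_psp4 (F := F) hodd
  have h2 : (2 : F) ≠ 0 := by
    intro h
    have h3 : ringChar F = 2 := by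
      have h4 : ringChar F ∣ 2 := (ringChar.spec F 2).1 (by exact_mod_cast h)
      rcases (Nat.dvd_prime Nat.prime_two).1 h4 with h5 | h5
      · exact absurd h5 (CharP.ringChar_ne_one (R := F))
      · exact h5
    have h4 := FiniteField.even_card_of_char_two h3
    obtain ⟨u, hu⟩ := hodd
    omega
  refine ncard_locK_le_of (p := p) (ncard_p_le (KFacts.RgdFiltClass.hasFilt_PSp (by norm_num))) hg ?_ ?_
  · intro s hs hsp E hE
    refine card_elab_le hnc (rhoP_injective h2) (n := 4) finrank_five hs ?_ hE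
    intro h
    have h3 : p ∣ s := (CharP.cast_eq_zero_iff F p s).1 h
    exact hsp ((Nat.prime_dvd_prime_iff_eq Fact.out hs).1 h3).symm
  · intro X hX hc hn
    exact simple_of_char h2 finrank_five.le (rhoP_injective h2) hFT hX hc hn

/-- **the count**, `q ≥ 3` -/
theorem ncard_psp4_le (hodd : Odd (Fintype.card F)) (hg : TwoGen.{0})
    (hFT : ∀ (T : Type) [Group T] [Finite T], IsSimpleGroup T → (¬ ∀ a b : T, a * b = b * a) → 2 ∣ Nat.card T) :
    60 * Fintype.card F ^ 4 * (LocK (PSp 2 F)).ncard ≤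
      (61 * Fintype.card F ^ 4 + 1920 * (Fintype.card F + 1) ^ 6) * Nat.card (PSp 2 F) ^ 2 := by
  obtain ⟨p, f, u, hp, hf, hpf, hu, hu1, hc⟩ := setting hodd
  have : Fact p.Prime := ⟨hp⟩
  have h1 := ncard_psp4_sum (F := F) hodd (p := p) hg hFT
  have hN := card_PSp_four (F := F) hu
  have hN0 : Nat.card (PSp 2 F) ≠ 0 := Nat.card_pos.ne'
  have h2 := sum_sylow_le (N := Nat.card (PSp 2 F)) (p := p) (f := f) (B := 4 * (2 * u + 1 + 1) ^ 2) hN0 hp hf
    (by rw [← hpf, hu, hN]; exact dvd_mul_right _ _) (by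
      intro s hs hsp
      refine pow_le_of_dvd hu1 hs ?_ ?_
      · rw [← hu, hpf]
        exact (Nat.Coprime.pow_right f ((Nat.coprime_primes hs hp).2 hsp))
      · rw [← hN]
        exact Nat.ordProj_dvd _ _)
  rw [← hpf, hu] at h2
  rw [hu]
  generalize Nat.card (PSp 2 F) = N at *
  generalize ∑ s ∈ N.primeFactors.erase p, (s ^ N.factorization s) ^ 4 = S at *
  generalize (LocK (PSp 2 F)).ncard = c at *
  have h3 : 60 * c ≤ 61 * N ^ 2 + 30 * S * N := by
    have h4 : 2 * (N / 2) ≤ N := Nat.mul_div_le _ _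
    have h5 : 60 * (N ^ 2 / 60) ≤ N ^ 2 := Nat.mul_div_le _ _
    have h6 : 30 * S * (2 * (N / 2)) ≤ 30 * S * N := Nat.mul_le_mul_left _ h4
    linarith only [h1, h5, h6]
  calc 60 * (2 * u + 1) ^ 4 * c = (2 * u + 1) ^ 4 * (60 * c) := by ring
    _ ≤ (2 * u + 1) ^ 4 * (61 * N ^ 2 + 30 * S * N) := Nat.mul_le_mul_left _ h3
    _ = 61 * (2 * u + 1) ^ 4 * N ^ 2 + 30 * N * ((2 * u + 1) ^ 4 * S) := by ring
    _ ≤ 61 * (2 * u + 1) ^ 4 * N ^ 2 + 30 * N * ((4 * (2 * u + 1 + 1) ^ 2) ^ 3 * N) :=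
        Nat.add_le_add_left (Nat.mul_le_mul_left _ h2) _
    _ = _ := by ring

theorem card_PSp_four_le (hodd : Odd (Fintype.card F)) : 2 * Nat.card (PSp 2 F) ≤ Fintype.card F ^ 10 := by
  obtain ⟨p, f, u, hp, hf, hpf, hu, hu1, hc⟩ := setting hodd
  rw [card_PSp_four hu, hu]
  have e1 : 4 * (u * (u + 1)) ≤ (2 * u + 1) ^ 2 := by linarith only []
  have e2 : 8 * (u * (u + 1) * (2 * u ^ 2 + 2 * u + 1)) ≤ (2 * u + 1) ^ 4 := by
    have : (2 * u + 1) ^ 4 = 8 * (u * (u + 1) * (2 * u ^ 2 + 2 * u + 1)) + 1 := by ring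
    omega
  calc 2 * ((2 * u + 1) ^ 4 * (16 * u ^ 2 * (u + 1) ^ 2 * (2 * u ^ 2 + 2 * u + 1))) =
      (2 * u + 1) ^ 4 * ((4 * (u * (u + 1))) * (8 * (u * (u + 1) * (2 * u ^ 2 + 2 * u + 1)))) := by ring
    _ ≤ (2 * u + 1) ^ 4 * ((2 * u + 1) ^ 2 * (2 * u + 1) ^ 4) :=
        Nat.mul_le_mul_left _ (Nat.mul_le_mul e1 e2)
    _ = _ := by ring

/-- the count in terms of `q` -/
theorem ncard_psp4_le' (hodd : Odd (Fintype.card F)) (hg : TwoGen.{0})
    (hFT : ∀ (T : Type) [Group T] [Finite T], IsSimpleGroup T → (¬ ∀ a b : T, a * b = b * a) → 2 ∣ Nat.card T) :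
    240 * (LocK (PSp 2 F)).ncard ≤
      (61 * Fintype.card F ^ 4 + 1920 * (Fintype.card F + 1) ^ 6) * Fintype.card F ^ 16 := by
  have h1 := ncard_psp4_le (F := F) hodd hg hFT
  have h2 := card_PSp_four_le (F := F) hodd
  have hq : 0 < Fintype.card F := Fintype.card_pos
  generalize Fintype.card F = q at *
  generalize Nat.card (PSp 2 F) = N at *
  generalize (LocK (PSp 2 F)).ncard = c at *
  have h3 : (2 * N) ^ 2 ≤ (q ^ 10) ^ 2 := Nat.pow_le_pow_left h2 2
  have h4 : q ^ 4 * (240 * c) ≤ q ^ 4 * ((61 * q ^ 4 + 1920 * (q + 1) ^ 6) * q ^ 16) := by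
    calc q ^ 4 * (240 * c) = 4 * (60 * q ^ 4 * c) := by ring
      _ ≤ 4 * ((61 * q ^ 4 + 1920 * (q + 1) ^ 6) * N ^ 2) := Nat.mul_le_mul_left _ h1
      _ = (61 * q ^ 4 + 1920 * (q + 1) ^ 6) * (2 * N) ^ 2 := by ring
      _ ≤ (61 * q ^ 4 + 1920 * (q + 1) ^ 6) * (q ^ 10) ^ 2 := Nat.mul_le_mul_left _ h3
      _ = _ := by ring
  exact Nat.le_of_mul_le_mul_left h4 (by positivity)

/-- `q = 3` -/
theorem ncard_psp4_three (h3 : Fintype.card F = 3) (hg : TwoGen.{0})
    (hFT : ∀ (T : Type) [Group T] [Finite T], IsSimpleGroup T → (¬ ∀ a b : T, a * b = b * a) → 2 ∣ Nat.card T) :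
    (LocK (PSp 2 F)).ncard ≤ 218123863200 := by
  have hodd : Odd (Fintype.card F) := by rw [h3]; decide
  have hN := card_PSp_four (F := F) (u := 1) (by rw [h3])
  norm_num at hN
  obtain ⟨p, f, u, hp, hf, hpf, hu, hu1, hc⟩ := setting hodd
  have : Fact p.Prime := ⟨hp⟩
  have hp3 : p = 3 := by
    have h4 : p ∣ 3 := by
      rw [← h3, hpf]
      exact dvd_pow_self p hf
    exact (Nat.prime_dvd_prime_iff_eq hp Nat.prime_three).1 h4
  have h1 := ncard_psp4_sum (F := F) hodd (p := p) hg hFT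
  rw [hN, hp3] at h1
  refine h1.trans ?_
  have h5 := sum_three
  generalize ∑ s ∈ (25920 : ℕ).primeFactors.erase 3, (s ^ (25920 : ℕ).factorization s) ^ 4 = S at h5 ⊢
  norm_num
  omega

end Cfsg.Agent.H273.EPU
end

-- part: H273/EPU/Own
section
/-!
# S3499, own characteristic: `PSp₄(q)`, `q` odd, is too small for `PΩ₁₀^±(q)` (helper273, task 6156)

`own` : `EPT A Γ`, `soc(A) = PSp₄(q)`, `q` odd, contradict `q ^ 45 ≤ 8 |Q|`.
-/

set_option autoImplicit false

namespace Cfsg.Agent.H273.EPU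

open Subgroup Cfsg Cfsg.Agent.H284 Cfsg.Agent.H419.EP Cfsg.Agent.H59.EP

section num

theorem sq_le_pow {p f : ℕ} (hp : 3 ≤ p) : f ^ 2 ≤ p ^ f := by
  refine le_trans ?_ (Nat.pow_le_pow_left hp f)
  induction f with
  | zero => norm_num
  | succ f ih =>
    have e : 3 ^ (f + 1) = 3 ^ f * 3 := pow_succ 3 f
    rw [e]
    rcases Nat.lt_or_ge f 2 with h | h
    · interval_cases f <;> norm_num
    · nlinarith only [ih, h]

/-- the numbers, general form -/
theorem num_gen {a c n : ℕ} (hn : n ≤ a * (1 + c * (2 * (a / 6)))) : 3 * n ≤ 3 * a + c * a ^ 2 := by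
  have h2 : 6 * (a / 6) ≤ a := Nat.mul_div_le a 6
  calc 3 * n ≤ 3 * (a * (1 + c * (2 * (a / 6)))) := Nat.mul_le_mul_left _ hn
    _ = 3 * a + c * a * (6 * (a / 6)) := by ring
    _ ≤ 3 * a + c * a * a := Nat.add_le_add_left (Nat.mul_le_mul_left _ h2) _
    _ = _ := by ring

/-- the numbers, `q = 3` -/
theorem num_three {a n : ℕ} (ha : a ≤ 51840) (hn : 3 * n ≤ 3 * a + 218123863200 * a ^ 2) (hq : 3 ^ 45 ≤ 8 * n) :
    False := by
  have h1 : a ^ 2 ≤ 51840 ^ 2 := Nat.pow_le_pow_left ha 2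
  norm_num at h1 hq
  omega

/-- the numbers, `q = 5` -/
theorem num_five {a c n : ℕ} (ha : a ≤ 5 ^ 10) (hc : 240 * c ≤ (61 * 5 ^ 4 + 1920 * (5 + 1) ^ 6) * 5 ^ 16)
    (hn : 3 * n ≤ 3 * a + c * a ^ 2) (hq : 5 ^ 45 ≤ 8 * n) : False := by
  have h1 : a ^ 2 ≤ (5 ^ 10) ^ 2 := Nat.pow_le_pow_left ha 2
  have h2 : (240 * c) * a ^ 2 ≤ ((61 * 5 ^ 4 + 1920 * (5 + 1) ^ 6) * 5 ^ 16) * (5 ^ 10) ^ 2 := Nat.mul_le_mul hc h1
  have h3 : 720 * n ≤ 720 * a + (240 * c) * a ^ 2 := by
    calc 720 * n = 240 * (3 * n) := by ring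
      _ ≤ 240 * (3 * a + c * a ^ 2) := Nat.mul_le_mul_left _ hn
      _ = _ := by ring
  norm_num only [] at h1 h2 h3 hq ha
  omega

/-- the numbers, `q ≥ 7` -/
theorem num_seven {q f a c n : ℕ} (h7 : 7 ≤ q) (hf : f ^ 2 ≤ q) (ha : a ≤ f * q ^ 10)
    (hc : 240 * c ≤ (61 * q ^ 4 + 1920 * (q + 1) ^ 6) * q ^ 16) (hn : 3 * n ≤ 3 * a + c * a ^ 2)
    (hq : q ^ 45 ≤ 8 * n) : False := by
  have h1 : a ^ 2 ≤ q ^ 21 := by
    calc a ^ 2 ≤ (f * q ^ 10) ^ 2 := Nat.pow_le_pow_left ha 2
      _ = f ^ 2 * q ^ 20 := by ring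
      _ ≤ q * q ^ 20 := Nat.mul_le_mul_right _ hf
      _ = _ := by ring
  have h2 : 117649 * (q + 1) ^ 6 ≤ 262144 * q ^ 6 := by
    calc 117649 * (q + 1) ^ 6 = (7 * (q + 1)) ^ 6 := by ring
      _ ≤ (8 * q) ^ 6 := Nat.pow_le_pow_left (by omega) 6
      _ = _ := by ring
  have h4 : 49 * q ^ 4 ≤ q ^ 6 := by
    calc 49 * q ^ 4 = 7 ^ 2 * q ^ 4 := by norm_num
      _ ≤ q ^ 2 * q ^ 4 := Nat.mul_le_mul_right _ (Nat.pow_le_pow_left h7 2)
      _ = _ := by ring
  have h5 : 61 * q ^ 4 + 1920 * (q + 1) ^ 6 ≤ 4280 * q ^ 6 := by omega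
  have h6 : (240 * c) * a ^ 2 ≤ 4280 * q ^ 43 := by
    calc (240 * c) * a ^ 2 ≤ ((4280 * q ^ 6) * q ^ 16) * q ^ 21 :=
          Nat.mul_le_mul (hc.trans (Nat.mul_le_mul_right _ h5)) h1
      _ = _ := by ring
  have h7' : 16807 * a ≤ q ^ 43 := by
    have h8 : a ≤ a ^ 2 := Nat.le_self_pow (by norm_num) a
    calc 16807 * a ≤ 7 ^ 5 * q ^ 21 := by
          norm_num
          exact h8.trans h1
      _ ≤ q ^ 5 * q ^ 21 := Nat.mul_le_mul_right _ (Nat.pow_le_pow_left h7 5)
      _ = q ^ 26 := by ring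
      _ ≤ q ^ 43 := Nat.pow_le_pow_right (by omega) (by norm_num)
  have h9 : 49 * q ^ 43 ≤ q ^ 45 := by
    calc 49 * q ^ 43 = 7 ^ 2 * q ^ 43 := by norm_num
      _ ≤ q ^ 2 * q ^ 43 := Nat.mul_le_mul_right _ (Nat.pow_le_pow_left h7 2)
      _ = _ := by ring
  have h10 : 720 * n ≤ 720 * a + (240 * c) * a ^ 2 := by
    calc 720 * n = 240 * (3 * n) := by ring
      _ ≤ 240 * (3 * a + c * a ^ 2) := Nat.mul_le_mul_left _ hn
      _ = _ := by ring
  have h11 : 0 < q ^ 43 := by positivity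
  omega

end num

variable {F : Type} [Field F] [Fintype F]

/-- `|Aut PSp₄(q)|` -/
theorem card_mulAut_psp4 {p f : ℕ} (hp : p.Prime) (hf : f ≠ 0) (hF : Fintype.card F = p ^ f) (hodd : Odd (Fintype.card F)) :
    Nat.card (MulAut (PSp 2 F)) ≤ 2 * f * Nat.card (PSp 2 F) := by
  have : Fact p.Prime := ⟨hp⟩
  have h1 : 1 < Fintype.card F := Fintype.one_lt_card
  have h2 : 3 ≤ Fintype.card F := by
    obtain ⟨u, hu⟩ := hodd
    omega
  rw [Cfsg.Agent.S0814.result (F := F) p f (by omega) hF 2 le_rfl (fun _ => hF ▸ h2)]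
  have hp2 : p ≠ 2 := by
    rintro rfl
    rw [hF] at hodd
    exact absurd hodd (Nat.not_odd_iff_even.2 (Nat.even_pow.2 ⟨even_two, hf⟩))
  rw [if_neg (fun h => hp2 h.2), one_mul]
  exact Nat.mul_le_mul_right _ (Nat.mul_le_mul_right _ (Nat.gcd_le_left _ (by norm_num)))

/-- **own characteristic**: `PSp₄(q)`, `q` odd, is too small -/
theorem own {Q : Type*} [Group Q] [Finite Q] (hs : IsSimpleGroup Q) {A : Subgroup Q} {Γ : Subgroup (MulAut Q)}
    (h : EPT A Γ) (hg : TwoGen.{0})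
    (hFT : ∀ (T : Type) [Group T] [Finite T], IsSimpleGroup T → (¬ ∀ a b : T, a * b = b * a) → 2 ∣ Nat.card T)
    (hodd : Odd (Fintype.card F)) (hS : HasSoc A (PSp 2 F)) (hcard : Fintype.card F ^ 45 ≤ 8 * Nat.card Q) : False := by
  have hL := isSimple_psp4 (F := F) hodd
  have hnc := not_comm_psp4 (F := F) hodd
  have h3 : 3 ≤ Fintype.card F := by
    have h1 : 1 < Fintype.card F := Fintype.one_lt_card
    obtain ⟨u, hu⟩ := hodd
    omega
  have hr := Cfsg.Agent.H957.EP.ncard_le_locK_hasSoc h hS hL hnc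
    (Cfsg.Agent.H936.ds_psp (F := F) (m := 2) le_rfl (fun _ => by rw [Nat.card_eq_fintype_card]; exact h3))
  have hab : ∀ K : Subgroup Q, K ≤ A → (∀ a ∈ A, ∀ k ∈ K, a * k * a⁻¹ ∈ K) → (∀ a ∈ K, ∀ b ∈ K, a * b = b * a) →
      K = ⊥ := fun K hK hn hc => HasSoc.no_abelian hS hL hnc hK hn hc
  have h1 := Cfsg.Agent.H173.EP.ub1 hs h (by norm_num) (fun _ hx => EPT.six_le h hab hx)
  have h2 : Nat.card Q ≤ Nat.card A * (1 + (LocK (PSp 2 F)).ncard * (2 * (Nat.card A / 6))) := by
    rw [← A.card_mul_index]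
    exact Nat.mul_le_mul_left _ (h1.trans (Nat.add_le_add_left (Nat.mul_le_mul_right _ hr) _))
  have h4 := num_gen h2
  have hA := HasSoc.card_le hS
  obtain ⟨p, f, u, hp, hf, hpf, hu, hu1, hc⟩ := setting hodd
  have hA2 := hA.trans (card_mulAut_psp4 hp hf hpf hodd)
  have hN := card_PSp_four_le (F := F) hodd
  have hA3 : Nat.card A ≤ f * Fintype.card F ^ 10 := by
    refine hA2.trans ?_
    calc 2 * f * Nat.card (PSp 2 F) = f * (2 * Nat.card (PSp 2 F)) := by ring
      _ ≤ _ := Nat.mul_le_mul_left _ hN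
  have hp3 : 3 ≤ p := by
    have h2 := hp.two_le
    rcases Nat.lt_or_ge 2 p with h | h
    · exact h
    · have : p = 2 := by omega
      rw [hpf, this] at hodd
      exact absurd hodd (Nat.not_odd_iff_even.2 ((Nat.even_pow.2 ⟨even_two, hf⟩)))
  have hf2 : f ^ 2 ≤ Fintype.card F := by
    rw [hpf]
    exact sq_le_pow hp3
  have hcl := ncard_psp4_le' (F := F) hodd hg hFT
  rcases Nat.lt_or_ge (Fintype.card F) 7 with h7 | h7
  · -- `q = 3, 5`
    have h35 : Fintype.card F = 3 ∨ Fintype.card F = 5 := by (clear * - h3 hu h7; omega)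
    have hf1 : f = 1 := by
      have h8 : f ≤ 2 := by nlinarith only [hf2, h7]
      have h9 : f ≠ 2 := by
        rintro rfl
        rw [hpf] at h7
        nlinarith only [hp3, h7]
      omega
    subst hf1
    rcases h35 with h35 | h35
    · have hc3 := ncard_psp4_three (F := F) h35 hg hFT
      have hN3 := card_PSp_four (F := F) (u := 1) (by rw [h35])
      norm_num at hN3
      rw [hN3] at hA2
      rw [h35] at hcard
      refine num_three (a := Nat.card A) (n := Nat.card Q) (by omega) ?_ hcard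
      exact h4.trans (Nat.add_le_add_left (Nat.mul_le_mul_right _ hc3) _)
    · rw [h35] at hcard hcl hA3
      exact num_five (by rwa [one_mul] at hA3) hcl h4 hcard
  · exact num_seven h7 hf2 hA3 hcl h4 hcard

end Cfsg.Agent.H273.EPU
end

private theorem dce_629c97e527c3 : _root_.True := by
  try have : _root_.True := by simp only [_root_.Cfsg.Agent.H273.EPU.rho0.congr_simp]
  try have : _root_.True := by simp only [_root_.Cfsg.Agent.LieClassical.CliffordFive.rho.congr_simp]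
  try have : _root_.True := by simp only [_root_.Cfsg.Agent.H273.EPU.Vp.eq_1]
  try have : _root_.True := by simp only [_root_.Cfsg.Agent.H273.EPU.Vm.eq_1]
  exact _root_.True.intro
end
end
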